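import Cfsg.Agent.Lib.FieldAut.OrthBasic

/-!
# Moving carriers along isomorphisms of matrix groups

* `indEquiv` : an isomorphism of `GL`s matching two images gives an isomorphism of centre quotients
* `map_conjAut_range` : it matches the groups of induced conjugations
* `isConjUnder_map`, `centralizerMapEquiv`, `splitClassCount_map`, `inn_map` : transport along isomorphisms
-/

set_option autoImplicit false

namespace Cfsg.Agent.OrthEven

open Cfsg Cfsg.Agent
open scoped MatrixGroups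
open Cfsg.Agent.FieldAut (keep indAut conjAut indAut_mk mat_liftAut conjAut_apply omMat omMat_range)

section Ind

variable {ι ι' : Type} [Fintype ι] [DecidableEq ι] [Fintype ι'] [DecidableEq ι'] {F F' : Type*}
  [Field F] [Field F'] {H : Type*} {H' : Type*} [Group H] [Group H'] {mat : H →* GL ι F}
  {mat' : H' →* GL ι' F'} (hi : Function.Injective mat) (hi' : Function.Injective mat')
  (Ψ : GL ι F ≃* GL ι' F') (hΨ : mat.range.map Ψ.toMonoidHom = mat'.range)

/-- The isomorphism of the abstract groups. -/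
noncomputable def liftEquiv : H ≃* H' :=
  (MonoidHom.ofInjective hi).trans ((Ψ.subgroupMap mat.range).trans
    ((MulEquiv.subgroupCongr hΨ).trans (MonoidHom.ofInjective hi').symm))

theorem mat_liftEquiv (h : H) : mat' (liftEquiv hi hi' Ψ hΨ h) = Ψ (mat h) :=
  congrArg Subtype.val ((MonoidHom.ofInjective hi').apply_symm_apply _)

/-- The isomorphism of the centre quotients. -/
noncomputable def indEquiv : H ⧸ Subgroup.center H ≃* H' ⧸ Subgroup.center H' :=
  QuotientGroup.congr _ _ (liftEquiv hi hi' Ψ hΨ) (by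
    set e := liftEquiv hi hi' Ψ hΨ
    ext x
    constructor
    · rintro ⟨z, hz, rfl⟩
      rw [Subgroup.mem_center_iff]
      intro y
      obtain ⟨w, rfl⟩ := e.surjective y
      exact ((map_mul e w z).symm.trans (congrArg e (Subgroup.mem_center_iff.1 hz w))).trans
        (map_mul e z w)
    · intro hx
      refine ⟨e.symm x, Subgroup.mem_center_iff.2 fun w => ?_, e.apply_symm_apply x⟩
      apply e.injective
      rw [map_mul, map_mul, e.apply_symm_apply]
      exact Subgroup.mem_center_iff.1 hx _)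

theorem indEquiv_mk (h : H) : indEquiv hi hi' Ψ hΨ (QuotientGroup.mk h)
    = QuotientGroup.mk (liftEquiv hi hi' Ψ hΨ h) := rfl

theorem congr_indAut {ψ : keep mat} {ψ' : keep mat'} (h : ∀ x, ψ'.1 (Ψ x) = Ψ (ψ.1 x)) :
    MulAut.congr (indEquiv hi hi' Ψ hΨ) (indAut hi ψ) = indAut hi' ψ' := by
  refine MulEquiv.ext fun y => ?_
  obtain ⟨x, rfl⟩ := (indEquiv hi hi' Ψ hΨ).surjective y
  obtain ⟨k, rfl⟩ := QuotientGroup.mk_surjective x
  show indEquiv hi hi' Ψ hΨ (indAut hi ψ ((indEquiv hi hi' Ψ hΨ).symm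
    (indEquiv hi hi' Ψ hΨ (QuotientGroup.mk k)))) = _
  rw [MulEquiv.symm_apply_apply, indAut_mk, indEquiv_mk, indEquiv_mk, indAut_mk]
  refine congrArg _ (hi' ?_)
  rw [mat_liftEquiv, mat_liftAut, mat_liftAut, mat_liftEquiv, h]

theorem map_conjAut_range (S : Subgroup (GL ι F)) (hS : ∀ g ∈ S, MulAut.conj g ∈ keep mat)
    (S' : Subgroup (GL ι' F')) (hS' : ∀ g ∈ S', MulAut.conj g ∈ keep mat')
    (hSS : ∀ g, Ψ g ∈ S' ↔ g ∈ S) :
    (conjAut hi S hS).range.map (MulAut.congr (indEquiv hi hi' Ψ hΨ)).toMonoidHom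
      = (conjAut hi' S' hS').range := by
  have key : ∀ (g : S), MulAut.congr (indEquiv hi hi' Ψ hΨ) (conjAut hi S hS g)
      = conjAut hi' S' hS' ⟨Ψ g.1, (hSS _).2 g.2⟩ := fun g => by
    rw [conjAut_apply, conjAut_apply]
    exact congr_indAut hi hi' Ψ hΨ fun x => by simp
  ext β
  constructor
  · rintro ⟨_, ⟨g, rfl⟩, rfl⟩
    exact ⟨_, (key g).symm⟩
  · rintro ⟨g, rfl⟩
    refine ⟨_, ⟨⟨Ψ.symm g.1, (hSS _).1 (by rw [Ψ.apply_symm_apply]; exact g.2)⟩, rfl⟩, ?_⟩
    refine (key _).trans (congrArg _ (Subtype.ext ?_))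
    exact Ψ.apply_symm_apply _

end Ind

theorem omMat_range_map {ι ι' : Type} [Fintype ι] [DecidableEq ι] [Fintype ι'] [DecidableEq ι']
    {F F' : Type*} [Field F] [Field F'] {Qf : (ι → F) → F} {Qf' : (ι' → F') → F'}
    (Ψ : GL ι F ≃* GL ι' F')
    (h : ∀ g, Ψ g ∈ isometryGroup F' Qf' ↔ g ∈ isometryGroup F Qf) :
    (omMat Qf).range.map Ψ.toMonoidHom = (omMat Qf').range := by
  have hI : (isometryGroup F Qf).map Ψ.toMonoidHom = isometryGroup F' Qf' := by
    ext x
    constructor
    · rintro ⟨g, hg, rfl⟩; exact (h g).2 hg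
    · exact fun hx => ⟨Ψ.symm x, (h _).1 (by rw [Ψ.apply_symm_apply]; exact hx), Ψ.apply_symm_apply x⟩
  rw [omMat_range, omMat_range, Subgroup.map_commutator, hI]

section Transport

variable {X Y : Type*} [Group X] [Group Y] (f : X ≃* Y) {H : Subgroup X} {H' : Subgroup Y}
  (hH : H.map f.toMonoidHom = H')

include hH in
theorem mem_map_iff' (x : X) : f x ∈ H' ↔ x ∈ H := by
  rw [← hH]
  exact Subgroup.mem_map_iff_mem f.injective

include hH in
theorem isConjUnder_map (x y : X) : IsConjUnder H' (f x) (f y) ↔ IsConjUnder H x y := by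
  constructor
  · rintro ⟨h, hh, e⟩
    obtain ⟨g, rfl⟩ := f.surjective h
    exact ⟨g, (mem_map_iff' f hH g).1 hh, f.injective (by rw [e, map_mul, map_mul, map_inv])⟩
  · rintro ⟨h, hh, rfl⟩
    exact ⟨f h, (mem_map_iff' f hH h).2 hh, by rw [map_mul, map_mul, map_inv]⟩

/-- Centralisers correspond. -/
def centralizerMapEquiv (x : X) :
    ↥(H ⊓ Subgroup.centralizer {x}) ≃* ↥(H' ⊓ Subgroup.centralizer {f x}) where
  toFun h := ⟨f h.1, (mem_map_iff' f hH _).2 h.2.1, Subgroup.mem_centralizer_singleton_iff.2 (by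
    rw [← map_mul, ← map_mul, Subgroup.mem_centralizer_singleton_iff.1 h.2.2])⟩
  invFun h := ⟨f.symm h.1, (mem_map_iff' f hH _).1 (by rw [f.apply_symm_apply]; exact h.2.1),
    Subgroup.mem_centralizer_singleton_iff.2 (f.injective (by
      rw [map_mul, map_mul, f.apply_symm_apply]
      exact Subgroup.mem_centralizer_singleton_iff.1 h.2.2))⟩
  left_inv h := Subtype.ext (f.symm_apply_apply _)
  right_inv h := Subtype.ext (f.apply_symm_apply _)
  map_mul' h k := Subtype.ext (map_mul f _ _)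

include hH in
theorem splitClassCount_map {K : Subgroup X} {K' : Subgroup Y} (hK : K.map f.toMonoidHom = K')
    (x : X) : splitClassCount H K x = splitClassCount H' K' (f x) :=
  Nat.card_congr (Quot.congr (f.toEquiv.subtypeEquiv fun y => (isConjUnder_map f hH x y).symm)
    fun y z => (isConjUnder_map f hK y.1 z.1).symm)

end Transport

theorem inn_map {X Y : Type*} [Group X] [Group Y] (ψ : X ≃* Y) :
    (Inn X).map (MulAut.congr ψ).toMonoidHom = Inn Y := by
  ext β
  constructor
  · rintro ⟨_, ⟨x, rfl⟩, rfl⟩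
    exact ⟨ψ x, MulEquiv.ext fun y => by simp [MulAut.congr]⟩
  · rintro ⟨y, rfl⟩
    obtain ⟨x, rfl⟩ := ψ.surjective y
    exact ⟨_, ⟨x, rfl⟩, MulEquiv.ext fun z => by simp [MulAut.congr]⟩

end Cfsg.Agent.OrthEven
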