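import Cfsg.Agent.Lib.OrthEven.Models

/-!
# The class parity of the models under base change

* `par_eq_rank`, `par_mapGL` : the parity of a plus matrix survives any field extension
* `conjL_mapGL` : change of coordinates commutes with base change
* `preservesMinus_of_dvd` : any extension of even degree decides the parity of a minus similarity
* `minusS_map` : semilinear similarities between minus forms map class preserving groups to each other
-/

set_option autoImplicit false
set_option linter.style.haveILetI false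

namespace Cfsg.Agent.OrthEven

open Cfsg Cfsg.Agent Module
open scoped Matrix MatrixGroups
open Cfsg.Agent.Orth (Aniso Good quadPlus quadMinus IsoGrp refl)
open Cfsg.Agent.FieldAut (galGL mapGL scal)

theorem rank_map {ι : Type} [Fintype ι] [DecidableEq ι] {K K' : Type*} [Field K] [Field K']
    (e : K →+* K') (M : Matrix ι ι K) : (M.map e).rank = M.rank := by
  classical
  obtain ⟨V, U, ε, hV, hU, h⟩ := Matrix.exists_rank_normal_form M
  have hV' := hV.map e.mapMatrix
  have hU' := hU.map e.mapMatrix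
  have h1 := congrArg (fun A => A.map e) h
  simp only [Matrix.map_mul] at h1
  rw [← Matrix.diagonal_one, ← Matrix.diagonal_zero, Matrix.fromBlocks_diagonal,
    Matrix.submatrix_diagonal_equiv] at h h1
  rw [Matrix.diagonal_map (map_zero e)] at h1
  rw [← Matrix.rank_mul_eq_right_of_isUnit_det (V.map e) (M.map e)
      ((Matrix.isUnit_iff_isUnit_det _).1 hV'),
    ← Matrix.rank_mul_eq_left_of_isUnit_det (U.map e) (V.map e * M.map e)
      ((Matrix.isUnit_iff_isUnit_det _).1 hU'), h1]
  conv_rhs => rw [← Matrix.rank_mul_eq_right_of_isUnit_det V M ((Matrix.isUnit_iff_isUnit_det _).1 hV),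
    ← Matrix.rank_mul_eq_left_of_isUnit_det U (V * M) ((Matrix.isUnit_iff_isUnit_det _).1 hU), h]
  rw [Matrix.rank_diagonal, Matrix.rank_diagonal]
  exact Fintype.card_congr (Equiv.subtypeEquivRight fun i => (map_eq_zero e).not)

variable {m : ℕ}

theorem par_eq_rank {K : Type*} [Field K] (M : GL (Fin m ⊕ Fin m) K) :
    par (baseU m K) M = (-1) ^ (M.1.toBlocks₂₁).rank := by
  set C := M.1.toBlocks₂₁ with hC
  let emb : (Fin m → K) →ₗ[K] (Fin m ⊕ Fin m → K) :=
    { toFun := fun x => Sum.elim x 0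
      map_add' := fun x y => funext fun s => by cases s <;> simp
      map_smul' := fun c x => funext fun s => by cases s <;> simp }
  let T : (Fin m → K) →ₗ[K] (Fin m ⊕ Fin m → K) := Matrix.mulVecLin M.1 ∘ₗ emb
  have hT : Function.Injective T := fun x y h => by
    have h1 := Matrix.mulVec_injective_of_isUnit M.isUnit (h : M.1 *ᵥ emb x = M.1 *ᵥ emb y)
    exact funext fun i => congrFun h1 (.inl i)
  have hbot : ∀ x i, (M.1 *ᵥ emb x) (.inr i) = (C *ᵥ x) i := fun x i => by
    simp [Matrix.mulVec, dotProduct, hC, Matrix.toBlocks₂₁, emb]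
  have hmap : (LinearMap.ker C.mulVecLin).map T
      = baseU m K ⊓ (baseU m K).map (Matrix.toLin' M.1) := by
    ext w
    constructor
    · rintro ⟨x, hx, rfl⟩
      refine ⟨mem_baseU.2 fun i => ?_, emb x, mem_baseU.2 fun i => rfl, Matrix.toLin'_apply _ _⟩
      show (M.1 *ᵥ emb x) (.inr i) = 0
      rw [hbot]
      exact congrFun (LinearMap.mem_ker.1 hx) i
    · rintro ⟨hw, u, hu, rfl⟩
      have hu' : emb (fun i => u (.inl i)) = u := funext fun s => by
        cases s with
        | inl i => rfl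
        | inr i => exact (mem_baseU.1 hu i).symm
      refine ⟨fun i => u (.inl i), LinearMap.mem_ker.2 (funext fun i => ?_), ?_⟩
      · rw [Matrix.mulVecLin_apply, ← hbot, hu', ← Matrix.toLin'_apply]
        exact mem_baseU.1 hw i
      · show M.1 *ᵥ emb _ = Matrix.toLin' M.1 u
        rw [hu', Matrix.toLin'_apply]
  have h1 := LinearMap.finrank_range_add_finrank_ker C.mulVecLin
  rw [Module.finrank_fintype_fun_eq_card, Fintype.card_fin] at h1
  rw [par, cls, ← hmap, ← (Submodule.equivMapOfInjective T hT _).finrank_eq,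
    show finrank K (baseU m K) = m from (OrthAct.base_subspace_facts (F := K) m).1, Matrix.rank]
  congr 1
  omega

theorem par_mapGL {K K' : Type*} [Field K] [Field K'] (e : K →+* K')
    (M : GL (Fin m ⊕ Fin m) K) : par (baseU m K') (mapGL e M) = par (baseU m K) M := by
  rw [par_eq_rank, par_eq_rank, ← rank_map e]
  rfl

theorem conjL_mapGL {ι ι' : Type} [Fintype ι] [DecidableEq ι] [Fintype ι'] [DecidableEq ι']
    {K K' : Type*} [Field K] [Field K'] (e : K →+* K') (L : (ι → K) ≃ₗ[K] (ι' → K))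
    (L' : (ι → K') ≃ₗ[K'] (ι' → K')) (hL : ∀ v, L' (e ∘ v) = e ∘ L v) (M : GL ι K) :
    conjL L' (mapGL e M) = mapGL e (conjL L M) := by
  refine Units.ext (Matrix.ext_of_mulVec_single fun s => ?_)
  have hs : e ∘ (Pi.single s (1 : K)) = (Pi.single s (1 : K') : ι' → K') := by
    funext j; simp [Pi.single_apply, apply_ite e]
  obtain ⟨u, hu⟩ := L.surjective (Pi.single s 1)
  rw [← hs, FieldAut.mapGL_coe (e := e) (conjL L M), map_mulVec_comp, ← hu, conjL_mulVec, ← hL,
    conjL_mulVec, FieldAut.mapGL_coe, map_mulVec_comp, hL]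

theorem planeMap_comp {K K' : Type*} [Field K] [Field K'] (e : K →+* K') (θ θ' : K)
    (v : (Fin m ⊕ Fin m) ⊕ Fin 2 → K) :
    planeMap m (e θ) (e θ') (e ∘ v) = e ∘ planeMap m θ θ' v := by
  funext s
  rcases s with i | i <;> refine Fin.lastCases ?_ (fun j => ?_) i <;> simp [planeMap]

/-! ### The minus model -/

universe u

variable {E : Type u} [Field E] [Finite E] {a b : E}

/-- An extension of even degree decides. -/
theorem preservesMinus_of_dvd (hm : 2 ≤ m) (hab : Aniso a b)
    {g : GL ((Fin m ⊕ Fin m) ⊕ Fin 2) E}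
    (hg : g ∈ Geo.quadSimilarityGroup (F := E) (quadFormMinus m E a b))
    (K : Type*) [Field K] [Finite K] [Algebra E K] (h2 : 2 ∣ finrank E K) :
    PreservesSingularClassesMinus m a b g.1 ↔
      PreservesSingularClasses (quadFormMinus m K (algebraMap E K a) (algebraMap E K b))
        (g.1.map (algebraMap E K)) := by
  obtain ⟨K₁, _, _, h₁, -⟩ := exists_quadratic_ext hab
  haveI : FiniteDimensional E K₁ := FiniteDimensional.of_finrank_eq_succ h₁
  haveI : Finite K₁ := Module.finite_of_finite E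
  obtain ⟨φ⟩ := FiniteField.nonempty_algHom_of_finrank_dvd (F := E) (K := K₁) (L := K)
    (by rwa [h₁])
  obtain ⟨θ, θ', hne, hs, hp⟩ := exists_roots hab K₁ h₁
  have hφ : ∀ x, φ (algebraMap E K₁ x) = algebraMap E K x := φ.commutes
  obtain ⟨L₁, hL₁v, hL₁⟩ := exists_planeEquiv m hne
  obtain ⟨L, hLv, hL⟩ := exists_planeEquiv m (show φ.toRingHom θ ≠ φ.toRingHom θ' from
    φ.toRingHom.injective.ne hne)
  have hs' : φ.toRingHom θ + φ.toRingHom θ' = algebraMap E K a := by rw [← map_add, hs]; exact hφ a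
  have hp' : φ.toRingHom θ * φ.toRingHom θ' = algebraMap E K b := by rw [← map_mul, hp]; exact hφ b
  rw [preservesMinus_iff hm hab hg K₁ h₁, preservesK_iff hm _ hs hp hL₁ hg,
    preservesK_iff hm _ hs' hp' hL hg, ← par_mapGL φ.toRingHom,
    ← conjL_mapGL φ.toRingHom L₁ L fun v => by rw [hLv, hL₁v, planeMap_comp]]
  have he : mapGL φ.toRingHom (mapGL (algebraMap E K₁) g) = mapGL (algebraMap E K) g := by
    ext i j; exact hφ _
  rw [he]

omit [Finite E] in
theorem isMax_smul {ι : Type} {K : Type*} [Field K] {c : K} (hc : c ≠ 0) (Qf : (ι → K) → K)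
    (U : Submodule K (ι → K)) :
    IsMaxTotallySingular (fun v => c * Qf v) U ↔ IsMaxTotallySingular Qf U := by
  simp [IsMaxTotallySingular, Geo.IsTotallySingularQuad, hc]

omit [Finite E] in
theorem preserves_smul {ι : Type} [Fintype ι] [DecidableEq ι] {K : Type*} [Field K] {c : K}
    (hc : c ≠ 0) (Qf : (ι → K) → K) (g : Matrix ι ι K) :
    PreservesSingularClasses (fun v => c * Qf v) g ↔ PreservesSingularClasses Qf g := by
  simp only [PreservesSingularClasses, isMax_smul hc]

omit [Finite E] in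
theorem aniso_map {E' : Type*} [Field E'] (σ : E ≃+* E') (hab : Aniso a b) :
    Aniso (σ a) (σ b) := fun x y h => by
  obtain ⟨h1, h2⟩ := hab (σ.symm x) (σ.symm y) (by
    apply σ.injective
    simpa using h)
  exact ⟨by simpa using h1, by simpa using h2⟩

omit [Finite E] in
theorem minusQ_comp {E' : Type*} [Field E'] (σ : E →+* E') (v : (Fin m ⊕ Fin m) ⊕ Fin 2 → E) :
    quadFormMinus m E' (σ a) (σ b) (σ ∘ v) = σ (quadFormMinus m E a b v) := by
  simp [quadFormMinus]

/-- Field automorphisms map the class preserving group to the one of the image form. -/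
theorem minusS_galGL (hm : 2 ≤ m) (hab : Aniso a b) (σ : E ≃+* E)
    {g : GL ((Fin m ⊕ Fin m) ⊕ Fin 2) E} (hg : g ∈ minusS m a b hm hab) :
    galGL σ g ∈ minusS m (σ a) (σ b) hm (aniso_map σ hab) := by
  obtain ⟨⟨c, hc⟩, hp⟩ := hg
  refine ⟨⟨Units.map σ.toMonoidHom c, fun v => ?_⟩, ?_⟩
  · obtain ⟨w, rfl⟩ : ∃ w, v = σ ∘ w := ⟨σ.symm ∘ v, funext fun i => (σ.apply_symm_apply _).symm⟩
    have h1 : ∀ u : (Fin m ⊕ Fin m) ⊕ Fin 2 → E,
        quadFormMinus m E (σ a) (σ b) (σ ∘ u) = σ (quadFormMinus m E a b u) :=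
      minusQ_comp σ.toRingHom
    rw [FieldAut.galGL_mulVec, h1, hc, map_mul, h1]
    rfl
  obtain ⟨K, iK, iA, h2, -⟩ := exists_quadratic_ext (aniso_map σ hab)
  let iA' : Algebra E K := ((@algebraMap E K _ _ iA).comp σ.toRingHom).toAlgebra
  have h2' : @finrank E K _ _ iA'.toModule = 2 := by
    rw [← h2]
    refine @Algebra.finrank_eq_of_equiv_equiv E K _ _ iA' E K _ _ iA σ (RingEquiv.refl K) ?_
    exact RingHom.ext fun x => rfl
  have h := (@preservesMinus_iff m E _ _ a b hm hab g ⟨c, hc⟩ K iK iA' h2').1 hp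
  refine ⟨K, iK, iA, h2, ?_⟩
  rw [FieldAut.galGL_apply_coe, Matrix.map_map]
  exact h

/-- Semilinear similarities between minus forms exchange the class preserving groups. -/
theorem minusS_map (hm : 2 ≤ m) {a' b' : E} (hab : Aniso a b) (hab' : Aniso a' b') {σ : E ≃+* E}
    {g : GL ((Fin m ⊕ Fin m) ⊕ Fin 2) E} {c : Eˣ}
    (hs : ∀ v, quadFormMinus m E a b (g.1 *ᵥ (σ ∘ v)) = c * σ (quadFormMinus m E a' b' v))
    {x : GL ((Fin m ⊕ Fin m) ⊕ Fin 2) E} (hx : x ∈ minusS m a' b' hm hab') :
    g * galGL σ x * g⁻¹ ∈ minusS m a b hm hab := by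
  classical
  obtain ⟨⟨d, hd⟩, hp⟩ := minusS_galGL hm hab' σ hx
  set y := galGL σ x
  have hl : ∀ w, quadFormMinus m E a b (g.1 *ᵥ w) = c * quadFormMinus m E (σ a') (σ b') w := by
    intro w
    obtain ⟨v, rfl⟩ : ∃ v, w = σ ∘ v := ⟨σ.symm ∘ w, funext fun i => (σ.apply_symm_apply _).symm⟩
    rw [hs]
    exact congrArg _ (minusQ_comp σ.toRingHom v).symm
  have hsim : g * y * g⁻¹ ∈ Geo.quadSimilarityGroup (F := E) (quadFormMinus m E a b) := by
    refine ⟨d, fun v => ?_⟩
    rw [Units.val_mul, Units.val_mul, ← Matrix.mulVec_mulVec, ← Matrix.mulVec_mulVec, hl, hd,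
      mul_left_comm, ← hl, Matrix.mulVec_mulVec, ← Units.val_mul, mul_inv_cancel, Units.val_one,
      Matrix.one_mulVec]
  refine ⟨hsim, ?_⟩
  obtain ⟨K, iK, iA, h2, -⟩ := exists_quadratic_ext hab
  haveI : FiniteDimensional E K := FiniteDimensional.of_finrank_eq_succ h2
  haveI : Finite K := Module.finite_of_finite E
  have : Fintype K := Fintype.ofFinite K
  have hy := (preservesMinus_iff hm (aniso_map σ hab') ⟨d, hd⟩ K h2).1 hp
  rw [preservesMinus_iff hm hab hsim K h2]
  set e := algebraMap E K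
  set G := mapGL e g
  have hG : ∀ w, quadFormMinus m K (e a) (e b) (Forms.glLinEquiv G w)
      = e c * quadFormMinus m K (e (σ a')) (e (σ b')) w := by
    have key : (quadMinus m K (e a) (e b)).comp (Matrix.mulVecLin G.1)
        = e (c : E) • quadMinus m K (e (σ a')) (e (σ b')) := by
      refine FieldAut.quadForm_ext_of_subfield e _ _ fun v => ?_
      show quadFormMinus m K (e a) (e b) (G.1 *ᵥ (e ∘ v))
        = e c * quadFormMinus m K (e (σ a')) (e (σ b')) (e ∘ v)
      rw [FieldAut.mapGL_coe, map_mulVec_comp, minusQ_comp, minusQ_comp, hl, map_mul]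
    intro w
    rw [Forms.glLinEquiv_apply]
    exact QuadraticMap.congr_fun key w
  have h1 := (preserves_congr (Forms.glLinEquiv G)
      (fun w => e c * quadFormMinus m K (e (σ a')) (e (σ b')) w) _ hG (g := mapGL e y)).2
    ((preserves_smul ((map_ne_zero e).2 c.ne_zero) _ _).2 hy)
  have h3 : conjL (Forms.glLinEquiv G) (mapGL e y) = mapGL e (g * y * g⁻¹) := by
    refine Units.ext (Matrix.mulVec_injective (funext fun w => ?_))
    obtain ⟨v, rfl⟩ := (Forms.glLinEquiv G).surjective w
    rw [conjL_mulVec, Forms.glLinEquiv_apply, Forms.glLinEquiv_apply, Matrix.mulVec_mulVec,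
      Matrix.mulVec_mulVec, ← Units.val_mul, ← Units.val_mul]
    simp [G]
  rw [h3] at h1
  exact h1

end Cfsg.Agent.OrthEven
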