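import Cfsg.Agent.Lib.OrthEven.Twist
import Cfsg.Agent.Lib.OrthEven.Rank
import Cfsg.Agent.Lib.OrthEven.Carrier
import Cfsg.Agent.Lib.AutPOmega.Instances
import Cfsg.Agent.Lib.AutPSL.Count

/-!
# Field and graph-field automorphisms of the even-dimensional groups

* `phiP`, `cA`, `phi_cA`, `exists_decomp`, `cA_phi_eq_one`
* `inndiagPlus_normal`, `inndiagMinus_normal`, `inndiagMinus_congr`
* `plus_field_reduce`, `plus_field_coset`, `gf_normal_form`, `gf_conj`, `gf_coset`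
* `minus_field_reduce`, `minus_field_coset`
-/

set_option autoImplicit false
set_option linter.style.haveILetI false
set_option linter.unusedSectionVars false

namespace Cfsg.Agent.OrthEven

open Cfsg Cfsg.Agent Module
open scoped Matrix MatrixGroups
open Cfsg.Agent.Orth (IsoGrp Aniso Good quadPlus quadMinus ap refl)
open Cfsg.Agent.FieldAut (galGL mapGL omMat omMat_injective scal twNorm CoeffFixed Rigid keep indAut
  conjAut conjAut_apply keep_conj_sim keep_gal_om Setup galGL_sim omRigid isInd_iff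
  isInd_fieldAut_om isInd_semilinear_om)

theorem ringAut_isCyclic (F : Type*) [Field F] [Finite F] : IsCyclic (F ≃+* F) := by
  have := Fintype.ofFinite F
  obtain ⟨p, hp⟩ := CharP.exists F
  obtain ⟨n, hn, hc⟩ := FiniteField.card F p
  haveI := Fact.mk hn
  exact (AutPSL.fieldAut_facts p n n.2 hc).1

theorem ringAut_comm {F : Type*} [Field F] [Finite F] (σ τ : F ≃+* F) : σ * τ = τ * σ := by
  haveI := ringAut_isCyclic F
  obtain ⟨γ, hγ⟩ := IsCyclic.exists_generator (α := F ≃+* F)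
  obtain ⟨i, rfl⟩ := hγ σ
  obtain ⟨j, rfl⟩ := hγ τ
  exact ((Commute.refl γ).zpow_zpow i j).eq

theorem ringAut_involution_unique {F : Type*} [Field F] [Finite F] {σ τ : F ≃+* F}
    (hσ : orderOf σ = 2) (hτ : orderOf τ = 2) : σ = τ := by
  classical
  haveI := ringAut_isCyclic F
  haveI : Finite (F ≃+* F) := Finite.of_injective (fun e => (e : F → F)) DFunLike.coe_injective
  haveI := Fintype.ofFinite (F ≃+* F)
  have h2 : 2 ∣ Fintype.card (F ≃+* F) := hσ ▸ orderOf_dvd_card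
  have hc := IsCyclic.card_orderOf_eq_totient h2
  rw [Nat.totient_two, Finset.card_eq_one] at hc
  obtain ⟨x, hx⟩ := hc
  have h1 : ∀ y : F ≃+* F, orderOf y = 2 → y = x := fun y hy =>
    Finset.mem_singleton.1 (hx ▸ Finset.mem_filter.2 ⟨Finset.mem_univ _, hy⟩)
  rw [h1 σ hσ, h1 τ hτ]

theorem mem_iff_of_maps {G : Type*} [Group G] [Finite G] (ψ : MulAut G) (S : Subgroup G)
    (h : ∀ x ∈ S, ψ x ∈ S) (x : G) : ψ x ∈ S ↔ x ∈ S := by
  have heq := Subgroup.eq_of_le_of_card_ge (show S.map ψ.toMonoidHom ≤ S by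
      rintro _ ⟨a, ha, rfl⟩; exact h a ha)
    (le_of_eq (Nat.card_congr (S.equivMapOfInjective _ ψ.injective).toEquiv))
  refine ⟨fun hx => ?_, h x⟩
  rw [← heq] at hx
  obtain ⟨y, hy, hyx⟩ := hx
  exact ψ.injective hyx ▸ hy

/-! ### The semilinear action -/

section General

variable {ι : Type} [Fintype ι] [DecidableEq ι] {F : Type*} [Field F]

/-- The automorphism induced by an entrywise field automorphism fixing the coefficients. -/
noncomputable def phiP {Qf : (ι → F) → F} {σ : F ≃+* F} (hσ : CoeffFixed Qf σ) :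
    MulAut (POmega F Qf) :=
  indAut omMat_injective ⟨galGL σ, keep_gal_om hσ⟩

/-- The automorphisms induced by similarities. -/
noncomputable def cA (Qf : (ι → F) → F) :
    Geo.quadSimilarityGroup (F := F) Qf →* MulAut (POmega F Qf) :=
  conjAut omMat_injective (Geo.quadSimilarityGroup (F := F) Qf) fun _ => keep_conj_sim

variable {Qf : (ι → F) → F}

theorem phiP_mul {σ τ : F ≃+* F} (hσ : CoeffFixed Qf σ) (hτ : CoeffFixed Qf τ)
    (hστ : CoeffFixed Qf (σ * τ)) : phiP hσ * phiP hτ = phiP hστ := by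
  rw [phiP, phiP, phiP, ← map_mul]
  exact congrArg _ (Subtype.ext (map_mul galGL σ τ).symm)

theorem phi_cA {σ : F ≃+* F} (hσ : CoeffFixed Qf σ) (g : Geo.quadSimilarityGroup (F := F) Qf) :
    phiP hσ * cA Qf g = cA Qf ⟨galGL σ g.1, galGL_sim hσ g.2⟩ * phiP hσ := by
  rw [phiP, cA, conjAut_apply, conjAut_apply, ← map_mul, ← map_mul]
  exact congrArg _ (Subtype.ext (MulEquiv.ext fun x => by simp [MulAut.mul_apply, MulAut.conj_apply]))

theorem isFieldAut_iff {σ : F ≃+* F} (hσ : CoeffFixed Qf σ) (β : MulAut (POmega F Qf)) :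
    IsFieldAutPOmegaOf Qf σ β ↔ β = phiP hσ :=
  (isInd_fieldAut_om σ β).trans (isInd_iff omMat_injective (keep_gal_om hσ))

theorem isConjInduced_iff {g : GL ι F} (hg : g ∈ Geo.quadSimilarityGroup (F := F) Qf)
    (β : MulAut (POmega F Qf)) :
    IsInducedBySemilinearPOmega Qf g (RingEquiv.refl F) β ↔ β = cA Qf ⟨g, hg⟩ := by
  rw [isInd_semilinear_om, show galGL (RingEquiv.refl F) = (1 : MulAut (GL ι F)) from map_one galGL,
    mul_one]
  exact isInd_iff omMat_injective (keep_conj_sim hg)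

variable [Fintype F] {Q : QuadraticForm F (ι → F)}

theorem rigid_of_base (H : AutPOmega.Base Q) : Rigid (omMat ⇑Q) :=
  omRigid H.nd (by have := H.seven; omega)

theorem rigid_of_hyp (H : AutPOmega.Hyp Q) : Rigid (omMat ⇑Q) := rigid_of_base H.toBase

theorem semisim_of_sim {σ : F ≃+* F} (hσ : CoeffFixed ⇑Q σ) {g : GL ι F}
    (hg : g ∈ Geo.quadSimilarityGroup (F := F) ⇑Q) : IsSemisimilarityPair ⇑Q g σ := by
  obtain ⟨c, hc⟩ := hg
  exact ⟨c, fun v => (hc _).trans (congrArg _ (hσ v))⟩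

theorem cA_phi_eq_one_base (H : AutPOmega.Base Q) {σ : F ≃+* F} (hσ : CoeffFixed ⇑Q σ)
    {g : Geo.quadSimilarityGroup (F := F) ⇑Q} (h1 : cA ⇑Q g * phiP hσ = 1) :
    σ = 1 ∧ g.1 ∈ Geo.scalars ι F := by
  refine AutPOmega.semi_eq_one H (semisim_of_sim hσ g.2) (Eq.trans ?_ h1)
  rw [AutPOmega.semiAut, cA, phiP, conjAut_apply, ← map_mul]
  rfl

theorem cA_phi_eq_one (H : AutPOmega.Hyp Q) {σ : F ≃+* F} (hσ : CoeffFixed ⇑Q σ)
    {g : Geo.quadSimilarityGroup (F := F) ⇑Q} (h1 : cA ⇑Q g * phiP hσ = 1) :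
    σ = 1 ∧ g.1 ∈ Geo.scalars ι F := cA_phi_eq_one_base H.toBase hσ h1

theorem phiP_one {h1 : CoeffFixed Qf (1 : F ≃+* F)} : phiP h1 = 1 := by
  rw [phiP]
  exact (congrArg _ (Subtype.ext (map_one galGL) : (⟨galGL 1, keep_gal_om h1⟩ : keep (omMat Qf)) = 1)).trans
    (map_one _)

theorem orderOf_aut_eq_base (H : AutPOmega.Base Q) {σ : F ≃+* F} (hσ : CoeffFixed ⇑Q σ)
    (hσr : ∀ n : ℕ, CoeffFixed ⇑Q (σ ^ n)) (hne : σ ≠ 1) {r : ℕ} (hr : r.Prime)
    (h : phiP hσ ^ r = 1) : orderOf σ = r := by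
  refine @orderOf_eq_prime _ _ σ r ⟨hr⟩ ?_ hne
  refine (cA_phi_eq_one_base H (hσr r) (g := 1) ?_).1
  rw [map_one, one_mul, ← h, phiP, phiP, ← map_pow]
  exact congrArg _ (Subtype.ext (map_pow galGL σ r))

theorem orderOf_aut_eq (H : AutPOmega.Hyp Q) {σ : F ≃+* F} (hσ : CoeffFixed ⇑Q σ)
    (hσr : ∀ n : ℕ, CoeffFixed ⇑Q (σ ^ n)) (hne : σ ≠ 1) {r : ℕ} (hr : r.Prime)
    (h : phiP hσ ^ r = 1) : orderOf σ = r := orderOf_aut_eq_base H.toBase hσ hσr hne hr h

end General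

/-! ### Plus type -/

section Plus

variable {F : Type*} [Field F] [Fintype F] {k : ℕ}

local notation "I" => Fin (k + 1) ⊕ Fin (k + 1)
local notation "QPf" => quadFormPlus (k + 1) F
local notation "SimP" => Geo.quadSimilarityGroup (F := F) (quadFormPlus (k + 1) F)

theorem inndiagPlus_normal (hk : 4 ≤ k) (α : MulAut (POmega F QPf)) :
    α ∈ Subgroup.normalizer (inndiagPOmegaPlus (k + 1) F : Set (MulAut (POmega F QPf))) := by
  have hS := splitPlus (F := F) (show 3 ≤ k + 1 by omega)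
  have hle : gammaPOmega F QPf ≤ Subgroup.normalizer
      (inndiagPOmegaPlus (k + 1) F : Set (MulAut (POmega F QPf))) := by
    rw [inndiagPlus_range (show 3 ≤ k + 1 by omega)]
    refine FieldAut.gamma_le_normalizer _ _ _ _ fun β ⟨g, σ, hg, hβ⟩ => ?_
    have hσ := coeffFixed_plus (m := k + 1) σ
    have hg' := FieldAut.sim_of_semisimilarity hσ hg
    refine ⟨⟨MulAut.conj g * galGL σ, mul_mem (keep_conj_sim hg') (keep_gal_om hσ)⟩,
      mem_iff_of_maps _ _ fun x hx => ?_, (isInd_semilinear_om g σ β).1 hβ⟩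
    have hx' := plusS_stable (by omega) σ hx
    refine ⟨mul_mem (mul_mem hg' hx'.1) (inv_mem hg'), ?_⟩
    show par _ (g * galGL σ x * g⁻¹) = 1
    rw [hS.par_mul (mul_mem hg' hx'.1) (inv_mem hg'), hS.par_mul hg' hx'.1, hS.par_inv hg', hx'.2,
      mul_one]
    rcases cls_eq_or (U₀ := baseU (k + 1) F) ((baseU (k + 1) F).map (Matrix.toLin' g.1)) with h | h <;>
      rw [show par (baseU (k + 1) F) g = _ from h] <;> norm_num
  exact hle (AutPOmega.gammaPOmega_eq_top (AutPOmega.hypPlus (F := F) (show 5 ≤ k + 1 by omega)) ▸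
    Subgroup.mem_top α)

theorem cA_mem_inndiag (hk : 2 ≤ k) {g : GL I F} (hg : g ∈ plusS (k + 1) F (by omega)) :
    cA QPf ⟨g, hg.1⟩ ∈ inndiagPOmegaPlus (k + 1) F := by
  rw [inndiagPlus_range (show 3 ≤ k + 1 by omega)]
  exact ⟨⟨g, hg⟩, rfl⟩

theorem exists_of_mem_inndiag (hk : 2 ≤ k) {δ : MulAut (POmega F QPf)}
    (hδ : δ ∈ inndiagPOmegaPlus (k + 1) F) :
    ∃ (g : GL I F) (hg : g ∈ plusS (k + 1) F (show 3 ≤ k + 1 by omega)), δ = cA QPf ⟨g, hg.1⟩ := by
  rw [inndiagPlus_range (show 3 ≤ k + 1 by omega)] at hδ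
  obtain ⟨⟨g, hg⟩, rfl⟩ := hδ
  exact ⟨g, hg, rfl⟩

theorem setupPlus (hk : 4 ≤ k) (σ : F ≃+* F) {r : ℕ} (hσ : orderOf σ = r) (hr : r.Prime) :
    Setup (omMat QPf) (plusS (k + 1) F (by omega)) σ r :=
  ⟨rigid_of_hyp (AutPOmega.hypPlus (F := F) (show 5 ≤ k + 1 by omega)), ⟨.inl 0⟩, keep_plusS _,
    keep_gal_om (coeffFixed_plus σ), fun _ => plusS_stable _ σ, hσ, hr.pos⟩

theorem setupSimPlus (hk : 4 ≤ k) (σ : F ≃+* F) {r : ℕ} (hσ : orderOf σ = r) (hr : r.Prime) :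
    Setup (omMat QPf) SimP σ r :=
  ⟨rigid_of_hyp (AutPOmega.hypPlus (F := F) (show 5 ≤ k + 1 by omega)), ⟨.inl 0⟩,
    fun _ => keep_conj_sim, keep_gal_om (coeffFixed_plus σ),
    fun _ => galGL_sim (coeffFixed_plus σ), hσ, hr.pos⟩

theorem setupPlus_G (hk : 4 ≤ k) {σ : F ≃+* F} {r : ℕ}
    (D : Setup (omMat QPf) (plusS (k + 1) F (by omega)) σ r) :
    D.G = inndiagPOmegaPlus (k + 1) F := (inndiagPlus_range (by omega)).symm

theorem plus_field_reduce (hk : 4 ≤ k) {x : MulAut (POmega F QPf)}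
    (hx : IsFieldAutClassPOmega QPf x) {r : ℕ} (hr : r.Prime) (hxr : orderOf x = r) :
    ∃ (σ : F ≃+* F) (D : Setup (omMat QPf) (plusS (k + 1) F (show 3 ≤ k + 1 by omega)) σ r)
      (α : MulAut (POmega F QPf)),
      α ∈ Subgroup.normalizer (D.G : Set (MulAut (POmega F QPf))) ∧ α * x * α⁻¹ = D.phi := by
  obtain ⟨α, φ, σ, hσ1, hφ, hαx⟩ := hx
  have hφ' := (isFieldAut_iff (coeffFixed_plus σ) φ).1 hφ
  have hord : orderOf σ = r := by
    refine orderOf_aut_eq (AutPOmega.hypPlus (F := F) (show 5 ≤ k + 1 by omega))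
      (coeffFixed_plus σ) (fun n => coeffFixed_plus _) hσ1 hr ?_
    show phiP (coeffFixed_plus σ) ^ r = 1
    rw [← hφ', ← hαx, ← MulAut.conj_apply, ← map_pow, ← hxr, pow_orderOf_eq_one, map_one]
  refine ⟨σ, setupPlus hk σ hord hr, α, ?_, hαx.trans hφ'⟩
  rw [setupPlus_G hk]
  exact inndiagPlus_normal hk α

theorem plus_field_coset (hk : 4 ≤ k) {x δ : MulAut (POmega F QPf)}
    (hx : IsFieldAutClassPOmega QPf x) {r : ℕ} (hr : r.Prime) (hxr : orderOf x = r)
    (hδ : δ ∈ inndiagPOmegaPlus (k + 1) F) :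
    orderOf (δ * x) = r ↔ IsConjUnder (inndiagPOmegaPlus (k + 1) F) x (δ * x) := by
  obtain ⟨σ, D, α, hα, hαx⟩ := plus_field_reduce hk hx hr hxr
  rw [← setupPlus_G hk D] at hδ ⊢
  exact FieldAut.coset_conj_transport hα hαx
    (fun δ hδ h => D.coset_conj (fun g hg hz => plus_desc (by omega) D.ordσ hr hg hz) hδ h) hxr hδ

/-! ### Graph-field automorphisms -/

theorem par_pow (hk : 2 ≤ k) {g : GL I F} (hg : g ∈ SimP) (n : ℕ) :
    par (baseU (k + 1) F) (g ^ n) = par (baseU (k + 1) F) g ^ n := by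
  have hS := splitPlus (F := F) (show 3 ≤ k + 1 by omega)
  induction n with
  | zero => rw [pow_zero, pow_zero, hS.par_one]
  | succ n ih => rw [pow_succ, hS.par_mul (pow_mem hg n) hg, ih, pow_succ]

/-- A graph-field automorphism of prime order is a swapping similarity times the involutory field
automorphism. -/
theorem gf_normal_form (hk : 4 ≤ k) {x : MulAut (POmega F QPf)}
    (hx : IsGraphFieldAutClassPOmegaPlus (k + 1) x) {r : ℕ} (hr : r.Prime) (hxr : orderOf x = r) :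
    r = 2 ∧ ∃ (σ : F ≃+* F) (T : GL I F) (hT : T ∈ SimP), orderOf σ = 2 ∧
      par (baseU (k + 1) F) T = -1 ∧ x = cA QPf ⟨T, hT⟩ * phiP (coeffFixed_plus σ) := by
  obtain ⟨α, γ, φ, σ, v, R, hσ1, hQv, hv, hR, hγ, hφ, hαx⟩ := hx
  have H := AutPOmega.hypPlus (F := F) (show 5 ≤ k + 1 by omega)
  have hS := splitPlus (F := F) (show 3 ≤ k + 1 by omega)
  obtain rfl : R = (refl (quadPlus (k + 1) F) v).1 := Units.ext hR
  set R₀ := refl (quadPlus (k + 1) F) v with hR₀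
  have hRs : R₀.1 ∈ SimP := FieldAut.iso_le_sim R₀.2
  have hparR : par (baseU (k + 1) F) R₀.1 = -1 := by
    rw [hS.par_iso, Orth.dick_refl hS.good.nd (by rw [Orth.coe_quadPlus]; exact hQv)]
  have hγ' := (isConjInduced_iff hRs γ).1 hγ
  have hφ' := (isFieldAut_iff (coeffFixed_plus σ) φ).1 hφ
  have hσR : galGL σ R₀.1 = R₀.1 :=
    galGL_refl (Q := quadPlus (k + 1) F) (coeffFixed_plus σ) (funext hv)
  have hc : Commute (cA QPf ⟨R₀.1, hRs⟩) (phiP (coeffFixed_plus σ)) := by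
    show _ * _ = _ * _
    rw [phi_cA]
    congr 2
    exact Subtype.ext hσR.symm
  have h1 : (cA QPf ⟨R₀.1, hRs⟩ * phiP (coeffFixed_plus σ)) ^ r = 1 := by
    rw [← hγ', ← hφ', ← hαx, ← MulAut.conj_apply, ← map_pow, ← hxr, pow_orderOf_eq_one, map_one]
  rw [hc.mul_pow, ← map_pow] at h1
  have hp : phiP (coeffFixed_plus (m := k + 1) σ) ^ r = phiP (coeffFixed_plus (σ ^ r)) := by
    rw [phiP, phiP, ← map_pow]
    exact congrArg _ (Subtype.ext (map_pow galGL σ r).symm)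
  rw [hp] at h1
  obtain ⟨hσr, hsc⟩ := cA_phi_eq_one H (Q := quadPlus (k + 1) F) (coeffFixed_plus _) h1
  have hord : orderOf σ = r := @orderOf_eq_prime _ _ σ r ⟨hr⟩ hσr hσ1
  obtain ⟨c, hc'⟩ := hsc
  have hr2 : r = 2 := by
    refine hr.eq_two_or_odd'.resolve_right fun ho => ?_
    have h2 : par (baseU (k + 1) F) (R₀.1 ^ r) = 1 := by
      rw [← SubmonoidClass.coe_pow (⟨R₀.1, hRs⟩ : SimP) r, ← hc']
      exact hS.par_scalar c
    rw [par_pow (by omega) hRs, hparR, ho.neg_one_pow] at h2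
    norm_num at h2
  subst hr2
  refine ⟨rfl, σ, ?_⟩
  obtain ⟨h, τ, hs, hα⟩ := AutPOmega.exists_semi_eq H α
  have hh := FieldAut.sim_of_semisimilarity (coeffFixed_plus τ) hs
  have hαd : α = cA QPf ⟨h, hh⟩ * phiP (coeffFixed_plus τ) := by
    rw [hα, AutPOmega.semiAut, cA, phiP, conjAut_apply, ← map_mul]
    rfl
  let T₀ : SimP := (⟨h, hh⟩ : SimP)⁻¹ * ⟨R₀.1, hRs⟩ * ⟨galGL σ h, galGL_sim (coeffFixed_plus σ) hh⟩
  refine ⟨galGL τ.symm T₀.1, galGL_sim (coeffFixed_plus _) T₀.2, hord, ?_, ?_⟩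
  · rw [Split.par_galGL _ (semiImage_baseU _)]
    show par _ (h⁻¹ * R₀.1 * galGL σ h) = -1
    rw [hS.par_mul (mul_mem (inv_mem hh) hRs) (galGL_sim (coeffFixed_plus σ) hh),
      hS.par_mul (inv_mem hh) hRs, hS.par_inv hh, hparR, Split.par_galGL _ (semiImage_baseU _)]
    rcases cls_eq_or (U₀ := baseU (k + 1) F) ((baseU (k + 1) F).map (Matrix.toLin' h.1)) with e | e <;>
      rw [show par (baseU (k + 1) F) h = _ from e] <;> norm_num
  · have e1 : x = α⁻¹ * (cA QPf ⟨R₀.1, hRs⟩ * phiP (coeffFixed_plus σ)) * α := by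
      rw [← hγ', ← hφ', ← hαx]; group
    have e2 : cA QPf ⟨R₀.1, hRs⟩ * phiP (coeffFixed_plus σ) * cA QPf ⟨h, hh⟩
        = cA QPf ⟨h, hh⟩ * cA QPf T₀ * phiP (coeffFixed_plus σ) := by
      rw [mul_assoc, phi_cA, ← mul_assoc, ← map_mul, ← map_mul]
      congr 2
      simp [T₀, mul_assoc]
    have hτi : (phiP (coeffFixed_plus (m := k + 1) τ))⁻¹ = phiP (coeffFixed_plus τ.symm) := by
      rw [inv_eq_iff_mul_eq_one, phiP_mul _ _ (coeffFixed_plus _)]
      have : τ * τ.symm = 1 := RingEquiv.ext fun y => τ.apply_symm_apply y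
      simp only [this]
      exact phiP_one
    have hcomm : phiP (coeffFixed_plus (m := k + 1) σ) * phiP (coeffFixed_plus τ)
        = phiP (coeffFixed_plus τ) * phiP (coeffFixed_plus σ) := by
      rw [phiP_mul _ _ (coeffFixed_plus _), phiP_mul _ _ (coeffFixed_plus _)]
      simp only [ringAut_comm σ τ]
    calc x = (phiP (coeffFixed_plus τ))⁻¹ * (cA QPf T₀ * (phiP (coeffFixed_plus σ)
          * phiP (coeffFixed_plus τ))) := by
            rw [e1, hαd, mul_inv_rev]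
            simp only [mul_assoc] at e2 ⊢
            rw [← mul_assoc (cA QPf ⟨R₀.1, hRs⟩), ← mul_assoc (cA QPf ⟨R₀.1, hRs⟩ * _)]
            simp only [mul_assoc]
            rw [← mul_assoc (phiP (coeffFixed_plus σ)) (cA QPf ⟨h, hh⟩),
              ← mul_assoc (cA QPf ⟨R₀.1, hRs⟩), e2]
            simp only [mul_assoc, inv_mul_cancel_left]
      _ = _ := by
            rw [hcomm, hτi, ← mul_assoc (cA QPf T₀), ← mul_assoc, ← mul_assoc, phi_cA, ← hτi,
              mul_assoc, mul_assoc, inv_mul_cancel_left]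

theorem gf_twNorm (hk : 4 ≤ k) {σ : F ≃+* F} (hσ : orderOf σ = 2) {T : GL I F} (hT : T ∈ SimP)
    (h : (cA QPf ⟨T, hT⟩ * phiP (coeffFixed_plus σ)) ^ 2 = 1) :
    ∃ z : Fˣ, twNorm σ 2 T = scal z := by
  have D := setupSimPlus hk σ hσ Nat.prime_two
  have h1 : (conjAut D.rigid.inj SimP D.keepS ⟨T, hT⟩ * D.phi) ^ 2 = 1 := h
  rw [D.pow_eq_twNorm hT, conjAut_apply, FieldAut.conjAut_eq_one_iff D.rigid] at h1
  obtain ⟨z, hz⟩ := h1
  exact ⟨z, hz.symm⟩

/-- Two swapping involutions in the coset of the same field automorphism are conjugate. -/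
theorem gf_conj (hk : 4 ≤ k) {σ : F ≃+* F} (hσ : orderOf σ = 2) {T T' : GL I F} (hT : T ∈ SimP)
    (hT' : T' ∈ SimP) (hp : par (baseU (k + 1) F) T = -1) (hp' : par (baseU (k + 1) F) T' = -1)
    (h : (cA QPf ⟨T, hT⟩ * phiP (coeffFixed_plus σ)) ^ 2 = 1)
    (h' : (cA QPf ⟨T', hT'⟩ * phiP (coeffFixed_plus σ)) ^ 2 = 1) :
    IsConjUnder (inndiagPOmegaPlus (k + 1) F) (cA QPf ⟨T, hT⟩ * phiP (coeffFixed_plus σ))
      (cA QPf ⟨T', hT'⟩ * phiP (coeffFixed_plus σ)) := by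
  obtain ⟨-, k₁, hk₁, a, ha⟩ :=
    plus_desc_neg (by omega) hσ Nat.prime_two hT hp (gf_twNorm hk hσ hT h)
  obtain ⟨-, k₂, hk₂, a', ha'⟩ :=
    plus_desc_neg (by omega) hσ Nat.prime_two hT' hp' (gf_twNorm hk hσ hT' h')
  have hh : k₂ * k₁⁻¹ ∈ plusS (k + 1) F (show 3 ≤ k + 1 by omega) := mul_mem hk₂ (inv_mem hk₁)
  refine ⟨_, cA_mem_inndiag (by omega) hh, ?_⟩
  have e : phiP (coeffFixed_plus σ) * (cA QPf ⟨k₂ * k₁⁻¹, hh.1⟩)⁻¹
      = cA QPf ⟨galGL σ (k₂ * k₁⁻¹)⁻¹, galGL_sim (coeffFixed_plus σ) (inv_mem hh.1)⟩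
        * phiP (coeffFixed_plus σ) := by
    rw [← map_inv, phi_cA]; rfl
  rw [mul_assoc, mul_assoc, e, ← mul_assoc, ← mul_assoc, ← map_mul, ← map_mul]
  congr 1
  refine (setupSimPlus hk σ hσ Nat.prime_two).conjAut_scal_mul (a := a' * a⁻¹) hT' _ ?_
  show T' = scal (a' * a⁻¹) * (k₂ * k₁⁻¹ * T * galGL σ (k₂ * k₁⁻¹)⁻¹)
  rw [ha', ha, mul_inv_rev, inv_inv, map_mul (galGL σ), map_inv (galGL σ) k₂]
  simp only [← mul_assoc]
  rw [mul_assoc (scal (a' * a⁻¹) * k₂) k₁⁻¹ (scal a), ← FieldAut.scal_comm a k₁⁻¹,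
    mul_assoc (scal (a' * a⁻¹)) k₂, ← mul_assoc k₂, ← FieldAut.scal_comm a k₂]
  simp only [← mul_assoc]
  rw [← map_mul, inv_mul_cancel_right, inv_mul_cancel_right, inv_mul_cancel_right]

theorem gf_coset (hk : 4 ≤ k) {x δ : MulAut (POmega F QPf)}
    (hx : IsGraphFieldAutClassPOmegaPlus (k + 1) x) {r : ℕ} (hr : r.Prime) (hxr : orderOf x = r)
    (hδ : δ ∈ inndiagPOmegaPlus (k + 1) F) :
    orderOf (δ * x) = r ↔ IsConjUnder (inndiagPOmegaPlus (k + 1) F) x (δ * x) := by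
  obtain ⟨rfl, σ, T, hT, hσ, hp, hxT⟩ := gf_normal_form hk hx hr hxr
  rw [hxT] at hxr ⊢
  constructor
  · intro hord
    obtain ⟨g, hg, hδg⟩ := exists_of_mem_inndiag (by omega) hδ
    rw [hδg] at hord ⊢
    have hS := splitPlus (F := F) (show 3 ≤ k + 1 by omega)
    have h2 : cA QPf ⟨g, hg.1⟩ * (cA QPf ⟨T, hT⟩ * phiP (coeffFixed_plus σ))
        = cA QPf ⟨g * T, mul_mem hg.1 hT⟩ * phiP (coeffFixed_plus σ) := by
      rw [← mul_assoc, ← map_mul]; rfl
    rw [h2] at hord ⊢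
    exact gf_conj hk hσ hT (mul_mem hg.1 hT) hp (by rw [hS.par_mul hg.1 hT, hp, hg.2, one_mul])
      (by rw [← hxr, pow_orderOf_eq_one]) (by rw [← hord, pow_orderOf_eq_one])
  · rintro ⟨h, -, e⟩
    rw [e, ← MulAut.conj_apply]
    exact ((MulAut.conj h).orderOf_eq _).trans hxr

end Plus

/-! ### Minus type -/

section Minus

variable {F : Type*} [Field F] [Fintype F] {m : ℕ} {a b a' b' : F}

local notation "J" => (Fin m ⊕ Fin m) ⊕ Fin 2

theorem inndiagMinus_normal (hm : 3 ≤ m) (hab : Aniso a b)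
    (α : MulAut (POmega F (quadFormMinus m F a b))) :
    α ∈ Subgroup.normalizer
      (inndiagPOmegaMinus m F a b : Set (MulAut (POmega F (quadFormMinus m F a b)))) := by
  have hle : gammaPOmega F (quadFormMinus m F a b) ≤ Subgroup.normalizer
      (inndiagPOmegaMinus m F a b : Set (MulAut (POmega F (quadFormMinus m F a b)))) := by
    rw [inndiagMinus_range (by omega) hab]
    refine FieldAut.gamma_le_normalizer _ _ _ _ fun β ⟨g, σ, hg, hβ⟩ => ?_
    obtain ⟨c, hc⟩ := id hg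
    refine ⟨⟨OrthOuter.psi g σ, OrthOuter.semi_keep (Q := quadMinus m F a b) hg⟩,
      mem_iff_of_maps _ _ fun x hx => minusS_map (by omega) hab hab hc hx,
      (isInd_semilinear_om g σ β).1 hβ⟩
  exact hle (AutPOmega.gammaPOmega_eq_top (AutPOmega.hypMinus hm hab) ▸ Subgroup.mem_top α)

theorem exists_minus_isometry (hab : Aniso a b) (hab' : Aniso a' b') :
    ∃ Λ : GL J F, ∀ v, quadFormMinus m F a' b' (Λ.1 *ᵥ v) = quadFormMinus m F a b v := by
  rcases Forms.classify_even (quadMinus m F a' b') (Orth.quadMinus_nondeg m hab') (m := m + 1)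
    (by rw [Module.finrank_fintype_fun_eq_card]; simp; omega) hab with ⟨ψ, hψ⟩ | ⟨-, ψ, hψ⟩
  · exfalso
    refine not_plus_of_aniso hab' ψ 1 fun v => ?_
    rw [one_mul, ← Forms.qfPlus_apply, ← hψ]
    rfl
  · refine ⟨Forms.glLinEquiv.symm ψ, fun v => ?_⟩
    have h1 : (Forms.glLinEquiv.symm ψ : GL J F).1 *ᵥ v = ψ v := by
      rw [← Forms.glLinEquiv_apply, MulEquiv.apply_symm_apply]
    rw [h1]
    exact (hψ v).trans (Forms.qfMinus_apply _ _ _ _)

/-- Every isomorphism between two minus models respects the inner-diagonal groups. -/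
theorem inndiagMinus_congr (hm : 3 ≤ m) (hab : Aniso a b) (hab' : Aniso a' b')
    (ψ : POmega F (quadFormMinus m F a b) ≃* POmega F (quadFormMinus m F a' b')) :
    (inndiagPOmegaMinus m F a b).map (MulAut.congr ψ).toMonoidHom
      = inndiagPOmegaMinus m F a' b' := by
  obtain ⟨Λ, hΛ⟩ := exists_minus_isometry (m := m) hab hab'
  have hΛi : ∀ v, quadFormMinus m F a b ((Λ⁻¹ : GL J F).1 *ᵥ v) = quadFormMinus m F a' b' v := by
    intro v
    rw [← hΛ, Matrix.mulVec_mulVec, ← Units.val_mul, mul_inv_cancel, Units.val_one,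
      Matrix.one_mulVec]
  have hiso : ∀ g, MulAut.conj Λ g ∈ isometryGroup F (quadFormMinus m F a' b') ↔
      g ∈ isometryGroup F (quadFormMinus m F a b) := fun g => by
    rw [FieldAut.mem_iso_iff, FieldAut.mem_iso_iff, MulAut.conj_apply]
    constructor <;> intro h v
    · have h1 := h (Λ.1 *ᵥ v)
      rw [Units.val_mul, Units.val_mul, Matrix.mulVec_mulVec, mul_assoc, ← Units.val_mul Λ⁻¹,
        inv_mul_cancel, Units.val_one, mul_one, ← Matrix.mulVec_mulVec, hΛ, hΛ] at h1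
      exact h1
    · rw [Units.val_mul, Units.val_mul, ← Matrix.mulVec_mulVec, ← Matrix.mulVec_mulVec, hΛ, h, hΛi]
  have hSS : ∀ g, MulAut.conj Λ g ∈ minusS m a' b' (by omega) hab' ↔
      g ∈ minusS m a b (show 2 ≤ m by omega) hab := by
    intro g
    constructor
    · intro hg
      have h := minusS_map (by omega) hab hab' (σ := 1) (g := Λ⁻¹) (c := 1)
        (fun v => by rw [Units.val_one, one_mul]; exact hΛi v) hg
      rw [map_one, MulAut.one_apply, MulAut.conj_apply] at h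
      simpa [mul_assoc] using h
    · intro hg
      have h := minusS_map (by omega) hab' hab (σ := 1) (g := Λ) (c := 1)
        (fun v => by rw [Units.val_one, one_mul]; exact hΛ v) hg
      rwa [map_one] at h
  set Θ := indEquiv omMat_injective omMat_injective (MulAut.conj Λ) (omMat_range_map _ hiso) with hΘ
  have hmap : (inndiagPOmegaMinus m F a b).map (MulAut.congr Θ).toMonoidHom
      = inndiagPOmegaMinus m F a' b' := by
    rw [inndiagMinus_range (by omega) hab, inndiagMinus_range (by omega) hab']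
    exact map_conjAut_range _ _ _ _ _ _ _ _ hSS
  set α : MulAut (POmega F (quadFormMinus m F a b)) := ψ.trans Θ.symm with hα
  have hαn := Subgroup.mem_normalizer_iff.1 (inndiagMinus_normal hm hab α)
  have key : ∀ β, MulAut.congr ψ β = MulAut.congr Θ (α * β * α⁻¹) := fun β =>
    MulEquiv.ext fun y => by simp [MulAut.congr, hα, MulAut.mul_apply, MulAut.inv_def]
  ext δ
  constructor
  · rintro ⟨β, hβ, rfl⟩
    rw [← hmap]
    exact ⟨_, (hαn β).1 hβ, (key β).symm⟩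
  · intro hδ
    rw [← hmap] at hδ
    obtain ⟨β, hβ, rfl⟩ := hδ
    refine ⟨α⁻¹ * β * α, (hαn _).2 ?_, (key _).trans ?_⟩
    · simpa [mul_assoc] using hβ
    · simp [mul_assoc]

theorem minus_field_reduce (hm : 3 ≤ m) (hab : Aniso a b)
    {x : MulAut (POmega F (quadFormMinus m F a b))} (hx : IsFieldAutClassPOmegaMinus m x) {r : ℕ}
    (hr : r.Prime) (hxr : orderOf x = r) :
    ∃ (a' b' : F) (hab' : Aniso a' b')
      (ψ : POmega F (quadFormMinus m F a b) ≃* POmega F (quadFormMinus m F a' b'))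
      (σ : F ≃+* F)
      (D : Setup (omMat (quadFormMinus m F a' b')) (minusS m a' b' (show 2 ≤ m by omega) hab') σ r),
      σ a' = a' ∧ σ b' = b' ∧ MulAut.congr ψ x = D.phi ∧ D.G = inndiagPOmegaMinus m F a' b' := by
  obtain ⟨a', b', ψ, σ, hab', hσ1, ha, hb, hφ⟩ := hx
  have hfix : ∀ n : ℕ, CoeffFixed (quadFormMinus m F a' b') (σ ^ n) := fun n => by
    refine coeffFixed_minus ?_ ?_ <;> induction n with
      | zero => rfl
      | succ n ih => rw [pow_succ, RingAut.mul_apply]; first | rw [ha, ih] | rw [hb, ih]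
  have hφ' : MulAut.congr ψ x = phiP (coeffFixed_minus ha hb) := (isFieldAut_iff _ _).1 hφ
  have H := AutPOmega.hypMinus hm hab' (F := F)
  have hord : orderOf σ = r := by
    refine orderOf_aut_eq H (coeffFixed_minus ha hb) hfix hσ1 hr ?_
    show phiP (coeffFixed_minus ha hb) ^ r = 1
    rw [← hφ', ← map_pow, ← hxr, pow_orderOf_eq_one, map_one]
  exact ⟨a', b', hab', ψ, σ, ⟨rigid_of_hyp H, ⟨.inr 0⟩, keep_minusS _ hab',
    keep_gal_om (coeffFixed_minus ha hb), fun _ => minusS_stable _ hab' ha hb, hord, hr.pos⟩,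
    ha, hb, hφ', (inndiagMinus_range _ hab').symm⟩

theorem minus_field_coset (hm : 3 ≤ m) (hab : Aniso a b)
    {x δ : MulAut (POmega F (quadFormMinus m F a b))} (hx : IsFieldAutClassPOmegaMinus m x) {r : ℕ}
    (hr : r.Prime) (hxr : orderOf x = r) (hδ : δ ∈ inndiagPOmegaMinus m F a b) :
    orderOf (δ * x) = r ↔ IsConjUnder (inndiagPOmegaMinus m F a b) x (δ * x) := by
  obtain ⟨a', b', hab', ψ, σ, D, ha, hb, hx', hG⟩ := minus_field_reduce hm hab hx hr hxr
  have hmap := inndiagMinus_congr hm hab hab' ψ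
  constructor
  · intro hord
    rw [← isConjUnder_map (MulAut.congr ψ) hmap, map_mul, hx', ← hG]
    refine D.coset_conj (fun g hg hz => minus_desc (by omega) hab' D.ordσ hr ha hb hg.1 hz) ?_ ?_
    · rw [hG]; exact (mem_map_iff' _ hmap δ).2 hδ
    · rw [← hx', ← map_mul, ← hord]
      exact (MulAut.congr ψ).orderOf_eq _
  · rintro ⟨h, -, e⟩
    rw [e, ← MulAut.conj_apply]
    exact ((MulAut.conj h).orderOf_eq _).trans hxr

end Minus

end Cfsg.Agent.OrthEven
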