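import Cfsg.Agent.Lib.OrthEven.Models
import Cfsg.Agent.Lib.FieldAut.OrthBasic
import Cfsg.Agent.Lib.Forms.Bases

/-!
# Twisted similarities of the even-dimensional models

* `semi_trivial` : only scalars act trivially among semisimilarities
* `plus_classify` : `g σ(g) ⋯` scalar ⇒ `g = a k σ(k)⁻¹`, or `g = a k R σ(k)⁻¹` and `σ` has order two
* `plus_desc`, `plus_desc_neg`, `minus_desc`
-/

set_option autoImplicit false

namespace Cfsg.Agent.OrthEven

open Cfsg Cfsg.Agent Module
open scoped Matrix MatrixGroups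
open QuadraticMap (polar)
open Cfsg.Agent.Orth (IsoGrp Aniso Good quadPlus quadMinus ap refl eich)
open Cfsg.Agent.FieldAut (galGL mapGL omMat omMat_injective scal twNorm CoeffFixed Rigid keep indAut)

section Generic

variable {ι : Type} [Fintype ι] [DecidableEq ι] {F : Type*} [Field F]
  {Q : QuadraticForm F (ι → F)}

theorem polar_comp {σ : F ≃+* F} (hσ : CoeffFixed ⇑Q σ) (x y : ι → F) :
    polar ⇑Q (σ ∘ x) (σ ∘ y) = σ (polar ⇑Q x y) := by
  simp only [polar, map_sub, ← hσ _]
  congr 2
  congr 1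
  funext i
  simp

theorem galGL_refl {σ : F ≃+* F} (hσ : CoeffFixed ⇑Q σ) {v : ι → F} (hv : σ ∘ v = v) :
    galGL σ (refl Q v).1 = (refl Q v).1 := by
  refine Units.ext (Matrix.mulVec_injective (funext fun x => ?_))
  obtain ⟨y, rfl⟩ : ∃ y, x = σ ∘ y := ⟨σ.symm ∘ x, funext fun i => (σ.apply_symm_apply _).symm⟩
  rw [FieldAut.galGL_mulVec, ← Orth.ap_apply, ← Orth.ap_apply, Orth.refl_ap, Orth.refl_ap]
  have h1 := hσ v
  rw [hv] at h1
  have h2 := polar_comp hσ v y
  rw [hv] at h2
  funext i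
  have h3 : σ (v i) = v i := congrFun hv i
  simp [h2, ← h1, h3]

theorem galGL_eich {σ : F ≃+* F} (hσ : CoeffFixed ⇑Q σ) {u w : ι → F} (hu : σ ∘ u = u)
    (hw : σ ∘ w = w) (hQu : Q u = 0) (huw : polar ⇑Q u w = 0) (c : F) :
    galGL σ (eich Q u (c • w)).1 = (eich Q u (σ c • w)).1 := by
  refine Units.ext (Matrix.mulVec_injective (funext fun x => ?_))
  obtain ⟨y, rfl⟩ : ∃ y, x = σ ∘ y := ⟨σ.symm ∘ x, funext fun i => (σ.apply_symm_apply _).symm⟩
  rw [FieldAut.galGL_mulVec, ← Orth.ap_apply, ← Orth.ap_apply,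
    Orth.eich_ap hQu (by rw [Orth.pl_smul_right, huw, mul_zero]),
    Orth.eich_ap hQu (by rw [Orth.pl_smul_right, huw, mul_zero])]
  have h1 := hσ w
  rw [hw] at h1
  have h2 := polar_comp hσ u y
  rw [hu] at h2
  have h4 := polar_comp hσ w y
  rw [hw] at h4
  funext i
  have h3 : σ (u i) = u i := congrFun hu i
  have h5 : σ (w i) = w i := congrFun hw i
  simp [Orth.pl_smul_left, Orth.Q_smul, h2, h4, ← h1, h3, h5]

/-- Only scalars act trivially. -/
theorem semi_trivial [Nonempty ι] (hr : Rigid (omMat ⇑Q)) {τ : F ≃+* F} (hτ : CoeffFixed ⇑Q τ)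
    {u w x₀ : ι → F} (hu : τ ∘ u = u) (hw : τ ∘ w = w) (hQu : Q u = 0) (huw : polar ⇑Q u w = 0)
    (hQw : Q w = 0) (hne : polar ⇑Q u x₀ • w - polar ⇑Q w x₀ • u ≠ 0)
    (hmem : ∀ c : F, eich Q u (c • w) ∈ Omega F ⇑Q)
    {g : GL ι F} (hg : MulAut.conj g * galGL τ ∈ keep (omMat ⇑Q))
    (h1 : indAut (omMat_injective (Qf := ⇑Q)) ⟨MulAut.conj g * galGL τ, hg⟩ = 1) :
    τ = 1 ∧ g ∈ Geo.scalars ι F := by
  have hap : ∀ c x, (eich Q u (c • w)).1.1 *ᵥ x
      = x + c • (polar ⇑Q u x • w - polar ⇑Q w x • u) := fun c x => by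
    rw [← Orth.ap_apply, Orth.eich_ap hQu (by rw [Orth.pl_smul_right, huw, mul_zero])]
    simp only [Orth.pl_smul_left, Orth.Q_smul, hQw, mul_zero, zero_mul, add_zero]
    module
  have hrel : ∀ c x, g.1 *ᵥ (x + τ c • (polar ⇑Q u x • w - polar ⇑Q w x • u))
      = g.1 *ᵥ x + c • (polar ⇑Q u (g.1 *ᵥ x) • w - polar ⇑Q w (g.1 *ᵥ x) • u) := by
    intro c x
    have h2 := FieldAut.indAut_fixes_unipotent hr
      (R := (RingEquiv.trans (τ.mapMatrix) (FieldAut.conjRing g))) (fun _ => rfl) h1
      (h := ⟨_, hmem c⟩) (FieldAut.eich_unipotent hQu (by rw [Orth.pl_smul_right, huw, mul_zero]))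
    have h3 : g * galGL τ (eich Q u (c • w)).1 * g⁻¹ = (eich Q u (c • w)).1 := h2
    rw [galGL_eich hτ hu hw hQu huw, mul_inv_eq_iff_eq_mul] at h3
    have h4 := congrArg (fun M : GL ι F => M.1 *ᵥ x) h3
    simp only [Units.val_mul, ← Matrix.mulVec_mulVec, hap] at h4
    exact h4
  have hτ1 : τ = 1 := by
    refine RingEquiv.ext fun c => ?_
    have e1 := hrel 1 x₀
    have e2 := hrel c x₀
    rw [map_one, one_smul, one_smul, Matrix.mulVec_add, add_right_inj] at e1
    rw [Matrix.mulVec_add, Matrix.mulVec_smul, ← e1, add_right_inj] at e2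
    refine smul_left_injective F (fun h0 => hne ?_) e2
    have := congrArg (fun z => (g⁻¹).1 *ᵥ z) h0
    rwa [Matrix.mulVec_mulVec, ← Units.val_mul, inv_mul_cancel, Units.val_one, Matrix.one_mulVec,
      Matrix.mulVec_zero] at this
  subst hτ1
  have hgk : MulAut.conj g ∈ keep (omMat ⇑Q) := by
    rwa [map_one, mul_one] at hg
  refine ⟨rfl, (FieldAut.conjAut_eq_one_iff hr hgk).1 ?_⟩
  convert h1 using 2
  exact Subtype.ext (by simp)

end Generic

/-! ### Plus type -/

variable {k : ℕ} {F : Type*} [Field F] [Fintype F]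

local notation "I" => Fin (k + 1) ⊕ Fin (k + 1)
local notation "QP" => quadPlus (k + 1) F
local notation "SimP" => Geo.quadSimilarityGroup (F := F) (quadFormPlus (k + 1) F)

/-- The vector whose reflection swaps the last pair. -/
def swapVec (k : ℕ) (F : Type*) [Field F] : Fin (k + 1) ⊕ Fin (k + 1) → F :=
  Pi.single (.inl (Fin.last k)) 1 - Pi.single (.inr (Fin.last k)) 1

/-- A vector of norm one orthogonal to `swapVec`. -/
def oddVec (k : ℕ) (F : Type*) [Field F] : Fin (k + 1) ⊕ Fin (k + 1) → F :=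
  Pi.single (.inl 0) 1 + Pi.single (.inr 0) 1

omit [Fintype F] in
theorem swapVec_Q : QP (swapVec k F) = -1 := by
  rw [Orth.coe_quadPlus, quadFormPlus, Finset.sum_eq_single (Fin.last k)]
  · simp [swapVec]
  · intro b _ hb; simp [swapVec, hb]
  · simp

omit [Fintype F] in
theorem oddVec_Q : QP (oddVec k F) = 1 := by
  rw [Orth.coe_quadPlus, quadFormPlus, Finset.sum_eq_single (0 : Fin (k + 1))]
  · simp [oddVec]
  · intro b _ hb; simp [oddVec, hb]
  · simp

/-- The swap of the last pair. -/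
noncomputable def swapR (k : ℕ) (F : Type*) [Field F] : GL (Fin (k + 1) ⊕ Fin (k + 1)) F :=
  (refl (quadPlus (k + 1) F) (swapVec k F)).1

/-- A reflection commuting with `swapR`. -/
noncomputable def oddR (k : ℕ) (F : Type*) [Field F] : GL (Fin (k + 1) ⊕ Fin (k + 1)) F :=
  (refl (quadPlus (k + 1) F) (oddVec k F)).1

omit [Fintype F] in
theorem rational_vecs (σ : F ≃+* F) :
    σ ∘ swapVec k F = swapVec k F ∧ σ ∘ oddVec k F = oddVec k F := by
  constructor <;> funext s <;> simp [swapVec, oddVec, Pi.single_apply, apply_ite σ]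

omit [Fintype F] in
theorem galGL_swapR (σ : F ≃+* F) :
    galGL σ (swapR k F) = swapR k F ∧ galGL σ (oddR k F) = oddR k F :=
  ⟨galGL_refl (Q := QP) (coeffFixed_plus σ) (rational_vecs σ).1,
    galGL_refl (Q := QP) (coeffFixed_plus σ) (rational_vecs σ).2⟩

theorem par_swapR (hk : 2 ≤ k) :
    par (baseU (k + 1) F) (swapR k F) = -1 ∧ par (baseU (k + 1) F) (oddR k F) = -1 := by
  have hS := splitPlus (F := F) (show 3 ≤ k + 1 by omega)
  constructor
  · rw [swapR, hS.par_iso, Orth.dick_refl hS.good.nd (by rw [swapVec_Q]; simp)]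
  · rw [oddR, hS.par_iso, Orth.dick_refl hS.good.nd (by rw [oddVec_Q]; simp)]

omit [Fintype F] in
theorem swapR_sim : swapR k F ∈ SimP ∧ oddR k F ∈ SimP :=
  ⟨FieldAut.iso_le_sim (refl QP (swapVec k F)).2, FieldAut.iso_le_sim (refl QP (oddVec k F)).2⟩

omit [Fintype F] in
theorem swapR_comm (hk : 1 ≤ k) : oddR k F * swapR k F = swapR k F * oddR k F := by
  have h0 : polar ⇑QP (oddVec k F) (swapVec k F) = 0 := by
    have hne : (0 : Fin (k + 1)) ≠ Fin.last k := fun h => by
      have := congrArg Fin.val h; simp at this; omega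
    rw [Orth.coe_quadPlus, Orth.polar_quadPlus]
    refine Finset.sum_eq_zero fun b _ => ?_
    rcases eq_or_ne b 0 with rfl | hb
    · simp [swapVec, hne]
    · simp [oddVec, hb]
  have h := Orth.mul_refl (refl QP (oddVec k F)) (swapVec k F)
  rw [Orth.refl_ap_of_orth QP h0] at h
  exact congrArg Subtype.val h

omit [Fintype F] in
theorem swapR_mulVec (x : I → F) :
    (swapR k F).1 *ᵥ x = Sum.elim
      (Function.update (fun i => x (.inl i)) (Fin.last k) (x (.inr (Fin.last k))))
      (Function.update (fun i => x (.inr i)) (Fin.last k) (x (.inl (Fin.last k)))) := by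
  rw [swapR, ← Orth.ap_apply, Orth.refl_ap, swapVec_Q]
  have hp : polar ⇑QP (swapVec k F) x = x (.inr (Fin.last k)) - x (.inl (Fin.last k)) := by
    rw [Orth.coe_quadPlus, Orth.polar_quadPlus, Finset.sum_eq_single (Fin.last k)]
    · simp [swapVec]; ring
    · intro b _ hb; simp [swapVec, hb]
    · simp
  rw [hp]
  funext s
  rcases s with i | i <;> rcases eq_or_ne i (Fin.last k) with rfl | hi <;>
    simp [swapVec, *] <;> ring

/-- A minus form with anisotropic binary part has no half-dimensional singular subspace. -/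
theorem not_plus_of_aniso {a b : F} (hab : Aniso a b)
    (L : (I → F) ≃ₗ[F] ((Fin k ⊕ Fin k) ⊕ Fin 2 → F)) (c : F)
    (hL : ∀ v, quadFormMinus k F a b (L v) = c * quadFormPlus (k + 1) F v) : False := by
  classical
  set Q := quadMinus k F a b
  have hnd : Q.polarBilin.Nondegenerate := Orth.quadMinus_nondeg k hab
  let e : Fin k → ((Fin k ⊕ Fin k) ⊕ Fin 2 → F) := fun i => Pi.single (.inl (.inl i)) 1
  let W : Submodule F ((Fin k ⊕ Fin k) ⊕ Fin 2 → F) := Submodule.span F (Set.range e)
  have hW : ∀ v, v ∈ W ↔ (∀ i, v (.inl (.inr i)) = 0) ∧ ∀ j, v (.inr j) = 0 := by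
    intro v
    rw [Submodule.mem_span_range_iff_exists_fun]
    constructor
    · rintro ⟨c, rfl⟩
      simp [e, Finset.sum_apply]
    · rintro ⟨h1, h2⟩
      refine ⟨fun i => v (.inl (.inl i)), funext fun s => ?_⟩
      rcases s with (i | i) | j
      · simp [e, Finset.sum_apply, Pi.single_apply]
      · simp [e, Finset.sum_apply, h1]
      · simp [e, Finset.sum_apply, h2]
  have hW0 : ∀ v ∈ W, Q v = 0 := fun v hv => by
    obtain ⟨h1, h2⟩ := (hW v).1 hv
    simp [Q, Orth.coe_quadMinus, quadFormMinus, h1, h2]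
  have hWmax : ∀ W' : Submodule F _, W ≤ W' → (∀ v ∈ W', Q v = 0) → W' = W := by
    intro W' hle h0
    refine le_antisymm (fun v hv => (hW v).2 ?_) hle
    have h1 : ∀ i, v (.inl (.inr i)) = 0 := fun i => by
      have hp : polar ⇑Q v (e i) = 0 :=
        OrthAct.polar_eq_zero_of_singular h0 hv (hle (Submodule.subset_span ⟨i, rfl⟩))
      rw [Orth.coe_quadMinus, Orth.polar_quadMinus] at hp
      simpa [e, Pi.single_apply] using hp
    refine ⟨h1, ?_⟩
    have hv0 := h0 v hv
    simp [Q, Orth.coe_quadMinus, quadFormMinus, h1] at hv0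
    obtain ⟨z1, z2⟩ := hab _ _ hv0
    intro j
    fin_cases j <;> assumption
  let U := (baseU (k + 1) F).map L.toLinearMap
  have hUdim : finrank F U = k + 1 := by
    rw [LinearEquiv.finrank_map_eq, baseU]
    exact (OrthAct.base_subspace_facts (F := F) (k + 1)).1
  have hU0 : ∀ v ∈ U, Q v = 0 := by
    rintro _ ⟨u, hu, rfl⟩
    rw [Orth.coe_quadMinus, LinearEquiv.coe_coe, hL, quadFormPlus,
      Finset.sum_eq_zero fun i _ => by rw [mem_baseU.1 hu i, mul_zero], mul_zero]
  have hUmax : ∀ W' : Submodule F _, U ≤ W' → (∀ v ∈ W', Q v = 0) → W' = U := fun W' hle h0 =>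
    (Submodule.eq_of_le_of_finrank_le hle (by
      have := Forms.two_mul_finrank_singular_le Q hnd W' h0
      rw [Orth.finrank_space] at this
      simp at this
      omega)).symm
  have h := Forms.maximal_singular_finrank_eq Q hnd W U hW0 hU0 hWmax hUmax
  have hle : finrank F W ≤ k := (finrank_range_le_card e).trans (by simp)
  omega

/-- Classification of twisted similarities of the plus model. -/
theorem plus_classify {σ : F ≃+* F} {r : ℕ} (hσ : orderOf σ = r)
    (hr : r.Prime) {g : GL I F} (hg : g ∈ SimP) (hz : ∃ z : Fˣ, twNorm σ r g = scal z) :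
    (∃ (a : Fˣ) (k' : GL I F), k' ∈ SimP ∧ g = scal a * (k' * (galGL σ k')⁻¹)) ∨
    (r = 2 ∧ ∃ (a : Fˣ) (k' : GL I F), k' ∈ SimP ∧
      g = scal a * (k' * swapR k F * (galGL σ k')⁻¹)) := by
  classical
  set F₀ := FieldAut.fixF σ
  have : Fintype F₀ := Fintype.ofFinite _
  set e : F₀ →+* F := F₀.subtype with he
  have hfix : ∀ x, σ (e x) = e x := fun x => (FieldAut.mem_fixF σ).1 x.2
  have hrange : ∀ x, σ x = x → x ∈ Set.range e := fun x hx => ⟨⟨x, (FieldAut.mem_fixF σ).2 hx⟩, rfl⟩
  obtain ⟨z, hz⟩ := hz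
  obtain ⟨a, d, kk, Q₀, hgk, hnd, hd⟩ := FieldAut.exists_descended_form (Q := QP) (e := e)
    (Orth.quadPlus_nondeg (k + 1)) (coeffFixed_plus σ) hσ hr.pos hfix hrange hg hz
  obtain ⟨ζ, hζ, -⟩ := Forms.exists_no_root (F := F₀)
  have hab : Aniso (1 : F₀) ζ := by
    intro x y hxy
    rcases eq_or_ne y 0 with rfl | hy
    · refine ⟨?_, rfl⟩
      simpa using hxy
    · exact absurd (by field_simp; linear_combination hxy) (hζ (x / y))
  rcases Forms.classify_even Q₀ hnd (m := k + 1)
    (by rw [Module.finrank_fintype_fun_eq_card]; simp; omega) hab with ⟨ψ, hψ⟩ | ⟨-, ψ, hψ⟩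
  · left
    obtain ⟨k', hk', hg'⟩ := FieldAut.similarity_of_descended (Q := QP) (quadPlus (k + 1) F₀)
      (fun v => by simp [Orth.coe_quadPlus, quadFormPlus]) hfix hgk hd (c := 1) ψ
      (fun v => by rw [hψ, Units.val_one, one_mul, Forms.qfPlus_apply]; rfl)
    exact ⟨a, k', hk', hg'⟩
  · obtain ⟨ε⟩ : Nonempty (((Fin k ⊕ Fin k) ⊕ Fin 2) ≃ I) :=
      ⟨Fintype.equivOfCardEq (by simp; omega)⟩
    let Ψ : GL I F₀ := Forms.glLinEquiv.symm
      ((LinearEquiv.funCongrLeft F₀ F₀ ε).trans ψ)
    have hΨ : ∀ w : I → F₀, Ψ.1 *ᵥ w = ψ (w ∘ ε) := fun w => by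
      rw [← Forms.glLinEquiv_apply]; simp [Ψ]; rfl
    set K1 := kk * mapGL e Ψ with hK1
    have key : ∀ y : I → F, QP (K1.1 *ᵥ y)
        = (d : F) * quadFormMinus k F (e 1) (e ζ) (y ∘ ε) := by
      have h : (QP).comp (Matrix.mulVecLin K1.1)
          = (d : F) • (quadMinus k F (e 1) (e ζ)).comp (LinearMap.funLeft F F ε) := by
        refine FieldAut.quadForm_ext_of_subfield e _ _ fun w => ?_
        show QP (K1.1 *ᵥ (e ∘ w)) = (d : F) * quadFormMinus k F (e 1) (e ζ) ((e ∘ w) ∘ ε)
        rw [hK1, Units.val_mul, ← Matrix.mulVec_mulVec, FieldAut.mapGL_coe, map_mulVec_comp, hd, hΨ,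
          hψ, Forms.qfMinus_apply]
        congr 1
        simp [quadFormMinus]
      exact fun y => QuadraticMap.congr_fun h y
    by_cases hanF : Aniso (e 1) (e ζ)
    · exfalso
      let L : (I → F) ≃ₗ[F] ((Fin k ⊕ Fin k) ⊕ Fin 2 → F) :=
        (Forms.glLinEquiv K1⁻¹).trans (LinearEquiv.funCongrLeft F F ε)
      refine not_plus_of_aniso hanF L ((d⁻¹ : Fˣ) : F) fun v => ?_
      have h := key ((K1⁻¹ : GL I F).1 *ᵥ v)
      rw [Matrix.mulVec_mulVec, ← Units.val_mul, mul_inv_cancel, Units.val_one, Matrix.one_mulVec,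
        Orth.coe_quadPlus] at h
      rw [h, ← mul_assoc, Units.inv_mul, one_mul]
      have hLv : L v = ((K1⁻¹ : GL I F).1 *ᵥ v) ∘ ε := by rw [← Forms.glLinEquiv_apply]; rfl
      rw [hLv]
    · right
      obtain ⟨z₁, z₂, hz12, hzne⟩ : ∃ z₁ z₂ : F,
          z₁ ^ 2 + e 1 * z₁ * z₂ + e ζ * z₂ ^ 2 = 0 ∧ ¬(z₁ = 0 ∧ z₂ = 0) := by
        simpa [Aniso, not_forall] using hanF
      have hz2 : z₂ ≠ 0 := by
        rintro rfl
        exact hzne ⟨by simpa using hz12, rfl⟩
      set θ := -(z₁ / z₂) with hθd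
      have hθ : θ * θ - e 1 * θ + e ζ = 0 := by
        rw [hθd]; field_simp; linear_combination hz12
      have hnofix : σ θ ≠ θ := by
        intro hf
        obtain ⟨t, ht⟩ := hrange θ hf
        refine hζ (-t) (e.injective ?_)
        rw [← ht] at hθ
        rw [map_one, one_mul] at hθ
        rw [map_add, map_add, map_pow, map_neg, map_zero]
        linear_combination hθ
      set θ' := e 1 - θ with hθ'd
      have hp : θ * θ' = e ζ := by rw [hθ'd]; linear_combination -hθ
      have hσθ : σ θ = θ' := by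
        have h1 := congrArg σ hθ
        simp only [map_add, map_sub, map_mul, hfix, map_zero] at h1
        have h2 : (σ θ - θ) * (σ θ - θ') = 0 := by rw [hθ'd]; linear_combination h1 - hθ
        exact sub_eq_zero.1 ((mul_eq_zero.1 h2).resolve_left (sub_ne_zero.2 hnofix))
      have hσθ' : σ θ' = θ := by rw [hθ'd, map_sub, hfix, hσθ, hθ'd]; ring
      have hne : θ ≠ θ' := fun h => hnofix (hσθ.trans h.symm)
      have hr2 : r = 2 := by
        refine hr.eq_two_or_odd'.resolve_right fun ho => hnofix ?_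
        obtain ⟨j, hj⟩ := ho
        have hsq : ∀ n, (σ ^ (2 * n)) θ = θ := by
          intro n
          induction n with
          | zero => rfl
          | succ n ih =>
            rw [mul_add, mul_one, pow_add, RingAut.mul_apply, pow_two, RingAut.mul_apply, hσθ, hσθ',
              ih]
        have h1 : (σ ^ r) θ = θ := by rw [← hσ, pow_orderOf_eq_one]; rfl
        rwa [hj, pow_succ', RingAut.mul_apply, hsq] at h1
      refine ⟨hr2, ?_⟩
      obtain ⟨L, hLv, hL⟩ := exists_planeEquiv k hne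
      let Λ : GL I F := Forms.glLinEquiv.symm ((LinearEquiv.funCongrLeft F F ε).trans L)
      have hΛ : ∀ y : I → F, Λ.1 *ᵥ y = L (y ∘ ε) := fun y => by
        rw [← Forms.glLinEquiv_apply]; simp [Λ]; rfl
      refine ⟨a, K1 * Λ⁻¹, ⟨d, fun v => ?_⟩, ?_⟩
      · have h1 := key ((Λ⁻¹ : GL I F).1 *ᵥ v)
        have hv : Λ.1 *ᵥ ((Λ⁻¹ : GL I F).1 *ᵥ v) = v := by
          rw [Matrix.mulVec_mulVec, ← Units.val_mul, mul_inv_cancel, Units.val_one,
            Matrix.one_mulVec]
        rw [Units.val_mul, ← Matrix.mulVec_mulVec]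
        refine h1.trans ?_
        congr 1
        conv_rhs => rw [← hv, hΛ, hL]
        congr 1
        · rw [hθ'd]; ring
        · rw [hp]
      · have hσΛ : galGL σ Λ = swapR k F * Λ := by
          refine Units.ext (Matrix.mulVec_injective (funext fun x => ?_))
          obtain ⟨y, rfl⟩ : ∃ y, x = σ ∘ y :=
            ⟨σ.symm ∘ x, funext fun i => (σ.apply_symm_apply _).symm⟩
          rw [FieldAut.galGL_mulVec, Units.val_mul, ← Matrix.mulVec_mulVec, hΛ, hΛ, hLv, hLv,
            swapR_mulVec]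
          funext s
          rcases s with i | i <;> refine Fin.lastCases ?_ (fun j => ?_) i <;>
            simp [planeMap, hσθ, hσθ']
        have hσK : galGL σ (K1 * Λ⁻¹) = galGL σ kk * mapGL e Ψ * (swapR k F * Λ)⁻¹ := by
          rw [hK1, map_mul, map_mul, map_inv, hσΛ, FieldAut.galGL_mapGL e hfix]
        have hR2 : swapR k F * swapR k F = 1 := by
          refine Units.ext (Matrix.mulVec_injective (funext fun x => ?_))
          rw [Units.val_mul, ← Matrix.mulVec_mulVec, Units.val_one, Matrix.one_mulVec, swapR,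
            ← Orth.ap_apply, ← Orth.ap_apply, Orth.refl_ap_ap]
        rw [hσK, hgk, hK1]
        congr 1
        simp only [mul_inv_rev, inv_inv, mul_assoc]
        rw [← mul_assoc (swapR k F) (swapR k F), hR2, one_mul, inv_mul_cancel_left,
          mul_inv_cancel_left]

theorem plus_desc (hk : 2 ≤ k) {σ : F ≃+* F} {r : ℕ} (hσ : orderOf σ = r) (hr : r.Prime)
    {g : GL I F} (hg : g ∈ plusS (k + 1) F (by omega)) (hz : ∃ z : Fˣ, twNorm σ r g = scal z) :
    ∃ k' ∈ plusS (k + 1) F (show 3 ≤ k + 1 by omega),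
      ∃ a : Fˣ, g = scal a * (k' * (galGL σ k')⁻¹) := by
  have hS := splitPlus (F := F) (show 3 ≤ k + 1 by omega)
  have hsg : ∀ {M : GL I F}, M ∈ SimP → galGL σ M ∈ SimP := fun hM =>
    FieldAut.galGL_sim (coeffFixed_plus σ) hM
  have hps : ∀ M : GL I F, par (baseU (k + 1) F) (galGL σ M) = par (baseU (k + 1) F) M := fun M =>
    Split.par_galGL σ (semiImage_baseU σ) M
  rcases plus_classify hσ hr hg.1 hz with ⟨a, k', hk', hgk⟩ | ⟨-, a, k', hk', hgk⟩
  · rcases cls_eq_or (U₀ := baseU (k + 1) F) ((baseU (k + 1) F).map (Matrix.toLin' k'.1)) with h | h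
    · exact ⟨k', ⟨hk', h⟩, a, hgk⟩
    · refine ⟨k' * oddR k F, ⟨mul_mem hk' swapR_sim.2, ?_⟩, a, ?_⟩
      · rw [hS.par_mul hk' swapR_sim.2, (par_swapR hk).2, show par (baseU (k + 1) F) k' = -1 from h]
        norm_num
      · rw [hgk, map_mul, (galGL_swapR σ).2, mul_inv_rev, mul_assoc k', mul_inv_cancel_left]
  · exfalso
    have hp := hg.2
    have hm : k' * swapR k F ∈ SimP := mul_mem hk' swapR_sim.1
    rw [hgk, hS.par_mul ⟨a * a, fun v => ?_⟩ (mul_mem hm (inv_mem (hsg hk'))), hS.par_scalar,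
      hS.par_mul hm (inv_mem (hsg hk')), hS.par_mul hk' swapR_sim.1, hS.par_inv (hsg hk'),
      hps, (par_swapR hk).1] at hp
    · rcases cls_eq_or (U₀ := baseU (k + 1) F) ((baseU (k + 1) F).map (Matrix.toLin' k'.1))
        with h | h <;> rw [show par (baseU (k + 1) F) k' = _ from h] at hp <;> norm_num at hp
    · rw [FieldAut.scal_coe, Matrix.smul_mulVec, Matrix.one_mulVec, QuadraticMap.map_smul,
        smul_eq_mul, Units.val_mul]

theorem plus_desc_neg (hk : 2 ≤ k) {σ : F ≃+* F} {r : ℕ} (hσ : orderOf σ = r) (hr : r.Prime)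
    {g : GL I F} (hg : g ∈ SimP) (hpar : par (baseU (k + 1) F) g = -1)
    (hz : ∃ z : Fˣ, twNorm σ r g = scal z) :
    r = 2 ∧ ∃ k' ∈ plusS (k + 1) F (show 3 ≤ k + 1 by omega),
      ∃ a : Fˣ, g = scal a * (k' * swapR k F * (galGL σ k')⁻¹) := by
  have hS := splitPlus (F := F) (show 3 ≤ k + 1 by omega)
  have hsg : ∀ {M : GL I F}, M ∈ SimP → galGL σ M ∈ SimP := fun hM =>
    FieldAut.galGL_sim (coeffFixed_plus σ) hM
  have hps : ∀ M : GL I F, par (baseU (k + 1) F) (galGL σ M) = par (baseU (k + 1) F) M := fun M =>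
    Split.par_galGL σ (semiImage_baseU σ) M
  rcases plus_classify hσ hr hg hz with ⟨a, k', hk', hgk⟩ | ⟨hr2, a, k', hk', hgk⟩
  · exfalso
    rw [hgk, hS.par_mul ⟨a * a, fun v => ?_⟩ (mul_mem hk' (inv_mem (hsg hk'))), hS.par_scalar,
      hS.par_mul hk' (inv_mem (hsg hk')), hS.par_inv (hsg hk'), hps] at hpar
    · rcases cls_eq_or (U₀ := baseU (k + 1) F) ((baseU (k + 1) F).map (Matrix.toLin' k'.1))
        with h | h <;> rw [show par (baseU (k + 1) F) k' = _ from h] at hpar <;> norm_num at hpar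
    · rw [FieldAut.scal_coe, Matrix.smul_mulVec, Matrix.one_mulVec, QuadraticMap.map_smul,
        smul_eq_mul, Units.val_mul]
  · refine ⟨hr2, ?_⟩
    rcases cls_eq_or (U₀ := baseU (k + 1) F) ((baseU (k + 1) F).map (Matrix.toLin' k'.1)) with h | h
    · exact ⟨k', ⟨hk', h⟩, a, hgk⟩
    · refine ⟨k' * oddR k F, ⟨mul_mem hk' swapR_sim.2, ?_⟩, a, ?_⟩
      · rw [hS.par_mul hk' swapR_sim.2, (par_swapR hk).2, show par (baseU (k + 1) F) k' = -1 from h]
        norm_num
      · rw [hgk, map_mul, (galGL_swapR σ).2, mul_inv_rev, mul_assoc k' (oddR k F),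
          swapR_comm (k := k) (by omega)]
        simp [mul_assoc]

/-! ### Minus type -/

section Minus

variable {m : ℕ} {a b : F}

local notation "J" => (Fin m ⊕ Fin m) ⊕ Fin 2
local notation "QM" => quadMinus m F a b
local notation "SimM" => Geo.quadSimilarityGroup (F := F) (quadFormMinus m F a b)

/-- An even order field automorphism cannot fix the coefficients of an anisotropic binary form. -/
theorem odd_of_fix (hab : Aniso a b) {σ : F ≃+* F} {r : ℕ} (hσ : orderOf σ = r) (hr : r.Prime)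
    (ha : σ a = a) (hb : σ b = b) : Odd r := by
  refine hr.eq_two_or_odd'.resolve_left fun hr2 => ?_
  subst hr2
  set F₀ := FieldAut.fixF σ
  have : Fintype F₀ := Fintype.ofFinite _
  let a₀ : F₀ := ⟨a, (FieldAut.mem_fixF σ).2 ha⟩
  let b₀ : F₀ := ⟨b, (FieldAut.mem_fixF σ).2 hb⟩
  have hab₀ : Aniso a₀ b₀ := fun x y h => by
    obtain ⟨h1, h2⟩ := hab x y (congrArg Subtype.val h)
    exact ⟨Subtype.ext h1, Subtype.ext h2⟩
  have h2 : finrank F₀ F = 2 := by
    have hc := Module.natCard_eq_pow_finrank (K := F₀) (V := F)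
    rw [← FieldAut.pow_card_fixed σ hσ] at hc
    exact (Nat.pow_right_injective (Finite.one_lt_card (α := F₀)) hc).symm
  obtain ⟨θ, θ', -, hs, hp'⟩ := exists_roots hab₀ F h2
  have h := (hab (-θ) 1 ?_).2
  · exact one_ne_zero h
  · change θ + θ' = a at hs
    change θ * θ' = b at hp'
    linear_combination θ * hs - hp'

theorem minus_desc (hm : 2 ≤ m) (hab : Aniso a b) {σ : F ≃+* F} {r : ℕ} (hσ : orderOf σ = r)
    (hr : r.Prime) (ha : σ a = a) (hb : σ b = b) {g : GL J F} (hg : g ∈ SimM)
    (hz : ∃ z : Fˣ, twNorm σ r g = scal z) :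
    ∃ k' ∈ minusS m a b hm hab, ∃ c : Fˣ, g = scal c * (k' * (galGL σ k')⁻¹) := by
  classical
  set F₀ := FieldAut.fixF σ
  have : Fintype F₀ := Fintype.ofFinite _
  set e : F₀ →+* F := F₀.subtype with he
  have hfix : ∀ x, σ (e x) = e x := fun x => (FieldAut.mem_fixF σ).1 x.2
  have hrange : ∀ x, σ x = x → x ∈ Set.range e := fun x hx => ⟨⟨x, (FieldAut.mem_fixF σ).2 hx⟩, rfl⟩
  let a₀ : F₀ := ⟨a, (FieldAut.mem_fixF σ).2 ha⟩
  let b₀ : F₀ := ⟨b, (FieldAut.mem_fixF σ).2 hb⟩
  have hab₀ : Aniso a₀ b₀ := fun x y h => by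
    obtain ⟨h1, h2⟩ := hab x y (congrArg Subtype.val h)
    exact ⟨Subtype.ext h1, Subtype.ext h2⟩
  obtain ⟨z, hz⟩ := hz
  have hem : ∀ v : J → F₀, QM (e ∘ v) = e (quadMinus m F₀ a₀ b₀ v) := fun v => by
    simp [Orth.coe_quadMinus, quadFormMinus, a₀, b₀, he]
  obtain ⟨c, d, kk, Q₀, hgk, hnd, hd⟩ := FieldAut.exists_descended_form (Q := QM) (e := e)
    (Orth.quadMinus_nondeg m hab) (coeffFixed_minus ha hb) hσ hr.pos hfix hrange hg hz
  rcases Forms.classify_even Q₀ hnd (m := m + 1)
    (by rw [Module.finrank_fintype_fun_eq_card]; simp; omega) hab₀ with ⟨ψ, hψ⟩ | ⟨-, ψ, hψ⟩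
  · exfalso
    let M : (Fin (m + 1) ⊕ Fin (m + 1) → F) →ₗ[F] (J → F) := (Pi.basisFun F _).constr F
      fun s => kk.1 *ᵥ (e ∘ ψ (Pi.single s 1))
    have hM : ∀ w, M (e ∘ w) = kk.1 *ᵥ (e ∘ ψ w) := by
      intro w
      rw [Module.Basis.constr_apply_fintype]
      simp only [Pi.basisFun_equivFun, LinearEquiv.refl_apply, Function.comp_apply]
      have h1 : e ∘ ψ w = ∑ s, e (w s) • (e ∘ ψ (Pi.single s 1)) := by
        conv_lhs => rw [pi_eq_sum_univ' w, map_sum]
        funext i
        simp [Finset.sum_apply, map_sum, map_mul]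
      rw [h1, Matrix.mulVec_sum]
      exact Finset.sum_congr rfl fun s _ => (Matrix.mulVec_smul _ _ _).symm
    have hQM : ∀ v, QM (M v) = (d : F) * quadFormPlus (m + 1) F v := by
      have h : (QM).comp M = (d : F) • quadPlus (m + 1) F := by
        refine FieldAut.quadForm_ext_of_subfield e _ _ fun w => ?_
        show QM (M (e ∘ w)) = (d : F) * quadPlus (m + 1) F (e ∘ w)
        rw [hM, hd, hψ, Forms.qfPlus_apply]
        simp [Orth.coe_quadPlus, quadFormPlus]
      exact fun v => QuadraticMap.congr_fun h v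
    have hinj : Function.Injective M := by
      rw [← LinearMap.ker_eq_bot, Submodule.eq_bot_iff]
      intro v hv
      refine (Orth.quadPlus_nondeg (F := F) (m + 1)).1 v fun y => ?_
      show polar ⇑(quadPlus (m + 1) F) v y = 0
      have h1 : ∀ x, quadPlus (m + 1) F x = ((d⁻¹ : Fˣ) : F) * QM (M x) := fun x => by
        rw [hQM, ← mul_assoc, Units.inv_mul, one_mul, Orth.coe_quadPlus]
      simp only [polar, h1, map_add, LinearMap.mem_ker.1 hv, zero_add, QuadraticMap.map_zero]
      ring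
    exact not_plus_of_aniso hab (LinearEquiv.ofInjectiveOfFinrankEq M hinj (by simp; omega)) (d : F)
      fun v => hQM v
  · obtain ⟨k', hk', hg'⟩ := FieldAut.similarity_of_descended (Q := QM) (quadMinus m F₀ a₀ b₀)
      hem hfix hgk hd (c := 1) ψ (fun v => by rw [hψ, Units.val_one, one_mul, Forms.qfMinus_apply]; rfl)
    by_cases hp : PreservesSingularClassesMinus m a b k'.1
    · exact ⟨k', ⟨hk', hp⟩, c, hg'⟩
    · -- a rational reflection swaps the classes
      let v₁ : J → F := Pi.single (.inl (.inl ⟨0, by omega⟩)) 1 + Pi.single (.inl (.inr ⟨0, by omega⟩)) 1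
      have hv₁ : σ ∘ v₁ = v₁ := by funext s; simp [v₁, Pi.single_apply, apply_ite σ]
      have hQv : QM v₁ ≠ 0 := by
        have h1 : QM v₁ = 1 := by
          rw [Orth.coe_quadMinus, quadFormMinus, Finset.sum_eq_single (⟨0, by omega⟩ : Fin m)]
          · simp [v₁]
          · intro j _ hj; simp [v₁, hj]
          · simp
        rw [h1]; exact one_ne_zero
      let R : GL J F := (refl QM v₁).1
      have hR : R ∈ SimM := FieldAut.iso_le_sim (refl QM v₁).2
      refine ⟨k' * R, ⟨mul_mem hk' hR, ?_⟩, c, ?_⟩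
      · obtain ⟨p, hchar⟩ := CharP.exists F
        obtain ⟨K, iK, iA, h2, -⟩ := exists_quadratic_ext hab
        haveI : FiniteDimensional F K := FiniteDimensional.of_finrank_eq_succ h2
        haveI : Finite K := Module.finite_of_finite F
        obtain ⟨θ, θ', hne, hs, hp'⟩ := exists_roots hab K h2
        obtain ⟨L, -, hL⟩ := exists_planeEquiv m hne
        have hL' : ∀ v, quadFormPlus (m + 1) K (L v)
            = quadFormMinus m K (algebraMap F K a) (algebraMap F K b) v := by
          rw [← hs, ← hp']; exact hL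
        have hS := splitPlus (F := K) (show 3 ≤ m + 1 by omega)
        have hk : ∀ {y}, y ∈ SimM → (PreservesSingularClassesMinus m a b y.1 ↔
            par (baseU (m + 1) K) (conjL L (mapGL (algebraMap F K) y)) = 1) := fun hy =>
          (preservesMinus_iff hm hab hy K h2).trans (preservesK_iff hm _ hs hp' hL hy)
        have hsim : ∀ {y}, y ∈ SimM → conjL L (mapGL (algebraMap F K) y) ∈
            Geo.quadSimilarityGroup (F := K) (quadFormPlus (m + 1) K) := fun hy =>
          conjL_sim L _ _ hL' (mapGL_sim_minus _ hy)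
        rw [hk hk'] at hp
        rw [hk (mul_mem hk' hR), map_mul, map_mul, hS.par_mul (hsim hk') (hsim hR)]
        have hneg : par (baseU (m + 1) K) (conjL L (mapGL (algebraMap F K) R)) = -1 := by
          have hw : ∀ x, quadPlus (m + 1) K (L x)
              = quadMinus m K (algebraMap F K a) (algebraMap F K b) x := hL'
          set w := L (algebraMap F K ∘ v₁) with hwd
          have hQw : quadPlus (m + 1) K w = algebraMap F K (QM v₁) := by
            rw [hwd, hw]; simp [Orth.coe_quadMinus, quadFormMinus]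
          have e1 : conjL L (mapGL (algebraMap F K) R) = (refl (quadPlus (m + 1) K) w).1 := by
            refine Units.ext (Matrix.ext_of_mulVec_single fun s => ?_)
            obtain ⟨u, hu⟩ := L.surjective (Pi.single s 1)
            rw [← hu, conjL_mulVec, ← Orth.ap_apply, Orth.refl_ap, hQw]
            have hbase : ∀ x : J → F, (mapGL (algebraMap F K) R).1 *ᵥ (algebraMap F K ∘ x) =
                algebraMap F K ∘ (x - ((QM v₁)⁻¹ * polar ⇑QM v₁ x) • v₁) := fun x => by
              rw [FieldAut.mapGL_coe, map_mulVec_comp, ← Orth.refl_ap, Orth.ap_apply]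
            have hpol : ∀ x : J → K, polar ⇑(quadPlus (m + 1) K) w (L x)
                = polar ⇑(quadMinus m K (algebraMap F K a) (algebraMap F K b))
                    (algebraMap F K ∘ v₁) x := fun x => by
              simp only [polar, hwd, ← map_add, hw]
            rw [hpol, hwd, ← map_smul, ← map_sub]
            congr 1
            have hlin : ∀ x : J → K, (mapGL (algebraMap F K) R).1 *ᵥ x =
                x - ((algebraMap F K (QM v₁))⁻¹ * polar ⇑(quadMinus m K (algebraMap F K a)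
                  (algebraMap F K b)) (algebraMap F K ∘ v₁) x) • (algebraMap F K ∘ v₁) := by
              have hle : Matrix.mulVecLin (mapGL (algebraMap F K) R).1 = LinearMap.id -
                  ((algebraMap F K (QM v₁))⁻¹ • (quadMinus m K (algebraMap F K a)
                    (algebraMap F K b)).polarBilin (algebraMap F K ∘ v₁)).smulRight
                    (algebraMap F K ∘ v₁) := by
                refine (Pi.basisFun K J).ext fun t => ?_
                have hs1 : algebraMap F K ∘ (Pi.single t (1 : F)) = (Pi.single t (1 : K) : J → K) := by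
                  funext j; simp [Pi.single_apply, apply_ite (algebraMap F K)]
                have h3 := hbase (Pi.single t 1)
                rw [hs1] at h3
                have h4 : polar ⇑(quadMinus m K (algebraMap F K a) (algebraMap F K b))
                    (algebraMap F K ∘ v₁) (Pi.single t 1)
                      = algebraMap F K (polar ⇑QM v₁ (Pi.single t 1)) := by
                  rw [← hs1, Orth.coe_quadMinus, Orth.coe_quadMinus, Orth.polar_quadMinus,
                    Orth.polar_quadMinus]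
                  simp [map_ofNat]
                rw [Pi.basisFun_apply, Matrix.mulVecLin_apply, h3]
                funext j
                simp [h4, Pi.single_apply, apply_ite (algebraMap F K)]
              exact fun x => LinearMap.congr_fun hle x
            exact hlin u
          rw [e1, hS.par_iso, Orth.dick_refl hS.good.nd]
          rw [hQw]
          simpa using hQv
        rcases cls_eq_or (U₀ := baseU (m + 1) K) ((baseU (m + 1) K).map
            (Matrix.toLin' (conjL L (mapGL (algebraMap F K) k')).1)) with h | h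
        · exact absurd h hp
        · rw [hneg, show par (baseU (m + 1) K) (conjL L (mapGL (algebraMap F K) k')) = -1 from h]
          norm_num
      · rw [hg', map_mul, galGL_refl (Q := QM) (coeffFixed_minus ha hb) hv₁, mul_inv_rev,
          mul_assoc k', mul_inv_cancel_left]

end Minus

end Cfsg.Agent.OrthEven
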