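import Cfsg.Agent.Lib.OrthEven.Rank
import Cfsg.Agent.Lib.OrthEven.Twist
import Cfsg.Agent.Lib.Forms.Bases

/-!
# Isometries under change of field and of coordinates

* `isoTr`, `isoTr_refl`, `dick_isoTr`, `spin_isoTr`
* `MinusModel`, `exists_minusModel`, `scal_mem_minusS`, `preservesMinus_iso`, `exists_minusS_mult`,
  `preservesMinus_mapGL`
-/

set_option autoImplicit false
set_option linter.style.haveILetI false
set_option linter.unusedSectionVars false

namespace Cfsg.Agent.OrthEven

open Cfsg Cfsg.Agent Module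
open scoped Matrix MatrixGroups
open QuadraticMap (polar)
open Cfsg.Agent.Orth (IsoGrp Aniso Good quadPlus quadMinus ap refl dick spin)
open Cfsg.Agent.FieldAut (galGL mapGL scal)

section Transfer

variable {ι ι' : Type} [Fintype ι] [DecidableEq ι] [Fintype ι'] [DecidableEq ι'] {F₀ F : Type*}
  [Field F₀] [Field F] [Fintype F] (e : F₀ →+* F) (Qm : QuadraticForm F₀ (ι → F₀))
  (Q' : QuadraticForm F (ι' → F)) (L : (ι → F) ≃ₗ[F] (ι' → F))
  (hL : ∀ v, Q' (L (e ∘ v)) = e (Qm v))

/-- Isometries read over a larger field in other coordinates. -/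
noncomputable def isoTr : IsoGrp Qm →* IsoGrp Q' :=
  (((conjL L).toMonoidHom.comp (mapGL e)).comp
    (isometryGroup F₀ ⇑Qm).subtype).codRestrict _ fun g => by
    refine FieldAut.mem_iso_iff.2 fun w => ?_
    obtain ⟨v, rfl⟩ := L.surjective w
    show Q' ((conjL L (mapGL e g.1)).1 *ᵥ L v) = Q' (L v)
    rw [conjL_mulVec]
    have key : (Q'.comp L.toLinearMap).comp (Matrix.mulVecLin (mapGL e g.1).1)
        = Q'.comp L.toLinearMap := by
      refine FieldAut.quadForm_ext_of_subfield e _ _ fun u => ?_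
      show Q' (L ((mapGL e g.1).1 *ᵥ (e ∘ u))) = Q' (L (e ∘ u))
      rw [FieldAut.mapGL_coe, map_mulVec_comp, hL, hL, FieldAut.mem_iso_iff.1 g.2]
    exact QuadraticMap.congr_fun key v

theorem isoTr_coe (g : IsoGrp Qm) : (isoTr e Qm Q' L hL g : GL ι' F) = conjL L (mapGL e g.1) := rfl

theorem isoTr_refl (v : ι → F₀) :
    isoTr e Qm Q' L hL (refl Qm v) = refl Q' (L (e ∘ v)) := by
  have hadd : ∀ x y : ι → F₀, e ∘ (x + y) = e ∘ x + e ∘ y := fun x y => funext fun i => map_add e _ _
  have hpol : ∀ x, polar ⇑Q' (L (e ∘ v)) (L (e ∘ x)) = e (polar ⇑Qm v x) := fun x => by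
    simp only [polar, map_sub, ← map_add, ← hadd, hL]
  refine Orth.ext_ap fun w => ?_
  obtain ⟨z, rfl⟩ := L.surjective w
  have key : ap (isoTr e Qm Q' L hL (refl Qm v)) ∘ₗ L.toLinearMap
      = ap (refl Q' (L (e ∘ v))) ∘ₗ L.toLinearMap := by
    refine (Pi.basisFun F ι).ext fun i => ?_
    have hs : e ∘ (Pi.single i (1 : F₀)) = (Pi.single i (1 : F) : ι → F) := by
      funext j; simp [Pi.single_apply, apply_ite e]
    rw [Pi.basisFun_apply, ← hs, LinearMap.comp_apply, LinearMap.comp_apply, LinearEquiv.coe_coe,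
      Orth.refl_ap, Orth.ap_apply, isoTr_coe, conjL_mulVec, FieldAut.mapGL_coe, map_mulVec_comp,
      ← Orth.ap_apply, Orth.refl_ap, hpol, hL, ← map_smul, ← map_sub]
    congr 1
    funext j
    simp
  exact LinearMap.congr_fun key z

include hL in
theorem hval_ne {v : ι → F₀} (hv : Qm v ≠ 0) : Q' (L (e ∘ v)) ≠ 0 := by
  rw [hL]; exact (map_ne_zero e).2 hv

theorem dick_isoTr (hG : Good Qm) (hG' : Good Q') (g : IsoGrp Qm) :
    dick (isoTr e Qm Q' L hL g) = dick g := by
  induction g using Orth.reflGen_induction hG with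
  | one => rw [map_one, Orth.dick_one, Orth.dick_one]
  | mul v g hv ih =>
    rw [map_mul, isoTr_refl, Orth.dick_refl_mul hG'.nd _ (hval_ne e Qm Q' L hL hv),
      Orth.dick_refl_mul hG.nd _ hv, ih]

open Classical in
theorem spin_isoTr [Fintype F₀] (hG : Good Qm) (hG' : Good Q') (φ : ℤ →* ℤ)
    (hφ : ∀ x : F₀, x ≠ 0 → quadraticChar F (e x) = φ (quadraticChar F₀ x)) (g : IsoGrp Qm) :
    spin (isoTr e Qm Q' L hL g) = φ (spin g) := by
  induction g using Orth.reflGen_induction hG with
  | one => simp [Orth.spin_one]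
  | mul v g hv ih =>
    rw [map_mul, isoTr_refl, Orth.spin_mul hG', Orth.spin_mul hG, map_mul, ih,
      Orth.spin_refl hG'.nd (hval_ne e Qm Q' L hL hv), Orth.spin_refl hG.nd hv, hL, hφ _ hv]

end Transfer

theorem conjL_refl {ι : Type} [Fintype ι] [DecidableEq ι] {K : Type*} [Field K] (g : GL ι K) :
    conjL (LinearEquiv.refl K (ι → K)) g = g := by
  refine Units.ext (Matrix.mulVec_injective (funext fun v => ?_))
  exact conjL_mulVec (LinearEquiv.refl K (ι → K)) g v

/-! ### The minus model as a twisted plus model -/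

universe u

variable {m : ℕ} {E : Type u} [Field E] [Fintype E] {a b : E}

local notation "J" => (Fin m ⊕ Fin m) ⊕ Fin 2
local notation "SimM" => Geo.quadSimilarityGroup (F := E) (quadFormMinus m E a b)

theorem quadMinus_good (hm : 2 ≤ m) (hab : Aniso a b) : Good (quadMinus m E a b) :=
  Good.of_card (Orth.quadMinus_nondeg m hab) (Or.inr (by simp; omega))

/-- The sign character read in a hyperbolic model. -/
structure MinusModel (m : ℕ) (a b : E) where
  sgn : GL ((Fin m ⊕ Fin m) ⊕ Fin 2) E → ℤ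
  sgn_or : ∀ g, sgn g = 1 ∨ sgn g = -1
  preserves : ∀ g, g ∈ Geo.quadSimilarityGroup (F := E) (quadFormMinus m E a b) →
    (PreservesSingularClassesMinus m a b g.1 ↔ sgn g = 1)
  mul : ∀ g h, g ∈ Geo.quadSimilarityGroup (F := E) (quadFormMinus m E a b) →
    h ∈ Geo.quadSimilarityGroup (F := E) (quadFormMinus m E a b) → sgn (g * h) = sgn g * sgn h
  scalar : ∀ c : Eˣ, sgn (scal c) = 1
  iso : ∀ o : IsoGrp (quadMinus m E a b), sgn o.1 = dick o

theorem exists_minusModel (hm : 2 ≤ m) (hab : Aniso a b) : Nonempty (MinusModel m a b) := by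
  obtain ⟨K, iK, iA, h2, -⟩ := exists_quadratic_ext hab
  haveI : FiniteDimensional E K := FiniteDimensional.of_finrank_eq_succ h2
  haveI : Finite K := Module.finite_of_finite E
  have : Fintype K := Fintype.ofFinite K
  obtain ⟨θ, θ', hne, hs, hp⟩ := exists_roots hab K h2
  obtain ⟨L, -, hL⟩ := exists_planeEquiv m hne
  have hL' : ∀ v, quadFormPlus (m + 1) K (L v)
      = quadFormMinus m K (algebraMap E K a) (algebraMap E K b) v := by rw [← hs, ← hp]; exact hL
  have hS := splitPlus (F := K) (show 3 ≤ m + 1 by omega)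
  have hsim : ∀ {z}, z ∈ SimM → conjL L (mapGL (algebraMap E K) z) ∈
      Geo.quadSimilarityGroup (F := K) (quadFormPlus (m + 1) K) := fun hz =>
    conjL_sim L _ _ hL' (mapGL_sim_minus _ hz)
  refine ⟨⟨fun g => par (baseU (m + 1) K) (conjL L (mapGL (algebraMap E K) g)),
    fun g => cls_eq_or _, fun g hg => (preservesMinus_iff hm hab hg K h2).trans
      (preservesK_iff hm _ hs hp hL hg), fun g h hg hh => ?_, fun c => ?_, fun o => ?_⟩⟩
  · show par _ (conjL L (mapGL _ (g * h))) = _
    rw [map_mul, map_mul, hS.par_mul (hsim hg) (hsim hh)]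
  · show par _ (conjL L (mapGL _ (scal c : GL J E))) = 1
    have e1 : mapGL (algebraMap E K) (scal c : GL J E)
        = scal (Units.map (algebraMap E K).toMonoidHom c) := by
      ext i j
      by_cases h : i = j <;> simp [FieldAut.scal_coe, h]
    rw [e1]
    have e2 : conjL L (scal (Units.map (algebraMap E K).toMonoidHom c))
        = scal (Units.map (algebraMap E K).toMonoidHom c) := by
      refine Units.ext (Matrix.mulVec_injective (funext fun w => ?_))
      obtain ⟨v, rfl⟩ := L.surjective w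
      rw [conjL_mulVec, FieldAut.scal_coe, FieldAut.scal_coe, Matrix.smul_mulVec,
        Matrix.smul_mulVec, Matrix.one_mulVec, Matrix.one_mulVec, map_smul]
    rw [e2, hS.par_scalar]
  · have hL'' : ∀ v : J → E, quadPlus (m + 1) K (L (algebraMap E K ∘ v))
        = algebraMap E K (quadMinus m E a b v) := fun v => by
      rw [Orth.coe_quadPlus, hL', minusQ_comp, Orth.coe_quadMinus]
    show par _ (conjL L (mapGL _ o.1)) = _
    rw [← isoTr_coe (algebraMap E K) (quadMinus m E a b) (quadPlus (m + 1) K) L hL'', hS.par_iso,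
      dick_isoTr _ _ _ _ _ (quadMinus_good hm hab) hS.good]

theorem scal_sim_minus (c : Eˣ) : (scal c : GL J E) ∈ SimM :=
  ⟨c * c, fun v => by
    rw [FieldAut.scal_coe, Matrix.smul_mulVec, Matrix.one_mulVec, ← Orth.coe_quadMinus,
      QuadraticMap.map_smul, smul_eq_mul, Units.val_mul]⟩

theorem scal_mem_minusS (hm : 2 ≤ m) (hab : Aniso a b) (c : Eˣ) :
    (scal c : GL J E) ∈ minusS m a b hm hab := by
  obtain ⟨M⟩ := exists_minusModel hm hab
  exact ⟨scal_sim_minus c, (M.preserves _ (scal_sim_minus c)).2 (M.scalar c)⟩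

theorem preservesMinus_iso (hm : 2 ≤ m) (hab : Aniso a b) (o : IsoGrp (quadMinus m E a b)) :
    o.1 ∈ minusS m a b hm hab ↔ dick o = 1 := by
  obtain ⟨M⟩ := exists_minusModel hm hab
  rw [← M.iso o, ← M.preserves _ (FieldAut.iso_le_sim o.2)]
  exact ⟨fun h => h.2, fun h => ⟨FieldAut.iso_le_sim o.2, h⟩⟩

/-- Class preserving similarities of every multiplier. -/
theorem exists_minusS_mult (hm : 2 ≤ m) (hab : Aniso a b) (c : Eˣ) :
    ∃ g : GL J E, g ∈ minusS m a b hm hab ∧
      ∀ v, quadFormMinus m E a b (g.1 *ᵥ v) = c * quadFormMinus m E a b v := by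
  have hnd : ((c⁻¹ : Eˣ) • quadMinus m E a b).polarBilin.Nondegenerate := by
    have h0 := Orth.quadMinus_nondeg m hab (F := E)
    have hc : ∀ x y, ((c⁻¹ : Eˣ) • quadMinus m E a b).polarBilin x y
        = (c⁻¹ : Eˣ) * (quadMinus m E a b).polarBilin x y := fun x y => by
      simp [polar, Units.smul_def]; ring
    exact ⟨fun x hx => h0.1 x fun y => (mul_eq_zero.1 ((hc x y).symm.trans (hx y))).resolve_left
        (c⁻¹).ne_zero,
      fun x hx => h0.2 x fun y => (mul_eq_zero.1 ((hc y x).symm.trans (hx y))).resolve_left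
        (c⁻¹).ne_zero⟩
  have hv : ∀ v, ((c⁻¹ : Eˣ) • quadMinus m E a b) v = (c⁻¹ : Eˣ) * quadFormMinus m E a b v :=
    fun v => by simp [Units.smul_def, Orth.coe_quadMinus]
  rcases Forms.classify_even _ hnd (m := m + 1)
    (by rw [Module.finrank_fintype_fun_eq_card]; simp; omega) hab with ⟨ψ, hψ⟩ | ⟨-, ψ, hψ⟩
  · exfalso
    refine not_plus_of_aniso hab ψ (c : E) fun v => ?_
    rw [← Forms.qfPlus_apply, ← hψ, hv, ← mul_assoc, Units.mul_inv, one_mul]
  · have h1 : ∀ v, quadFormMinus m E a b ((Forms.glLinEquiv.symm ψ : GL J E).1 *ᵥ v)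
        = c * quadFormMinus m E a b v := fun v => by
      rw [← Forms.glLinEquiv_apply, MulEquiv.apply_symm_apply]
      have h : ((c⁻¹ : Eˣ) : E) * quadFormMinus m E a b (ψ v) = quadFormMinus m E a b v :=
        (hv (ψ v)).symm.trans ((hψ v).trans (Forms.qfMinus_apply _ _ _ _))
      rw [← h, ← mul_assoc, Units.mul_inv, one_mul]
    set g := (Forms.glLinEquiv.symm ψ : GL J E)
    have hg : g ∈ SimM := ⟨c, h1⟩
    obtain ⟨M⟩ := exists_minusModel hm hab
    rcases M.sgn_or g with hs | hs
    · exact ⟨g, ⟨hg, (M.preserves _ hg).2 hs⟩, h1⟩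
    · obtain ⟨u, hu⟩ := Orth.exists_Q_eq (Orth.quadMinus_nondeg m hab) (by simp) (1 : E)
      set R := refl (quadMinus m E a b) u
      have hR : R.1 ∈ SimM := FieldAut.iso_le_sim R.2
      refine ⟨g * R.1, ⟨mul_mem hg hR, (M.preserves _ (mul_mem hg hR)).2 ?_⟩, fun v => ?_⟩
      · rw [M.mul _ _ hg hR, hs, M.iso, Orth.dick_refl (Orth.quadMinus_nondeg m hab)
          (by rw [hu]; exact one_ne_zero)]
        norm_num
      · rw [Units.val_mul, ← Matrix.mulVec_mulVec, h1]
        exact congrArg _ (FieldAut.mem_iso_iff.1 R.2 v)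

/-- The class parity is insensitive to extension of the base field. -/
theorem preservesMinus_mapGL {F : Type*} [Field F] [Fintype F] (hm : 2 ≤ m) (e : E →+* F)
    (hab : Aniso a b) (hab' : Aniso (e a) (e b)) {g : GL J E} (hg : g ∈ SimM) :
    PreservesSingularClassesMinus m (e a) (e b) (mapGL e g).1 ↔
      PreservesSingularClassesMinus m a b g.1 := by
  obtain ⟨K, _, _, h2, -⟩ := exists_quadratic_ext hab'
  haveI : FiniteDimensional F K := FiniteDimensional.of_finrank_eq_succ h2
  haveI : Finite K := Module.finite_of_finite F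
  letI : Algebra E F := e.toAlgebra
  letI : Algebra E K := ((algebraMap F K).comp e).toAlgebra
  haveI : IsScalarTower E F K := IsScalarTower.of_algebraMap_eq fun x => rfl
  haveI : Module.Finite E F := Module.Finite.of_finite
  have hdvd : 2 ∣ finrank E K := ⟨finrank E F, by rw [← Module.finrank_mul_finrank E F K, h2, mul_comm]⟩
  rw [preservesMinus_iff hm hab' (mapGL_sim_minus e hg) K h2,
    preservesMinus_of_dvd hm hab hg K hdvd, FieldAut.mapGL_coe, Matrix.map_map]
  rfl

end Cfsg.Agent.OrthEven
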