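import Cfsg.Agent.Lib.OrthEven.Field
import Cfsg.Agent.Lib.OrthEven.BaseChange
import Cfsg.Agent.Lib.FieldAut.OrthOdd

/-!
# Field automorphisms of `PΩ⁻_{2m+2}(q)`: centraliser and splitting

* `minus_covers` : for odd order the rational class preserving similarities cover every coset of `Ω`
* `minus_field_structure`
-/

set_option autoImplicit false
set_option linter.style.haveILetI false
set_option linter.unusedSectionVars false

namespace Cfsg.Agent.OrthEven

open Cfsg Cfsg.Agent Module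
open scoped Matrix MatrixGroups
open Cfsg.Agent.Orth (IsoGrp Aniso Good quadPlus quadMinus ap refl dick spin)
open Cfsg.Agent.FieldAut (galGL mapGL omMat omMat_injective scal Setup conjAut)

variable {m : ℕ} {F : Type*} [Field F] [Fintype F] {F₀ : Type*} [Field F₀] [Fintype F₀]

local notation "J" => (Fin m ⊕ Fin m) ⊕ Fin 2

theorem mapGL_minusS (hm : 2 ≤ m) (e : F₀ →+* F) {a₀ b₀ : F₀} (hab₀ : Aniso a₀ b₀)
    (hab : Aniso (e a₀) (e b₀)) {g : GL J F₀} (hg : g ∈ minusS m a₀ b₀ hm hab₀) :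
    mapGL e g ∈ minusS m (e a₀) (e b₀) hm hab :=
  ⟨mapGL_sim_minus e hg.1, (preservesMinus_mapGL hm e hab₀ hab hg.1).2 hg.2⟩

open Classical in
/-- For an automorphism of odd order, `Ω`, scalars and rational elements give all of `minusS`. -/
theorem minus_covers (hm : 2 ≤ m) (e : F₀ →+* F) {σ : F ≃+* F} {r : ℕ} (hσ : orderOf σ = r)
    (hr : Odd r) (hfix : ∀ x, σ (e x) = e x) (hrange : ∀ x, σ x = x → x ∈ Set.range e)
    {a₀ b₀ : F₀} (hab₀ : Aniso a₀ b₀) (hab : Aniso (e a₀) (e b₀)) {g : GL J F}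
    (hg : g ∈ minusS m (e a₀) (e b₀) hm hab) :
    ∃ (d : Fˣ) (ω : ↥(Omega F (quadFormMinus m F (e a₀) (e b₀)))) (g₀ : GL J F₀),
      g₀ ∈ minusS m a₀ b₀ hm hab₀ ∧ g = scal d * omMat _ ω * mapGL e g₀ := by
  set Qm := quadMinus m F₀ a₀ b₀
  set Q := quadMinus m F (e a₀) (e b₀) with hQdef
  have hGm : Good Qm := quadMinus_good hm hab₀
  have hG : Good Q := quadMinus_good hm hab
  have hchar : ∀ x : F₀, x ≠ 0 → quadraticChar F (e x) = quadraticChar F₀ x :=
    FieldAut.quadraticChar_embed_odd e hσ hr hfix hrange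
  obtain ⟨c, hc⟩ := hg.1
  obtain ⟨g₁, hg₁, hmult⟩ : ∃ g₁ : GL J F₀, g₁ ∈ minusS m a₀ b₀ hm hab₀ ∧
      ∃ d : Fˣ, ∀ v, Q ((g * (mapGL e g₁)⁻¹).1 *ᵥ v) = (d : F) * d * Q v := by
    by_cases hsq : IsSquare (c : F)
    · obtain ⟨y, hy⟩ := hsq
      refine ⟨1, one_mem _, Units.mk0 y (fun h0 => c.ne_zero (by rw [hy, h0, mul_zero])), fun v => ?_⟩
      rw [map_one, inv_one, mul_one, Units.val_mk0, ← hy]
      exact hc v
    · have hF2 : ringChar F ≠ 2 := fun h2 => hsq (FiniteField.isSquare_of_char_two h2 _)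
      have hF₀2 : ringChar F₀ ≠ 2 := fun h2 => hF2 (CharP.ringChar_of_prime_eq_zero
        Nat.prime_two (by
          rw [← map_natCast e 2]
          refine (map_eq_zero e).2 ?_
          rw [← h2]; exact ringChar.Nat.cast_ringChar))
      obtain ⟨ε, hε⟩ := quadraticChar_exists_neg_one' (F := F₀) hF₀2
      obtain ⟨h, hh, hhm⟩ := exists_minusS_mult hm hab₀ ε
      have hprod : IsSquare ((c : F) * (e ε)⁻¹) := by
        have hq : quadraticChar F ((c : F) * (e ε)⁻¹) = 1 := by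
          rw [map_mul, quadraticChar_neg_one_iff_not_isSquare.2 hsq]
          have h1 : quadraticChar F (e (ε⁻¹ : F₀ˣ)) = -1 := by
            rw [hchar _ (ε⁻¹).ne_zero]
            have h2 := congrArg (quadraticChar F₀) ε.mul_inv
            rw [map_mul, hε, map_one] at h2
            omega
          rw [← map_inv₀, ← Units.val_inv_eq_inv_val, h1]
          norm_num
        exact (quadraticChar_one_iff_isSquare
          (mul_ne_zero c.ne_zero (inv_ne_zero ((map_ne_zero e).2 ε.ne_zero)))).1 hq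
      obtain ⟨y, hy⟩ := hprod
      have hy0 : y ≠ 0 := fun h0 => by
        rw [h0, mul_zero] at hy
        exact mul_ne_zero c.ne_zero (inv_ne_zero ((map_ne_zero e).2 ε.ne_zero)) hy
      refine ⟨h, hh, Units.mk0 y hy0, fun v => ?_⟩
      have hm' : ∀ w, Q ((mapGL e h).1 *ᵥ w) = e ε * Q w := by
        have key : Q.comp (Matrix.mulVecLin (mapGL e h).1) = e (ε : F₀) • Q := by
          refine FieldAut.quadForm_ext_of_subfield e _ _ fun w => ?_
          show Q ((mapGL e h).1 *ᵥ (e ∘ w)) = e (ε : F₀) * Q (e ∘ w)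
          rw [FieldAut.mapGL_coe, map_mulVec_comp, hQdef, Orth.coe_quadMinus, minusQ_comp,
            minusQ_comp, hhm, map_mul]
        exact fun w => QuadraticMap.congr_fun key w
      have h3 : Q v = e ε * Q ((mapGL e h)⁻¹.1 *ᵥ v) := by
        rw [← hm', Matrix.mulVec_mulVec, ← Units.val_mul, mul_inv_cancel, Units.val_one,
          Matrix.one_mulVec]
      rw [Units.val_mul, ← Matrix.mulVec_mulVec, Units.val_mk0, ← hy, h3]
      refine (hc _).trans ?_
      have := (map_ne_zero e).2 ε.ne_zero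
      field_simp
      rfl
  obtain ⟨d, hd⟩ := hmult
  have hg' : g * (mapGL e g₁)⁻¹ ∈ minusS m (e a₀) (e b₀) hm hab :=
    mul_mem hg (inv_mem (mapGL_minusS hm e hab₀ hab hg₁))
  let o : IsoGrp Q := ⟨scal d⁻¹ * (g * (mapGL e g₁)⁻¹), FieldAut.mem_iso_iff.2 fun v => by
    rw [Units.val_mul, FieldAut.scal_coe, smul_mul_assoc, one_mul, Matrix.smul_mulVec,
      QuadraticMap.map_smul, hd, smul_eq_mul]
    simp [mul_assoc]⟩
  have hod : dick o = 1 :=
    (preservesMinus_iso hm hab o).1 (mul_mem (scal_mem_minusS hm hab _) hg')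
  have hgo : g = scal d * o.1 * mapGL e g₁ := by
    show g = scal d * (scal d⁻¹ * (g * (mapGL e g₁)⁻¹)) * mapGL e g₁
    rw [← mul_assoc (scal d), ← map_mul, mul_inv_cancel, map_one, one_mul, inv_mul_cancel_right]
  rcases Orth.spin_eq_or hG o with hs | hs
  · exact ⟨d, ⟨o, (Orth.mem_omega_iff hG o).2 ⟨hod, hs⟩⟩, g₁, hg₁, hgo⟩
  · have h2 : (2 : F) ≠ 0 := fun h0 => by
      have := Orth.spin_eq_one_of_two hG h0 o
      omega
    have h20 : (2 : F₀) ≠ 0 := fun h0 => h2 (by rw [← map_ofNat e, h0, map_zero])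
    obtain ⟨p, hp⟩ := Orth.signHom_surjective hGm (show 2 ≤ Fintype.card J by simp) h20 (1, -1)
    have h1 := congrArg (fun z : ℤˣ × ℤˣ => ((z.1 : ℤ), (z.2 : ℤ))) hp
    simp only [Orth.signHom, MonoidHom.prod_apply, MonoidHom.coe_toHomUnits, Orth.dickHom_apply,
      Orth.spinHom_apply, Units.val_one, Units.val_neg, Prod.mk.injEq] at h1
    have hLm : ∀ v, Q (LinearEquiv.refl F (J → F) (e ∘ v)) = e (Qm v) := fun v => by
      rw [LinearEquiv.refl_apply, hQdef, Orth.coe_quadMinus, minusQ_comp]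
      rfl
    set P := isoTr e Qm Q (LinearEquiv.refl F _) hLm p with hP
    have hPc : P.1 = mapGL e p.1 := by rw [hP, isoTr_coe, conjL_refl]
    refine ⟨d, ⟨o * P⁻¹, (Orth.mem_omega_iff hG _).2 ?_⟩, p.1 * g₁,
      mul_mem ((preservesMinus_iso hm hab₀ p).2 h1.1) hg₁, ?_⟩
    · rw [hP, ← map_inv, Orth.dick_mul hG, Orth.spin_mul hG, dick_isoTr _ _ _ _ _ hGm hG,
        spin_isoTr _ _ _ _ _ hGm hG (MonoidHom.id ℤ) (fun x hx => hchar x hx), hod, hs]
      have e1 := Orth.dick_mul hGm p p⁻¹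
      have e2 := Orth.spin_mul hGm p p⁻¹
      rw [mul_inv_cancel, Orth.dick_one, h1.1, one_mul] at e1
      rw [mul_inv_cancel, Orth.spin_one, h1.2] at e2
      rw [← e1, MonoidHom.id_apply]
      constructor <;> omega
    · show g = scal d * (o.1 * P.1⁻¹) * mapGL e (p.1 * g₁)
      rw [map_mul, ← hPc, hgo]
      group

theorem minus_field_structure {p f : ℕ} (hp : p.Prime) (hF : Fintype.card F = p ^ f) (hm : 3 ≤ m)
    {a b : F} (hab : Aniso a b) {x : MulAut (POmega F (quadFormMinus m F a b))}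
    (hx : IsFieldAutClassPOmegaMinus m x) {r : ℕ} (hr : r.Prime) (hxr : orderOf x = r)
    (hF₀ : Fintype.card F₀ = p ^ (f / r)) :
    Odd r ∧ r ∣ f ∧
      (∃ a₀ b₀ : F₀, Aniso a₀ b₀ ∧
        Nonempty (↥(inndiagPOmegaMinus m F a b ⊓ Subgroup.centralizer {x}) ≃*
          ↥(inndiagPOmegaMinus m F₀ a₀ b₀))) ∧
      splitClassCount (inndiagPOmegaMinus m F a b) (Inn (POmega F (quadFormMinus m F a b))) x = 1 := by
  classical
  obtain ⟨a', b', hab', ψ, σ, D, ha, hb, hx', hG⟩ := minus_field_reduce hm hab hx hr hxr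
  have hro : Odd r := odd_of_fix hab' D.ordσ hr ha hb
  obtain ⟨hrf, hQ, -⟩ := FieldAut.order_data hp hF D.ordσ D.rpos
  obtain ⟨e, he⟩ := FieldAut.exists_embedding_fixed σ D.ordσ D.rpos hQ F₀ hF₀
  have hfix : ∀ x, σ (e x) = e x := fun x => (he _).1 ⟨x, rfl⟩
  have hrange : ∀ x, σ x = x → x ∈ Set.range e := fun x h => (he x).2 h
  obtain ⟨a₀, rfl⟩ := hrange a' ha
  obtain ⟨b₀, rfl⟩ := hrange b' hb
  have hab₀ : Aniso a₀ b₀ := fun x y h => by
    obtain ⟨h1, h2⟩ := hab' (e x) (e y) (by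
      simpa using congrArg e h)
    exact ⟨e.injective (by simpa using h1), e.injective (by simpa using h2)⟩
  have hm2 : 2 ≤ m := by omega
  have hmap := inndiagMinus_congr hm hab hab' ψ
  have hem : ∀ v : J → F₀, quadMinus m F (e a₀) (e b₀) (e ∘ v) = e (quadMinus m F₀ a₀ b₀ v) := by
    intro v; rw [Orth.coe_quadMinus, minusQ_comp]; rfl
  haveI : Nonempty J := ⟨.inr 0⟩
  have hsurj : ∀ g ∈ minusS m (e a₀) (e b₀) hm2 hab', (∃ a : Fˣ, galGL σ g = scal a * g) →
      ∃ g₀ ∈ minusS m a₀ b₀ hm2 hab₀, ∃ a : Fˣ, g = scal a * mapGL e g₀ := by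
    rintro g hg ⟨t, ht⟩
    obtain ⟨g₀, hg₀, c, hgc⟩ := FieldAut.exists_sim_of_twist (Q := quadMinus m F (e a₀) (e b₀))
      (quadMinus m F₀ a₀ b₀) hem (v₀ := Pi.single (.inr 0) 1)
      (by simp [Orth.coe_quadMinus, quadFormMinus, Pi.single_apply]) D.ordσ D.rpos hrange hg.1 ht
    refine ⟨g₀, ⟨hg₀, (preservesMinus_mapGL hm2 e hab₀ hab' hg₀).1 ?_⟩, c, hgc⟩
    have h1 : mapGL e g₀ ∈ minusS m (e a₀) (e b₀) hm2 hab' := by
      rw [show mapGL e g₀ = scal c⁻¹ * g by rw [hgc, ← mul_assoc, ← map_mul, inv_mul_cancel,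
        map_one, one_mul]]
      exact mul_mem (scal_mem_minusS hm2 hab' _) hg
    exact h1.2
  obtain ⟨E⟩ := D.centralizerEquiv e hfix _ (fun g hg => mapGL_minusS hm2 e hab₀ hab' hg) hsurj
  obtain ⟨E₀⟩ := FieldAut.projQuot_equiv_range
    (rigid_of_hyp (AutPOmega.hypMinus hm hab₀ (F := F₀))) (minusS m a₀ b₀ hm2 hab₀)
    (keep_minusS hm2 hab₀)
  refine ⟨hro, hrf, ⟨a₀, b₀, hab₀, ⟨?_⟩⟩, ?_⟩
  · have E1 := centralizerMapEquiv (MulAut.congr ψ) hmap x
    rw [hx', ← hG] at E1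
    exact ((E1.trans E).trans E₀).trans
      (MulEquiv.subgroupCongr (inndiagMinus_range hm2 hab₀).symm)
  · have hInn : Inn (POmega F (quadFormMinus m F (e a₀) (e b₀))) ≤ D.G :=
      FieldAut.inn_le_range D.rigid.inj _ D.keepS fun h =>
        show omMat _ h ∈ minusS m (e a₀) (e b₀) hm2 hab' from
          (preservesMinus_iso hm2 hab' h.1).2
            ((Orth.mem_omega_iff (quadMinus_good hm2 hab') h.1).1 h.2).1
    rw [splitClassCount_map (MulAut.congr ψ) hmap (inn_map ψ) x, hx', ← hG,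
      FieldAut.splitClassCount_eq_index D.G _ hInn,
      Subgroup.index_eq_one, Subgroup.subgroupOf_eq_top]
    rintro _ ⟨⟨g, hg⟩, rfl⟩
    obtain ⟨d, ω, g₀, hg₀, hge⟩ := minus_covers hm2 e D.ordσ hro hfix hrange hab₀ hab' hg
    have hω : omMat _ ω ∈ minusS m (e a₀) (e b₀) hm2 hab' :=
      (preservesMinus_iso hm2 hab' ω.1).2
        ((Orth.mem_omega_iff (quadMinus_good hm2 hab') ω.1).1 ω.2).1
    have hgm := mapGL_minusS hm2 e hab₀ hab' hg₀
    rw [D.conjAut_scal_mul hg (mul_mem hω hgm) (by rw [hge, mul_assoc]),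
      show (⟨_, mul_mem hω hgm⟩ : minusS m (e a₀) (e b₀) hm2 hab') = ⟨_, hω⟩ * ⟨_, hgm⟩ from rfl,
      map_mul]
    refine mul_mem (Subgroup.mem_sup_left ⟨QuotientGroup.mk ω, ?_⟩)
      (Subgroup.mem_sup_right ⟨⟨_, rfl⟩, ?_⟩)
    · exact (FieldAut.inn_eq_conjAut _ _ _ ω hω).symm
    · exact (D.mem_centralizer_iff hgm).2
        ⟨1, by rw [map_one, one_mul]; exact FieldAut.galGL_mapGL e hfix g₀⟩

end Cfsg.Agent.OrthEven
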