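import Cfsg.Agent.Lib.OrthEven.Twist
import Cfsg.Agent.Lib.OrthEven.BaseChange
import Cfsg.Agent.Lib.FieldAut.OrthOdd

/-!
# The model of an involutory graph-field automorphism: `v ↦ R σ(v)`

* `GFModel`, `exists_gfModel` : the fixed points form a minus space over the fixed field
* `GFModel.emb_fixed`, `GFModel.exists_of_twist`, `GFModel.spin_fixed`, `GFModel.emb_par`
-/

set_option autoImplicit false
set_option linter.style.haveILetI false
set_option linter.unusedSectionVars false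

namespace Cfsg.Agent.OrthEven

open Cfsg Cfsg.Agent Module
open scoped Matrix MatrixGroups
open Cfsg.Agent.Orth (IsoGrp Aniso Good quadPlus quadMinus ap refl spin)
open Cfsg.Agent.FieldAut (galGL mapGL scal)

section Tools

variable {ι ι' : Type} [Fintype ι] [DecidableEq ι] [Fintype ι'] [DecidableEq ι'] {K : Type*} [Field K]

theorem exists_mapGL_of_fixed {K₀ : Type*} [Field K₀] (e : K₀ →+* K) {σ : K ≃+* K}
    (hrange : ∀ x, σ x = x → x ∈ Set.range e) {g : GL ι K} (hg : galGL σ g = g) :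
    ∃ g₀ : GL ι K₀, mapGL e g₀ = g := by
  have h : ∀ i j, g.1 i j ∈ Set.range e := fun i j =>
    hrange _ (congrArg (fun x : GL ι K => x.1 i j) hg)
  choose M hM using h
  have hM' : (Matrix.of M).map e = g.1 := by ext i j; exact hM i j
  have hdet : IsUnit (Matrix.of M).det := by
    rw [isUnit_iff_ne_zero]
    intro h0
    refine g.det_ne_zero ?_
    rw [← hM']
    show (e.mapMatrix (Matrix.of M)).det = 0
    rw [← RingHom.map_det, h0, map_zero]
  exact ⟨((Matrix.isUnit_iff_isUnit_det _).2 hdet).unit,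
    Units.ext (by rw [FieldAut.mapGL_coe, IsUnit.unit_spec]; exact hM')⟩

theorem conjL_symm_mulVec (L : (ι → K) ≃ₗ[K] (ι' → K)) (g : GL ι' K) (v : ι → K) :
    L (((conjL L).symm g).1 *ᵥ v) = g.1 *ᵥ L v := by
  rw [← conjL_mulVec, MulEquiv.apply_symm_apply]

theorem conjL_scal (L : (ι → K) ≃ₗ[K] (ι' → K)) (c : Kˣ) :
    conjL L (scal c : GL ι K) = scal c := by
  refine Units.ext (Matrix.mulVec_injective (funext fun w => ?_))
  obtain ⟨v, rfl⟩ := L.surjective w
  rw [conjL_mulVec, FieldAut.scal_coe, FieldAut.scal_coe, Matrix.smul_mulVec,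
    Matrix.smul_mulVec, Matrix.one_mulVec, Matrix.one_mulVec, map_smul]

theorem sim_of_conjL (L : (ι → K) ≃ₗ[K] (ι' → K)) (Qf : (ι → K) → K) (Qf' : (ι' → K) → K)
    (hQ : ∀ v, Qf' (L v) = Qf v) {g : GL ι K}
    (hg : conjL L g ∈ Geo.quadSimilarityGroup (F := K) Qf') :
    g ∈ Geo.quadSimilarityGroup (F := K) Qf := by
  obtain ⟨c, hc⟩ := hg
  refine ⟨c, fun v => ?_⟩
  rw [← hQ, ← hQ, ← conjL_mulVec, hc]

end Tools

theorem swapR_sq (k : ℕ) (F : Type*) [Field F] : swapR k F * swapR k F = 1 := by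
  refine Units.ext (Matrix.mulVec_injective (funext fun x => ?_))
  rw [Units.val_mul, ← Matrix.mulVec_mulVec, Units.val_one, Matrix.one_mulVec, swapR,
    ← Orth.ap_apply, ← Orth.ap_apply, Orth.refl_ap_ap]

theorem swapR_swap {k : ℕ} {F : Type*} [Field F] (x : Fin (k + 1) ⊕ Fin (k + 1) → F) :
    (swapR k F).1 *ᵥ ((swapR k F).1 *ᵥ x) = x := by
  rw [Matrix.mulVec_mulVec, ← Units.val_mul, swapR_sq, Units.val_one, Matrix.one_mulVec]

variable {k : ℕ} {F : Type*} [Field F] [Fintype F] {F₀ : Type*} [Field F₀] [Fintype F₀]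

local notation "I" => Fin (k + 1) ⊕ Fin (k + 1)
local notation "J" => (Fin k ⊕ Fin k) ⊕ Fin 2

/-- A minus space over the fixed field spanning the fixed points of `v ↦ R σ(v)`. -/
structure GFModel (k : ℕ) (e : F₀ →+* F) (σ : F ≃+* F) where
  a₀ : F₀
  b₀ : F₀
  aniso : Aniso a₀ b₀
  L : ((Fin k ⊕ Fin k) ⊕ Fin 2 → F) ≃ₗ[F] (Fin (k + 1) ⊕ Fin (k + 1) → F)
  hL : ∀ v, quadFormPlus (k + 1) F (L v) = quadFormMinus k F (e a₀) (e b₀) v
  twist : ∀ v, σ ∘ L v = (swapR k F).1 *ᵥ L (σ ∘ v)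
  par_iff : ∀ g₀, g₀ ∈ Geo.quadSimilarityGroup (F := F₀) (quadFormMinus k F₀ a₀ b₀) →
    (PreservesSingularClassesMinus k a₀ b₀ g₀.1 ↔ par (baseU (k + 1) F) (conjL L (mapGL e g₀)) = 1)

theorem exists_gfModel (hk : 2 ≤ k) (e : F₀ →+* F) {σ : F ≃+* F} (hfix : ∀ x, σ (e x) = e x)
    (hrange : ∀ x, σ x = x → x ∈ Set.range e) (hcard : Fintype.card F = Fintype.card F₀ ^ 2) :
    Nonempty (GFModel k e σ) := by
  obtain ⟨ζ, hζ, -⟩ := Forms.exists_no_root (F := F₀)
  have hab : Aniso (1 : F₀) ζ := by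
    intro x y hxy
    rcases eq_or_ne y 0 with rfl | hy
    · refine ⟨?_, rfl⟩
      simpa using hxy
    · exact absurd (by field_simp; linear_combination hxy) (hζ (x / y))
  letI : Algebra F₀ F := e.toAlgebra
  haveI : Module.Finite F₀ F := Module.Finite.of_finite
  have h2 : finrank F₀ F = 2 := by
    have hc := Module.natCard_eq_pow_finrank (K := F₀) (V := F)
    rw [Nat.card_eq_fintype_card, Nat.card_eq_fintype_card, hcard] at hc
    exact (Nat.pow_right_injective (Fintype.one_lt_card (α := F₀)) hc).symm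
  obtain ⟨θ, θ', hne, hs, hp⟩ := exists_roots hab F h2
  change θ + θ' = e 1 at hs
  change θ * θ' = e ζ at hp
  have hnofix : σ θ ≠ θ := by
    intro hf
    obtain ⟨t, ht⟩ := hrange θ hf
    refine hζ (-t) (e.injective ?_)
    rw [map_add, map_add, map_pow, map_neg, map_zero, ht]
    linear_combination θ * hs - hp + θ * (map_one e)
  have hσθ : σ θ = θ' := by
    have h1 : σ θ * σ θ - e 1 * σ θ + e ζ = 0 := by
      have h0 : θ * θ - e 1 * θ + e ζ = 0 := by linear_combination θ * hs - hp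
      have := congrArg σ h0
      simpa [hfix] using this
    have h3 : (σ θ - θ) * (σ θ - θ') = 0 := by linear_combination h1 - (σ θ) * hs + hp
    exact sub_eq_zero.1 ((mul_eq_zero.1 h3).resolve_left (sub_ne_zero.2 hnofix))
  have hσθ' : σ θ' = θ := by
    have := congrArg σ hs
    rw [map_add, hfix, hσθ] at this
    linear_combination this - hs
  obtain ⟨L, hLv, hL⟩ := exists_planeEquiv k hne
  refine ⟨⟨1, ζ, hab, L, fun v => by rw [hL, hs, hp], fun v => ?_, fun g₀ hg₀ => ?_⟩⟩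
  · rw [hLv, hLv, swapR_mulVec]
    funext s
    rcases s with i | i <;> refine Fin.lastCases ?_ (fun j => ?_) i <;>
      simp [planeMap, hσθ, hσθ']
  · exact (preservesMinus_of_dvd hk hab hg₀ F (by rw [h2])).trans
      (preservesK_iff hk e hs hp hL hg₀)

namespace GFModel

variable {e : F₀ →+* F} {σ : F ≃+* F} (D : GFModel k e σ)

/-- A similarity over the fixed field, read in the plus model. -/
noncomputable def emb : GL ((Fin k ⊕ Fin k) ⊕ Fin 2) F₀ →* GL (Fin (k + 1) ⊕ Fin (k + 1)) F :=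
  (conjL D.L).toMonoidHom.comp (mapGL e)

theorem emb_apply (g₀ : GL J F₀) : D.emb g₀ = conjL D.L (mapGL e g₀) := rfl

theorem emb_sim {g₀ : GL J F₀}
    (hg : g₀ ∈ Geo.quadSimilarityGroup (F := F₀) (quadFormMinus k F₀ D.a₀ D.b₀)) :
    D.emb g₀ ∈ Geo.quadSimilarityGroup (F := F) (quadFormPlus (k + 1) F) :=
  conjL_sim D.L _ _ D.hL (mapGL_sim_minus e hg)

theorem emb_plusS (hk : 2 ≤ k) {g₀ : GL J F₀} (hg : g₀ ∈ minusS k D.a₀ D.b₀ hk D.aniso) :
    D.emb g₀ ∈ plusS (k + 1) F (show 3 ≤ k + 1 by omega) :=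
  ⟨D.emb_sim hg.1, (D.par_iff g₀ hg.1).1 hg.2⟩

theorem emb_fixed (hfix : ∀ x, σ (e x) = e x) (g₀ : GL J F₀) :
    swapR k F * galGL σ (D.emb g₀) = D.emb g₀ * swapR k F := by
  refine Units.ext (Matrix.mulVec_injective (funext fun w => ?_))
  obtain ⟨v, rfl⟩ : ∃ v, w = σ ∘ D.L v := ⟨D.L.symm (σ.symm ∘ w), by
    rw [D.L.apply_symm_apply]; exact funext fun i => (σ.apply_symm_apply _).symm⟩
  rw [Units.val_mul, Units.val_mul, ← Matrix.mulVec_mulVec, ← Matrix.mulVec_mulVec,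
    FieldAut.galGL_mulVec, emb_apply, conjL_mulVec, D.twist, D.twist, swapR_swap, swapR_swap,
    conjL_mulVec, ← FieldAut.galGL_mulVec, FieldAut.galGL_mapGL e hfix]

theorem galGL_symm {g : GL I F} {a : Fˣ}
    (ha : swapR k F * galGL σ g = scal a * g * swapR k F) :
    galGL σ ((conjL D.L).symm g) = scal a * (conjL D.L).symm g := by
  refine Units.ext (Matrix.mulVec_injective (funext fun u => ?_))
  obtain ⟨v, rfl⟩ : ∃ v, u = σ ∘ v := ⟨σ.symm ∘ u, funext fun i => (σ.apply_symm_apply _).symm⟩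
  apply D.L.injective
  have h1 : ∀ w, D.L (σ ∘ w) = (swapR k F).1 *ᵥ (σ ∘ D.L w) := fun w => by rw [D.twist, swapR_swap]
  rw [FieldAut.galGL_mulVec, h1, conjL_symm_mulVec, ← FieldAut.galGL_mulVec, Matrix.mulVec_mulVec,
    ← Units.val_mul, ha, D.twist, Matrix.mulVec_mulVec, ← Units.val_mul, mul_assoc (scal a * g),
    swapR_sq, mul_one, Units.val_mul, Units.val_mul, ← Matrix.mulVec_mulVec, ← Matrix.mulVec_mulVec,
    FieldAut.scal_coe, FieldAut.scal_coe, Matrix.smul_mulVec, Matrix.smul_mulVec,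
    Matrix.one_mulVec, Matrix.one_mulVec, map_smul, conjL_symm_mulVec]

theorem exists_of_twist (hσ : orderOf σ = 2) (hrange : ∀ x, σ x = x → x ∈ Set.range e)
    {g : GL I F} (hg : g ∈ Geo.quadSimilarityGroup (F := F) (quadFormPlus (k + 1) F)) {a : Fˣ}
    (ha : swapR k F * galGL σ g = scal a * g * swapR k F) :
    ∃ g₀ ∈ Geo.quadSimilarityGroup (F := F₀) (quadFormMinus k F₀ D.a₀ D.b₀),
      ∃ c : Fˣ, g = scal c * D.emb g₀ := by
  haveI : Nonempty J := ⟨.inr 0⟩
  obtain ⟨g₀, hg₀, c, hc⟩ := FieldAut.exists_sim_of_twist (Q := quadMinus k F (e D.a₀) (e D.b₀))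
    (quadMinus k F₀ D.a₀ D.b₀)
    (fun v => by rw [Orth.coe_quadMinus, minusQ_comp]; rfl) (v₀ := Pi.single (.inr 0) 1)
    (by simp [Orth.coe_quadMinus, quadFormMinus]) hσ two_pos hrange
    (g := (conjL D.L).symm g)
    (sim_of_conjL D.L _ _ D.hL (by rw [MulEquiv.apply_symm_apply]; exact hg))
    (D.galGL_symm ha)
  refine ⟨g₀, hg₀, c, ?_⟩
  have h := congrArg (conjL D.L) hc
  rwa [MulEquiv.apply_symm_apply, map_mul, conjL_scal] at h

include D in
theorem spin_fixed (hk : 2 ≤ k) (hrange : ∀ x, σ x = x → x ∈ Set.range e)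
    (hcard : Fintype.card F = Fintype.card F₀ ^ 2) (hodd₀ : Odd (Fintype.card F₀))
    (o : IsoGrp (quadPlus (k + 1) F)) (ho : swapR k F * galGL σ o.1 = o.1 * swapR k F) :
    spin o = 1 := by
  classical
  have h1 := D.galGL_symm (g := o.1) (a := 1) (by rw [map_one, one_mul]; exact ho)
  rw [map_one, one_mul] at h1
  obtain ⟨g₀, hg₀⟩ := exists_mapGL_of_fixed e hrange h1
  have hL' : ∀ v, quadPlus (k + 1) F (D.L (e ∘ v)) = e (quadMinus k F₀ D.a₀ D.b₀ v) := fun v => by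
    rw [Orth.coe_quadPlus, D.hL, minusQ_comp]; rfl
  let o₀ : IsoGrp (quadMinus k F₀ D.a₀ D.b₀) := ⟨g₀, FieldAut.mem_iso_iff.2 fun v => by
    apply e.injective
    rw [← hL', ← hL', ← map_mulVec_comp, ← FieldAut.mapGL_coe, hg₀, conjL_symm_mulVec]
    exact FieldAut.mem_iso_iff.1 o.2 _⟩
  have h2 : isoTr e _ _ D.L hL' o₀ = o := Subtype.ext (by
    rw [isoTr_coe, show mapGL e o₀.1 = _ from hg₀, MulEquiv.apply_symm_apply])
  rw [← h2, spin_isoTr _ _ _ _ _ (quadMinus_good hk D.aniso)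
    (splitPlus (F := F) (show 3 ≤ k + 1 by omega)).good 1 fun x hx =>
      (FieldAut.quadraticChar_embed_two e hodd₀ hcard x hx).trans rfl]
  rfl

end GFModel

end Cfsg.Agent.OrthEven
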