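import Cfsg.Agent.Lib.OrthEven.Rank
import Cfsg.Agent.Lib.OrthEven.Twist

/-!
# The diagonal torus of the plus model

* `diagU`, `diagU_mulVec`, `par_diagU`, `diagU_mult`
* `torIso`, `torIso_coe`, `spin_torIso`
-/

set_option autoImplicit false
set_option linter.unusedSectionVars false

namespace Cfsg.Agent.OrthEven

open Cfsg Cfsg.Agent Module
open scoped Matrix MatrixGroups
open QuadraticMap (polar)
open Cfsg.Agent.Orth (IsoGrp Good quadPlus refl spin)

variable {m : ℕ} {F : Type*} [Field F]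

local notation "I" => Fin m ⊕ Fin m

/-- Diagonal matrices. -/
noncomputable def diagU (m : ℕ) (F : Type*) [Field F] :
    (Fin m ⊕ Fin m → Fˣ) →* GL (Fin m ⊕ Fin m) F :=
  (Units.map (Matrix.diagonalRingHom (Fin m ⊕ Fin m) F).toMonoidHom).comp
    MulEquiv.piUnits.symm.toMonoidHom

theorem diagU_coe (d : I → Fˣ) :
    (diagU m F d).1 = Matrix.diagonal fun i => (d i : F) := rfl

theorem diagU_mulVec (d : I → Fˣ) (v : I → F) (i : I) :
    ((diagU m F d).1 *ᵥ v) i = d i * v i := by
  rw [diagU_coe, Matrix.mulVec_diagonal]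

theorem par_diagU (d : I → Fˣ) : par (baseU m F) (diagU m F d) = 1 := by
  have h0 : (diagU m F d).1.toBlocks₂₁ = 0 := by
    ext i j
    simp [diagU_coe, Matrix.toBlocks₂₁]
  rw [par_eq_rank, h0, Matrix.rank_zero, pow_zero]

theorem diagU_mult (d : I → Fˣ) (c : Fˣ) (h : ∀ i, d (.inl i) * d (.inr i) = c) (v : I → F) :
    quadFormPlus m F ((diagU m F d).1 *ᵥ v) = c * quadFormPlus m F v := by
  simp only [quadFormPlus, diagU_mulVec, Finset.mul_sum]
  refine Finset.sum_congr rfl fun i _ => ?_
  rw [← h i, Units.val_mul]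
  ring

/-- `x_i ↦ t_i x_i`, `y_i ↦ t_i⁻¹ y_i`. -/
noncomputable def torIso (m : ℕ) (F : Type*) [Field F] :
    (Fin m → Fˣ) →* IsoGrp (quadPlus m F) :=
  ((diagU m F).comp (MonoidHom.mk' (fun t => Sum.elim t t⁻¹) fun s t => by
    funext i; rcases i with i | i <;> simp [mul_comm])).codRestrict _ fun t => by
    refine FieldAut.mem_iso_iff.2 fun v => ?_
    rw [Orth.coe_quadPlus, MonoidHom.comp_apply, diagU_mult _ 1 (fun i => by simp) v, Units.val_one,
      one_mul]

theorem torIso_coe (t : Fin m → Fˣ) :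
    (torIso m F t : GL I F) = diagU m F (Sum.elim t t⁻¹) := rfl

variable [Fintype F]

open Classical in
theorem spin_torIso (hm : 3 ≤ m) (t : Fin m → Fˣ) :
    spin (torIso m F t) = ∏ i, quadraticChar F (t i : F) := by
  have hG := (splitPlus (F := F) hm).good
  let χ : (Fin m → Fˣ) →* ℤ :=
    { toFun := fun t => ∏ i, quadraticChar F (t i : F)
      map_one' := by simp
      map_mul' := fun s t => by
        rw [← Finset.prod_mul_distrib]
        exact Finset.prod_congr rfl fun i _ => by rw [Pi.mul_apply, Units.val_mul, map_mul] }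
  suffices h : (Orth.spinHom hG).comp (torIso m F) = χ from DFunLike.congr_fun h t
  refine MonoidHom.functions_ext _ _ _ fun i s => ?_
  show spin (torIso m F (Pi.mulSingle i s)) = ∏ j, quadraticChar F ((Pi.mulSingle i s : Fin m → Fˣ) j : F)
  rw [Finset.prod_eq_single i (fun j _ hj => by simp [hj]) (by simp), Pi.mulSingle_eq_same]
  let vec : F → (I → F) := fun c => Pi.single (.inl i) 1 - Pi.single (.inr i) c
  have hQ : ∀ c : F, quadPlus m F (vec c) = -c := fun c => by
    rw [Orth.coe_quadPlus, quadFormPlus, Finset.sum_eq_single i]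
    · simp [vec]
    · intro j _ hj; simp [vec, hj]
    · simp
  have hp : ∀ (c : F) (x : I → F), polar ⇑(quadPlus m F) (vec c) x = x (.inr i) - c * x (.inl i) :=
    fun c x => by
    rw [Orth.coe_quadPlus, Orth.polar_quadPlus, Finset.sum_eq_single i]
    · simp [vec]; ring
    · intro j _ hj; simp [vec, hj]
    · simp
  have hne : ∀ c : F, c ≠ 0 → quadPlus m F (vec c) ≠ 0 := fun c hc => by rw [hQ]; simpa using hc
  have hs : ((s : F))⁻¹ ≠ 0 := inv_ne_zero s.ne_zero
  have hfac : torIso m F (Pi.mulSingle i s)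
      = refl (quadPlus m F) (vec (s : F)⁻¹) * refl (quadPlus m F) (vec 1) := by
    refine Orth.ext_ap fun x => ?_
    rw [Orth.ap_mul, Orth.refl_ap, Orth.refl_ap, hQ, hQ, hp, hp, Orth.ap_apply, torIso_coe]
    funext j
    rw [diagU_mulVec]
    rcases j with j | j <;> rcases eq_or_ne j i with rfl | hj <;>
      simp [vec, *] <;> field_simp <;> ring
  rw [hfac, Orth.spin_mul hG, Orth.spin_refl hG.nd (hne _ hs),
    Orth.spin_refl hG.nd (hne _ one_ne_zero), hQ, hQ, ← map_mul,
    show -((s : F))⁻¹ * -1 = (s : F) * (((s : F))⁻¹ * ((s : F))⁻¹) by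
      have := s.ne_zero; field_simp,
    map_mul, map_mul, ← pow_two, quadraticChar_sq_one hs, mul_one]

end Cfsg.Agent.OrthEven
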