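import Cfsg.Agent.Lib.OrthEven.Field
import Cfsg.Agent.Lib.OrthEven.GraphModel
import Cfsg.Agent.Lib.OrthEven.Torus

/-!
# Involutory graph-field automorphisms of `PΩ⁺_{2m}(q)`: centraliser and splitting

* `gfPhi`, `gfPhi_sq`, `gfPhi_centralizerEquiv`
* `gf_count_two`, `gf_count_odd`
* `graph_field_structure`
-/

set_option autoImplicit false
set_option linter.style.haveILetI false
set_option linter.unusedSectionVars false

namespace Cfsg.Agent.OrthEven

open Cfsg Cfsg.Agent Module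
open scoped Matrix MatrixGroups
open Cfsg.Agent.Orth (IsoGrp Aniso Good quadPlus quadMinus ap refl dick spin)
open Cfsg.Agent.FieldAut (galGL mapGL omMat omMat_injective scal conjAut conjAut_apply galGL_sim)

variable {k : ℕ} {F : Type*} [Field F] [Fintype F] {F₀ : Type*} [Field F₀] [Fintype F₀]

local notation "I" => Fin (k + 1) ⊕ Fin (k + 1)
local notation "J" => (Fin k ⊕ Fin k) ⊕ Fin 2
local notation "QPf" => quadFormPlus (k + 1) F
local notation "SimP" => Geo.quadSimilarityGroup (F := F) (quadFormPlus (k + 1) F)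

/-- The standard involutory graph-field automorphism. -/
noncomputable def gfPhi (k : ℕ) {F : Type*} [Field F] [Fintype F] (σ : F ≃+* F) :
    MulAut (POmega F (quadFormPlus (k + 1) F)) :=
  cA (quadFormPlus (k + 1) F) ⟨swapR k F, swapR_sim.1⟩ * phiP (coeffFixed_plus σ)

theorem gfPhi_eq (σ : F ≃+* F) :
    gfPhi k σ = cA QPf ⟨swapR k F, swapR_sim.1⟩ * phiP (coeffFixed_plus σ) := rfl

theorem gfPhi_sq {σ : F ≃+* F} (hσ : orderOf σ = 2) : gfPhi k σ ^ 2 = 1 := by
  have hc : Commute (cA QPf ⟨swapR k F, swapR_sim.1⟩) (phiP (coeffFixed_plus σ)) := by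
    show _ * _ = _ * _
    rw [phi_cA]
    congr 2
    exact Subtype.ext (galGL_swapR σ).1.symm
  rw [gfPhi_eq, hc.mul_pow, ← map_pow,
    show (⟨swapR k F, swapR_sim.1⟩ : SimP) ^ 2 = 1 from Subtype.ext (by
      rw [SubmonoidClass.coe_pow, pow_two]; exact swapR_sq k F), map_one, one_mul, phiP, ← map_pow,
    show (⟨galGL σ, _⟩ : FieldAut.keep (omMat QPf)) ^ 2 = 1 from Subtype.ext (by
      rw [SubmonoidClass.coe_pow, ← map_pow, ← hσ, pow_orderOf_eq_one, map_one]; rfl), map_one]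

theorem gfPhi_comm_iff (hk : 4 ≤ k) {σ : F ≃+* F} (hσ : orderOf σ = 2) (g : SimP) :
    cA QPf g ∈ Subgroup.centralizer {gfPhi k σ} ↔
      ∃ a : Fˣ, swapR k F * galGL σ g.1 = scal a * g.1 * swapR k F := by
  have D := setupSimPlus hk σ hσ Nat.prime_two
  rw [Subgroup.mem_centralizer_singleton_iff, gfPhi_eq, mul_assoc, phi_cA, ← mul_assoc, ← mul_assoc,
    ← map_mul, ← map_mul, mul_left_inj, eq_comm]
  refine (D.conjAut_eq_iff (g := swapR k F * galGL σ g.1) (h := g.1 * swapR k F) _ _).trans ?_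
  simp only [mul_assoc]

theorem scal_mem_plusS (hk : 2 ≤ k) (c : Fˣ) :
    (scal c : GL I F) ∈ plusS (k + 1) F (show 3 ≤ k + 1 by omega) :=
  ⟨⟨c * c, fun v => by
    rw [FieldAut.scal_coe, Matrix.smul_mulVec, Matrix.one_mulVec]
    show quadPlus (k + 1) F ((c : F) • v) = _
    rw [QuadraticMap.map_smul, smul_eq_mul, Units.val_mul]⟩,
    (splitPlus (F := F) (show 3 ≤ k + 1 by omega)).par_scalar c⟩

theorem iso_mem_plusS (hk : 2 ≤ k) (o : IsoGrp (quadPlus (k + 1) F)) :
    o.1 ∈ plusS (k + 1) F (show 3 ≤ k + 1 by omega) ↔ dick o = 1 := by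
  rw [← (splitPlus (F := F) (show 3 ≤ k + 1 by omega)).par_iso o]
  exact ⟨fun h => h.2, fun h => ⟨FieldAut.iso_le_sim o.2, h⟩⟩

/-- An element of `plusS` of square multiplier is a scalar times a special isometry. -/
theorem exists_iso_of_sq (hk : 2 ≤ k) {g : GL I F}
    (hg : g ∈ plusS (k + 1) F (show 3 ≤ k + 1 by omega)) {d : Fˣ}
    (hd : ∀ v, QPf (g.1 *ᵥ v) = (d : F) * d * QPf v) :
    ∃ o : IsoGrp (quadPlus (k + 1) F), dick o = 1 ∧ g = scal d * o.1 := by
  let o : IsoGrp (quadPlus (k + 1) F) := ⟨scal d⁻¹ * g, FieldAut.mem_iso_iff.2 fun v => by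
    rw [Units.val_mul, FieldAut.scal_coe, smul_mul_assoc, one_mul, Matrix.smul_mulVec,
      QuadraticMap.map_smul, Orth.coe_quadPlus, hd, smul_eq_mul]
    simp [mul_assoc]⟩
  refine ⟨o, (iso_mem_plusS hk o).1 (mul_mem (scal_mem_plusS hk _) hg), ?_⟩
  show g = scal d * (scal d⁻¹ * g)
  rw [← mul_assoc, ← map_mul, mul_inv_cancel, map_one, one_mul]

theorem gfPhi_centralizerEquiv (hk : 4 ≤ k) (e : F₀ →+* F) {σ : F ≃+* F} (hσ : orderOf σ = 2)
    (hfix : ∀ x, σ (e x) = e x) (hrange : ∀ x, σ x = x → x ∈ Set.range e) (M : GFModel k e σ) :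
    Nonempty (↥(inndiagPOmegaPlus (k + 1) F ⊓ Subgroup.centralizer {gfPhi k σ}) ≃*
      ↥(inndiagPOmegaMinus k F₀ M.a₀ M.b₀)) := by
  have hk2 : 2 ≤ k := by omega
  have hrig := rigid_of_hyp (AutPOmega.hypPlus (F := F) (show 5 ≤ k + 1 by omega))
  haveI : Nonempty I := ⟨.inl 0⟩
  haveI : Nonempty J := ⟨.inr 0⟩
  let S₀ := minusS k M.a₀ M.b₀ hk2 M.aniso
  let f : S₀ →* ↥(inndiagPOmegaPlus (k + 1) F ⊓ Subgroup.centralizer {gfPhi k σ}) :=
    ((cA QPf).comp ((M.emb.comp S₀.subtype).codRestrict SimP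
      fun g => M.emb_sim g.2.1)).codRestrict _ fun g =>
      ⟨cA_mem_inndiag hk2 (M.emb_plusS hk2 g.2), (gfPhi_comm_iff hk hσ _).2
        ⟨1, by rw [map_one, one_mul]; exact M.emb_fixed hfix g.1⟩⟩
  have hf : Function.Surjective f := by
    rintro ⟨β, hβ, hc⟩
    obtain ⟨g, hg, hβg⟩ := exists_of_mem_inndiag hk2 hβ
    rw [hβg] at hc
    obtain ⟨a, ha⟩ := (gfPhi_comm_iff hk hσ _).1 hc
    obtain ⟨g₀, hg₀, c, hgc⟩ := M.exists_of_twist hσ hrange hg.1 ha
    have hp : M.emb g₀ ∈ plusS (k + 1) F (show 3 ≤ k + 1 by omega) := by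
      rw [show M.emb g₀ = scal c⁻¹ * g by rw [hgc, ← mul_assoc, ← map_mul, inv_mul_cancel, map_one,
        one_mul]]
      exact mul_mem (scal_mem_plusS hk2 _) hg
    refine ⟨⟨g₀, hg₀, (M.par_iff g₀ hg₀).2 hp.2⟩, Subtype.ext ?_⟩
    show cA QPf ⟨M.emb g₀, _⟩ = β
    rw [hβg]
    exact ((setupSimPlus hk σ hσ Nat.prime_two).conjAut_scal_mul hg.1 hp.1 hgc).symm
  have hker : f.ker = (Geo.scalars J F₀).subgroupOf S₀ := by
    ext g
    rw [MonoidHom.mem_ker, Subtype.ext_iff, Subgroup.mem_subgroupOf]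
    show cA QPf ⟨M.emb g.1, _⟩ = 1 ↔ _
    rw [cA, conjAut_apply]
    refine (FieldAut.conjAut_eq_one_iff hrig _).trans ?_
    constructor
    · rintro ⟨c, hc⟩
      have h1 : mapGL e g.1 = scal c := by
        apply (conjL M.L).injective
        rw [conjL_scal]
        exact hc.symm
      have hmat : ∀ i j, e ((g.1 : Matrix J J F₀) i j) = ((scal c : GL J F) : Matrix J J F) i j :=
        fun i j => congrArg (fun x : GL J F => x.1 i j) h1
      have h00 := hmat (.inr 0) (.inr 0)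
      simp [FieldAut.scal_coe] at h00
      have hc0 : (g.1 : Matrix J J F₀) (.inr 0) (.inr 0) ≠ 0 := fun h0 => c.ne_zero (by
        rw [← h00, h0, map_zero])
      refine (Cfsg.Geo.mem_scalars_iff _).2 ⟨Units.mk0 _ hc0, ?_⟩
      ext i j
      apply e.injective
      rw [hmat, FieldAut.scal_coe, Units.val_mk0, ← h00]
      by_cases hij : i = j <;> simp [hij]
    · rintro ⟨c, hc⟩
      refine ⟨Units.map e.toMonoidHom c, ?_⟩
      show (scal _ : GL I F) = M.emb g.1
      have hc' : ((g.1 : GL J F₀) : Matrix J J F₀) = ((scal c : GL J F₀) : Matrix J J F₀) :=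
        congrArg Units.val hc.symm
      have h1 : mapGL e g.1 = scal (Units.map e.toMonoidHom c) := by
        ext i j
        rw [FieldAut.mapGL_coe, hc']
        by_cases hij : i = j <;> simp [FieldAut.scal_coe, hij]
      rw [GFModel.emb_apply, h1, conjL_scal]
  obtain ⟨E₀⟩ := FieldAut.projQuot_equiv_range
    (rigid_of_hyp (AutPOmega.hypMinus (F := F₀) (show 3 ≤ k by omega) M.aniso)) S₀
    (keep_minusS hk2 M.aniso)
  exact ⟨(((QuotientGroup.quotientMulEquivOfEq hker.symm).trans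
    (QuotientGroup.quotientKerEquivOfSurjective f hf)).symm.trans E₀).trans
      (MulEquiv.subgroupCongr (inndiagMinus_range hk2 M.aniso).symm)⟩

/-! ### Counting -/

/-- The inner-diagonal action restricted to `plusS`. -/
noncomputable def plusAct (hk : 2 ≤ k) :
    plusS (k + 1) F (show 3 ≤ k + 1 by omega) →* MulAut (POmega F QPf) :=
  conjAut omMat_injective _ (keep_plusS _)

theorem plusAct_mem_inn (hk : 4 ≤ k) (g : plusS (k + 1) F (show 3 ≤ k + 1 by omega)) {d : Fˣ}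
    {o : IsoGrp (quadPlus (k + 1) F)} (hgo : g.1 = scal d * o.1) (hs : spin o = 1) :
    plusAct (show 2 ≤ k by omega) g ∈ Inn (POmega F QPf) := by
  have hG := (splitPlus (F := F) (show 3 ≤ k + 1 by omega)).good
  haveI : Nonempty I := ⟨.inl 0⟩
  have hd : dick o = 1 := (iso_mem_plusS (by omega) o).1 (by
    rw [show o.1 = scal d⁻¹ * g.1 by rw [hgo, ← mul_assoc, ← map_mul, inv_mul_cancel, map_one,
      one_mul]]
    exact mul_mem (scal_mem_plusS (by omega) _) g.2)
  refine (FieldAut.conjAut_mem_inn_iff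
    (rigid_of_hyp (AutPOmega.hypPlus (F := F) (show 5 ≤ k + 1 by omega))) _ (keep_plusS _)
    (fun h => (iso_mem_plusS (by omega) h.1).2
      ((Orth.mem_omega_iff hG h.1).1 h.2).1) g).2 ⟨d, ⟨o, ?_⟩, hgo⟩
  exact (Orth.mem_omega_iff hG o).2 ⟨hd, hs⟩

theorem exists_of_plusAct_mem_inn (hk : 4 ≤ k) (g : plusS (k + 1) F (show 3 ≤ k + 1 by omega))
    (hg : plusAct (show 2 ≤ k by omega) g ∈ Inn (POmega F QPf)) :
    ∃ (d : Fˣ) (o : IsoGrp (quadPlus (k + 1) F)), g.1 = scal d * o.1 ∧ spin o = 1 := by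
  have hG := (splitPlus (F := F) (show 3 ≤ k + 1 by omega)).good
  haveI : Nonempty I := ⟨.inl 0⟩
  obtain ⟨d, h, hgh⟩ := (FieldAut.conjAut_mem_inn_iff
    (rigid_of_hyp (AutPOmega.hypPlus (F := F) (show 5 ≤ k + 1 by omega))) _ (keep_plusS _)
    (fun h => (iso_mem_plusS (by omega) h.1).2
      ((Orth.mem_omega_iff hG h.1).1 h.2).1) g).1 hg
  exact ⟨d, h.1, hgh, ((Orth.mem_omega_iff hG h.1).1 h.2).2⟩

theorem gf_count_eq (hk : 4 ≤ k) (σ : F ≃+* F) :
    splitClassCount (inndiagPOmegaPlus (k + 1) F) (Inn (POmega F QPf)) (gfPhi k σ) =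
      ((Inn (POmega F QPf) ⊔ inndiagPOmegaPlus (k + 1) F ⊓
        Subgroup.centralizer {gfPhi k σ}).comap (plusAct (show 2 ≤ k by omega))).index := by
  have hG := (splitPlus (F := F) (show 3 ≤ k + 1 by omega)).good
  have hr : inndiagPOmegaPlus (k + 1) F = (plusAct (F := F) (show 2 ≤ k by omega)).range :=
    inndiagPlus_range (by omega)
  have hInn : Inn (POmega F QPf) ≤ inndiagPOmegaPlus (k + 1) F := by
    rw [hr]
    exact FieldAut.inn_le_range _ _ _ fun h => (iso_mem_plusS (by omega) h.1).2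
      ((Orth.mem_omega_iff hG h.1).1 h.2).1
  rw [FieldAut.splitClassCount_eq_index _ _ hInn, Subgroup.index_comap, ← hr]
  rfl

theorem gf_count_two (hk : 4 ≤ k) (σ : F ≃+* F) (h2 : (2 : F) = 0) :
    splitClassCount (inndiagPOmegaPlus (k + 1) F) (Inn (POmega F QPf)) (gfPhi k σ) = 1 := by
  rw [gf_count_eq hk, Subgroup.index_eq_one, Subgroup.eq_top_iff']
  intro g
  refine Subgroup.mem_comap.2 (Subgroup.mem_sup_left ?_)
  obtain ⟨c, hc⟩ := g.2.1
  have hchar : ringChar F = 2 :=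
    CharP.ringChar_of_prime_eq_zero Nat.prime_two (by exact_mod_cast h2)
  obtain ⟨y, hy⟩ := FiniteField.isSquare_of_char_two hchar (c : F)
  have hy0 : y ≠ 0 := fun h0 => c.ne_zero (by rw [hy, h0, mul_zero])
  obtain ⟨o, -, ho⟩ := exists_iso_of_sq (show 2 ≤ k by omega) g.2 (d := Units.mk0 y hy0)
    (fun v => by rw [Units.val_mk0, ← hy]; exact hc v)
  exact plusAct_mem_inn hk g ho
    (Orth.spin_eq_one_of_two (splitPlus (F := F) (show 3 ≤ k + 1 by omega)).good h2 o)

/-- The elements of square multiplier. -/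
def sqS (hk : 2 ≤ k) : Subgroup (plusS (k + 1) F (show 3 ≤ k + 1 by omega)) where
  carrier := {g | ∃ d : Fˣ, ∀ v, QPf (g.1.1 *ᵥ v) = (d : F) * d * QPf v}
  one_mem' := ⟨1, fun v => by simp⟩
  mul_mem' := by
    rintro g h ⟨d, hd⟩ ⟨d', hd'⟩
    refine ⟨d * d', fun v => ?_⟩
    show QPf ((g.1.1 * h.1.1) *ᵥ v) = _
    rw [← Matrix.mulVec_mulVec, hd, hd', Units.val_mul]
    ring
  inv_mem' := by
    rintro g ⟨d, hd⟩
    refine ⟨d⁻¹, fun v => ?_⟩
    have h := hd ((g.1⁻¹ : GL I F).1 *ᵥ v)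
    rw [Matrix.mulVec_mulVec, ← Units.val_mul, mul_inv_cancel, Units.val_one, Matrix.one_mulVec] at h
    rw [h]
    show QPf ((g.1⁻¹ : GL I F).1 *ᵥ v) = _
    simp [← mul_assoc, mul_comm, mul_left_comm]

/-- The elements fixed exactly by the graph-field automorphism. -/
def fixR (k : ℕ) {F : Type*} [Field F] (σ : F ≃+* F) : Subgroup (GL (Fin (k + 1) ⊕ Fin (k + 1)) F) where
  carrier := {g | swapR k F * galGL σ g = g * swapR k F}
  one_mem' := by simp
  mul_mem' := by
    intro a b (ha : swapR k F * galGL σ a = _) (hb : swapR k F * galGL σ b = _)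
    show swapR k F * galGL σ (a * b) = _
    rw [map_mul, ← mul_assoc, ha, mul_assoc, hb, mul_assoc]
  inv_mem' := by
    intro a (ha : swapR k F * galGL σ a = _)
    show swapR k F * galGL σ a⁻¹ = _
    rw [map_inv, eq_inv_mul_iff_mul_eq, ← mul_assoc, ← ha, mul_inv_cancel_right]

open Classical in
/-- The fixed diagonal similarity. -/
theorem exists_fixed_torus (hk : 2 ≤ k) {σ : F ≃+* F} {w δ : Fˣ}
    (hσσ : ∀ z, σ (σ z) = z) (hw : (w : F) * σ w = (δ : F) * δ) :
    ∃ (W : GL I F) (o : IsoGrp (quadPlus (k + 1) F)),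
      W ∈ plusS (k + 1) F (show 3 ≤ k + 1 by omega) ∧ W ∈ fixR k σ ∧
      (∀ v, QPf (W.1 *ᵥ v) = (δ : F) * δ * QPf v) ∧ W = scal δ * o.1 ∧
      spin o = quadraticChar F (δ : F) ^ k * quadraticChar F ((w * δ⁻¹ : Fˣ) : F) := by
  set t : Fin (k + 1) → Fˣ := fun i => if i = Fin.last k then w * δ⁻¹ else δ with ht
  set d : I → Fˣ := fun s => δ * Sum.elim t t⁻¹ s with hd
  have hmult : ∀ v, QPf ((diagU (k + 1) F d).1 *ᵥ v) = (δ : F) * δ * QPf v := by
    intro v
    have h := diagU_mult d (δ * δ) (fun i => by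
      simp only [hd, Sum.elim_inl, Sum.elim_inr, Pi.inv_apply]
      rw [mul_mul_mul_comm, mul_inv_cancel, mul_one]) v
    rwa [Units.val_mul] at h
  refine ⟨diagU (k + 1) F d, torIso (k + 1) F t, ⟨⟨δ * δ, ?_⟩, par_diagU _⟩, ?_, hmult, ?_, ?_⟩
  · intro v
    rw [Units.val_mul]
    exact hmult v
  · refine Units.ext (Matrix.mulVec_injective (funext fun x => ?_))
    obtain ⟨v, rfl⟩ : ∃ v, x = σ ∘ v := ⟨σ.symm ∘ x, funext fun i => (σ.apply_symm_apply _).symm⟩
    rw [Units.val_mul, Units.val_mul, ← Matrix.mulVec_mulVec, ← Matrix.mulVec_mulVec,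
      FieldAut.galGL_mulVec]
    have hE : σ ((δ : F) * δ) = (δ : F) * δ := by rw [← hw, map_mul, hσσ, mul_comm]
    have hσw : σ ((δ : F) * ((δ : F) * ((w : F))⁻¹)) = w := by
      rw [← mul_assoc, map_mul, map_inv₀, hE, ← hw]
      have := w.ne_zero
      have : σ (w : F) ≠ 0 := by simp
      field_simp
    funext s
    rw [swapR_mulVec, diagU_mulVec, swapR_mulVec]
    rcases s with i | i <;> rcases eq_or_ne i (Fin.last k) with rfl | hi
    · simp only [Sum.elim_inl, Function.update_self, Function.comp_apply, diagU_mulVec, map_mul, hd, ht,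
        Sum.elim_inr, Pi.inv_apply, if_true, mul_inv_rev, inv_inv, Units.val_mul,
        Units.val_inv_eq_inv_val]
      rw [← map_mul, ← map_mul, hσw]
      have := δ.ne_zero
      field_simp
    · simp only [Sum.elim_inl, ne_eq, hi, not_false_eq_true, Function.update_of_ne, Function.comp_apply,
        diagU_mulVec, map_mul, hd, ht, if_false, Units.val_mul]
      rw [← map_mul, hE]
    · simp only [Sum.elim_inl, Sum.elim_inr, Function.update_self, Function.comp_apply, diagU_mulVec,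
        map_mul, hd, ht, Pi.inv_apply, if_true, mul_inv_rev, inv_inv, Units.val_mul,
        Units.val_inv_eq_inv_val]
      have hσw' : σ (w : F) = (δ : F) * ((δ : F) * ((w : F))⁻¹) := by
        have := w.ne_zero
        field_simp
        linear_combination hw
      have : σ (δ : F) ≠ 0 := by simp
      rw [hσw', map_inv₀]
      field_simp
    · simp only [Sum.elim_inr, ne_eq, hi, not_false_eq_true, Function.update_of_ne, Function.comp_apply,
        diagU_mulVec, map_mul, hd, ht, Pi.inv_apply, if_false, Units.val_mul,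
        Units.val_inv_eq_inv_val]
      rw [← map_mul, mul_inv_cancel₀ δ.ne_zero, map_one]
  · refine Units.ext (Matrix.mulVec_injective (funext fun v => funext fun s => ?_))
    rw [Units.val_mul, ← Matrix.mulVec_mulVec, FieldAut.scal_coe, Matrix.smul_mulVec,
      Matrix.one_mulVec, Pi.smul_apply, smul_eq_mul, torIso_coe, diagU_mulVec, diagU_mulVec, hd,
      Units.val_mul, mul_assoc]
  · rw [spin_torIso (show 3 ≤ k + 1 by omega), Fin.prod_univ_castSucc]
    simp only [ht, if_true, Fin.castSucc_ne_last, if_false, Finset.prod_const, Finset.card_univ,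
      Fintype.card_fin]

open Classical in
theorem gf_count_odd (hk : 4 ≤ k) (e : F₀ →+* F) {σ : F ≃+* F} (hσ : orderOf σ = 2)
    (hfix : ∀ x, σ (e x) = e x) (hrange : ∀ x, σ x = x → x ∈ Set.range e)
    (hcard : Fintype.card F = Fintype.card F₀ ^ 2) (hodd₀ : Odd (Fintype.card F₀))
    (M : GFModel k e σ) :
    splitClassCount (inndiagPOmegaPlus (k + 1) F) (Inn (POmega F QPf)) (gfPhi k σ) =
      if Odd (k + 1) ∧ Fintype.card F₀ % 4 = 1 then 4 else 2 := by
  have hk2 : 2 ≤ k := by omega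
  have hS := splitPlus (F := F) (show 3 ≤ k + 1 by omega)
  have hG := hS.good
  have h20 : (2 : F₀) ≠ 0 := FieldAut.two_ne_zero_of_odd hodd₀
  have h2 : (2 : F) ≠ 0 := fun h0 => h20 (e.injective (by rw [map_ofNat, h0, map_zero]))
  have hF₀2 : ringChar F₀ ≠ 2 := fun h => by
    have := FiniteField.even_card_of_char_two h
    rw [Nat.odd_iff] at hodd₀
    omega
  have hF2 : ringChar F ≠ 2 := fun h => h2 (by
    have := ringChar.Nat.cast_ringChar (R := F)
    rw [h] at this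
    exact_mod_cast this)
  have hsq : ∀ x : F₀, x ≠ 0 → quadraticChar F (e x) = 1 :=
    FieldAut.quadraticChar_embed_two e hodd₀ hcard
  -- the quantities `ε`, `w`, `δ`
  obtain ⟨ε, hε⟩ := quadraticChar_exists_neg_one' (F := F₀) hF₀2
  set E := Units.map e.toMonoidHom ε with hE
  obtain ⟨w, hw⟩ := FieldAut.exists_norm_eq_fixed hσ two_pos (c := E) (hfix _)
  have hw' : (w : F) * σ w = e ε := by
    have h1 := congrArg Units.val hw
    simpa [FieldAut.normU, Finset.prod_range_succ, hE] using h1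
  obtain ⟨y, hy⟩ := (quadraticChar_one_iff_isSquare E.ne_zero).1 (hsq _ ε.ne_zero)
  have hy0 : y ≠ 0 := fun h0 => E.ne_zero (by rw [hy, h0, mul_zero])
  set δ := Units.mk0 y hy0 with hδ
  have hδ2 : (δ : F) * δ = e ε := hy.symm
  -- the explicit fixed element
  have hσσ : ∀ z, σ (σ z) = z := fun z => by
    rw [← RingAut.mul_apply, ← pow_two, ← hσ, pow_orderOf_eq_one]; rfl
  obtain ⟨W, oW, hWS, hWfix, hWm, hWeq, hsW⟩ :=
    exists_fixed_torus hk2 hσσ (w := w) (δ := δ) (hw'.trans hδ2.symm)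
  -- its spinor norm
  set s := spin oW with hsdef
  have hχw : quadraticChar F (w : F) = -1 := by
    rw [quadraticChar_neg_one_iff_not_isSquare]
    rintro ⟨z, hz⟩
    obtain ⟨n, hn⟩ := hrange (z * σ z) (by
      rw [map_mul, ← RingAut.mul_apply, ← pow_two, ← hσ, pow_orderOf_eq_one, RingAut.one_apply,
        mul_comm])
    refine quadraticChar_neg_one_iff_not_isSquare.1 hε ⟨n, e.injective ?_⟩
    rw [map_mul, hn, ← hw', hz, map_mul]
    ring
  obtain ⟨j, hj⟩ := hodd₀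
  have hχδ : quadraticChar F (δ : F) = (-1) ^ (j + 1) := by
    have h1 := quadraticChar_eq_pow_of_char_ne_two' hF2 (δ : F)
    have h3 : (ε : F₀) ^ j = -1 := by
      have := quadraticChar_eq_pow_of_char_ne_two' hF₀2 (ε : F₀)
      rw [hε, hj, show (2 * j + 1) / 2 = j by omega] at this
      simpa using this.symm
    have h4 : Fintype.card F / 2 = 2 * (j * (j + 1)) := by
      rw [hcard, hj]
      have : (2 * j + 1) ^ 2 = 2 * (2 * (j * (j + 1))) + 1 := by ring
      omega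
    rw [h4, pow_mul, pow_two, hδ2, pow_mul, ← map_pow, h3, map_neg, map_one] at h1
    rcases quadraticChar_dichotomy δ.ne_zero with h | h <;> rw [h] at h1 ⊢ <;>
      rcases Nat.even_or_odd (j + 1) with hp | hp
    · rw [hp.neg_one_pow]
    · rw [hp.neg_one_pow] at h1
      exact absurd h1 (by simpa using (Ring.neg_one_ne_one_of_char_ne_two hF2).symm)
    · rw [hp.neg_one_pow] at h1
      exact absurd h1 (by simpa using (Ring.neg_one_ne_one_of_char_ne_two hF2))
    · rw [hp.neg_one_pow]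
  have hs : s = (-1) ^ ((j + 1) * (k + 1)) * -1 := by
    rw [hsW]
    have hδi : quadraticChar F ((δ⁻¹ : Fˣ) : F) = (-1) ^ (j + 1) := by
      have h := congrArg (quadraticChar F) δ.mul_inv
      rw [map_mul, map_one, hχδ] at h
      rcases neg_one_pow_eq_or ℤ (j + 1) with h' | h' <;> rw [h'] at h ⊢ <;> omega
    rw [Units.val_mul, map_mul, hχw, hδi, hχδ, pow_mul ((-1 : ℤ)), pow_succ _ k]
    ring
  have hs_iff : s = 1 ↔ Odd (k + 1) ∧ Fintype.card F₀ % 4 = 1 := by
    rw [hs, mul_neg, mul_one, neg_eq_iff_eq_neg, neg_one_pow_eq_neg_one_iff_odd (by norm_num),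
      Nat.odd_mul, and_comm, hj, Nat.odd_iff, Nat.odd_iff]
    omega
  -- spinor norms of scalar multiples
  have hneg : spin (torIso (k + 1) F fun _ => -1) = 1 := by
    rw [spin_torIso (show 3 ≤ k + 1 by omega)]
    refine Finset.prod_eq_one fun i _ => ?_
    have := hsq (-1) (neg_ne_zero.2 one_ne_zero)
    rwa [map_neg, map_one] at this
  haveI : Nonempty I := ⟨.inl 0⟩
  have hwd : ∀ (d d' : Fˣ) (o o' : IsoGrp (quadPlus (k + 1) F)),
      (scal d : GL I F) * o.1 = scal d' * o'.1 → spin o = spin o' := by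
    intro d d' o o' h
    have h1 : o.1 = scal (d⁻¹ * d') * o'.1 := by
      rw [map_mul, mul_assoc, ← h, ← mul_assoc, ← map_mul, inv_mul_cancel, map_one, one_mul]
    set u := d⁻¹ * d'
    obtain ⟨v, hv⟩ : ∃ v, quadPlus (k + 1) F v ≠ 0 :=
      ⟨oddVec k F, by rw [oddVec_Q]; exact one_ne_zero⟩
    have h3 := FieldAut.mem_iso_iff.1 o.2 v
    rw [h1, Units.val_mul, FieldAut.scal_coe, smul_mul_assoc, one_mul, Matrix.smul_mulVec,
      QuadraticMap.map_smul, FieldAut.mem_iso_iff.1 o'.2, smul_eq_mul] at h3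
    rcases mul_self_eq_one_iff.1 (mul_eq_right₀ hv |>.1 h3) with hu | hu
    · rw [show u = 1 from Units.ext hu, map_one, one_mul] at h1
      rw [Subtype.ext h1]
    · have h4 : (torIso (k + 1) F fun _ => -1).1 = (scal u : GL I F) := by
        refine Units.ext (Matrix.ext fun i i' => ?_)
        rw [torIso_coe, diagU_coe, FieldAut.scal_coe, hu]
        rcases eq_or_ne i i' with rfl | hii
        · rcases i with i | i <;> simp
        · simp [hii]
      have h5 : o = (torIso (k + 1) F fun _ => -1) * o' :=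
        Subtype.ext (by rw [h1, ← h4]; rfl)
      rw [h5, Orth.spin_mul hG, hneg, one_mul]
  set f := plusAct (F := F) hk2 with hf
  set T := (Inn (POmega F QPf)).comap f with hT
  set N := (Inn (POmega F QPf) ⊔ inndiagPOmegaPlus (k + 1) F ⊓
    Subgroup.centralizer {gfPhi k σ}).comap f with hN
  have hTP : T ≤ sqS hk2 := by
    intro g hg
    obtain ⟨d, o, hgo, -⟩ := exists_of_plusAct_mem_inn hk g hg
    refine ⟨d, fun v => ?_⟩
    rw [hgo, Units.val_mul, FieldAut.scal_coe, smul_mul_assoc, one_mul, Matrix.smul_mulVec,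
      ← Orth.coe_quadPlus, QuadraticMap.map_smul, FieldAut.mem_iso_iff.1 o.2, smul_eq_mul]
  have hTN : T ≤ N := fun g hg => Subgroup.mem_sup_left hg
  have hWN : (⟨W, hWS⟩ : plusS (k + 1) F _) ∈ N := by
    refine Subgroup.mem_sup_right ⟨cA_mem_inndiag hk2 hWS, ?_⟩
    exact (gfPhi_comm_iff hk hσ ⟨W, hWS.1⟩).2 ⟨1, by rw [map_one, one_mul]; exact hWfix⟩
  have hWsq : (⟨W, hWS⟩ : plusS (k + 1) F _) ∈ sqS hk2 := ⟨δ, hWm⟩
  have hWT : (⟨W, hWS⟩ : plusS (k + 1) F _) ∈ T ↔ s = 1 := by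
    constructor
    · intro hW
      obtain ⟨d, o, hgo, hso⟩ := exists_of_plusAct_mem_inn hk _ hW
      rw [hsdef, ← hso]
      exact hwd δ d _ _ (hWeq.symm.trans hgo)
    · exact fun h => plusAct_mem_inn hk _ hWeq h
  -- fixed elements
  have hdec : ∀ g : plusS (k + 1) F (show 3 ≤ k + 1 by omega),
      cA QPf ⟨g.1, g.2.1⟩ ∈ Subgroup.centralizer {gfPhi k σ} →
        g ∈ T ∨ g * (⟨W, hWS⟩ : plusS (k + 1) F _)⁻¹ ∈ T := by
    intro g hg
    obtain ⟨a, ha⟩ := (gfPhi_comm_iff hk hσ _).1 hg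
    obtain ⟨g₀, ⟨c₀, hc₀⟩, c, hgc⟩ := M.exists_of_twist hσ hrange g.2.1 ha
    have hmult : ∀ v, QPf ((M.emb g₀).1 *ᵥ v) = e c₀ * QPf v := by
      intro v
      obtain ⟨u, rfl⟩ := M.L.surjective v
      have key : (quadMinus k F (e M.a₀) (e M.b₀)).comp (Matrix.mulVecLin (mapGL e g₀).1)
          = e (c₀ : F₀) • quadMinus k F (e M.a₀) (e M.b₀) := by
        refine FieldAut.quadForm_ext_of_subfield e _ _ fun w => ?_
        show quadFormMinus k F (e M.a₀) (e M.b₀) ((mapGL e g₀).1 *ᵥ (e ∘ w))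
          = e (c₀ : F₀) * quadFormMinus k F (e M.a₀) (e M.b₀) (e ∘ w)
        rw [FieldAut.mapGL_coe, map_mulVec_comp, minusQ_comp, minusQ_comp, hc₀, map_mul]
      rw [GFModel.emb_apply, conjL_mulVec, M.hL, M.hL]
      exact QuadraticMap.congr_fun key u
    have hrat : ∀ z : F₀ˣ, (scal (Units.map e.toMonoidHom z) : GL I F) ∈ fixR k σ := fun z => by
      show swapR k F * galGL σ _ = _
      rw [FieldAut.galGL_scal, ← FieldAut.scal_comm]
      congr 2
      exact Units.ext (hfix _)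
    have main : ∀ (h : plusS (k + 1) F (show 3 ≤ k + 1 by omega)) (G : GL I F) (z : F₀ˣ) (b : Fˣ),
        G ∈ fixR k σ → (∀ v, QPf (G.1 *ᵥ v) = e z * e z * QPf v) → h.1 = scal b * G → h ∈ T := by
      intro h G z b hGf hGm hh
      set Z := Units.map e.toMonoidHom z
      let o : IsoGrp (quadPlus (k + 1) F) := ⟨scal Z⁻¹ * G, FieldAut.mem_iso_iff.2 fun v => by
        rw [Units.val_mul, FieldAut.scal_coe, smul_mul_assoc, one_mul, Matrix.smul_mulVec,
          QuadraticMap.map_smul, Orth.coe_quadPlus, hGm, smul_eq_mul]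
        have : e (z : F₀) ≠ 0 := (map_ne_zero e).2 z.ne_zero
        simp [Z]
        field_simp⟩
      refine plusAct_mem_inn hk h (d := b * Z) (o := o) ?_ (M.spin_fixed hk2 hrange hcard ⟨j, hj⟩ o ?_)
      · show h.1 = scal (b * Z) * (scal Z⁻¹ * G)
        rw [hh, ← mul_assoc, ← map_mul, mul_inv_cancel_right]
      · have hZ : (scal Z⁻¹ : GL I F) ∈ fixR k σ := by
          rw [show Z⁻¹ = Units.map e.toMonoidHom z⁻¹ from (map_inv _ z).symm]; exact hrat _
        exact mul_mem hZ hGf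
    by_cases hq : IsSquare (c₀ : F₀)
    · obtain ⟨z, hz⟩ := hq
      have hz0 : z ≠ 0 := fun h0 => c₀.ne_zero (by rw [hz, h0, mul_zero])
      exact Or.inl (main g _ (Units.mk0 z hz0) c (M.emb_fixed hfix g₀)
        (fun v => by rw [Units.val_mk0, ← map_mul, ← hz, hmult]) hgc)
    · have hq' : IsSquare ((c₀ : F₀) * (ε⁻¹ : F₀ˣ)) := by
        refine (quadraticChar_one_iff_isSquare (mul_ne_zero c₀.ne_zero (ε⁻¹).ne_zero)).1 ?_
        have h1 := congrArg (quadraticChar F₀) ε.mul_inv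
        rw [map_mul, hε, map_one] at h1
        rw [map_mul, quadraticChar_neg_one_iff_not_isSquare.2 hq]
        omega
      obtain ⟨z, hz⟩ := hq'
      have hz0 : z ≠ 0 := fun h0 => mul_ne_zero c₀.ne_zero (ε⁻¹).ne_zero (by rw [hz, h0, mul_zero])
      refine Or.inr (main _ (M.emb g₀ * W⁻¹) (Units.mk0 z hz0) c
        (mul_mem (M.emb_fixed hfix g₀) (inv_mem hWfix)) (fun v => ?_) ?_)
      · have h3 : QPf v = e ε * QPf ((W⁻¹ : GL I F).1 *ᵥ v) := by
          have hm := hWm ((W⁻¹ : GL I F).1 *ᵥ v)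
          rw [Matrix.mulVec_mulVec, ← Units.val_mul, mul_inv_cancel, Units.val_one, Matrix.one_mulVec,
            hδ2] at hm
          exact hm
        rw [Units.val_mul, ← Matrix.mulVec_mulVec, hmult, Units.val_mk0, ← map_mul, ← hz, h3,
          ← mul_assoc, ← map_mul, mul_assoc, Units.inv_mul, mul_one]
      · show g.1 * W⁻¹ = _
        rw [hgc, mul_assoc]
  have hNle : ∀ X : Subgroup (plusS (k + 1) F (show 3 ≤ k + 1 by omega)), T ≤ X →
      ((s = 1) ∨ (⟨W, hWS⟩ : plusS (k + 1) F _) ∈ X) → N ≤ X := by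
    intro X hTX hWX g hg
    obtain ⟨u, hu, β, hβ, huβ⟩ := Subgroup.mem_sup_of_normal_left.1 (Subgroup.mem_comap.1 hg)
    obtain ⟨c, hc, hβc⟩ := exists_of_mem_inndiag hk2 hβ.1
    have hcX : (⟨c, hc⟩ : plusS (k + 1) F _) ∈ X := by
      rcases hdec ⟨c, hc⟩ (hβc ▸ hβ.2) with h | h
      · exact hTX h
      · have hW : (⟨W, hWS⟩ : plusS (k + 1) F _) ∈ X :=
          hWX.elim (fun h1 => hTX (hWT.2 h1)) id
        have := mul_mem (hTX h) hW
        rwa [inv_mul_cancel_right] at this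
    have hgc : g * (⟨c, hc⟩ : plusS (k + 1) F _)⁻¹ ∈ T := by
      show f _ ∈ Inn (POmega F QPf)
      rw [map_mul, map_inv, ← huβ, hβc, show f ⟨c, hc⟩ = cA QPf ⟨c, hc.1⟩ from rfl,
        mul_inv_cancel_right]
      exact hu
    have := mul_mem (hTX hgc) hcX
    rwa [inv_mul_cancel_right] at this
  -- the two indices
  obtain ⟨ν, hν⟩ := quadraticChar_exists_neg_one' (F := F) hF2
  have hP2 : (sqS hk2 : Subgroup (plusS (k + 1) F (show 3 ≤ k + 1 by omega))).index = 2 := by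
    have hgm : ∀ v, QPf ((diagU (k + 1) F (Sum.elim (fun _ => ν) 1)).1 *ᵥ v) = (ν : F) * QPf v :=
      diagU_mult _ ν fun i => by simp
    refine Subgroup.index_eq_two_iff.2 ⟨⟨_, ⟨⟨ν, hgm⟩, par_diagU (Sum.elim (fun _ => ν) 1)⟩⟩, fun b => ?_⟩
    obtain ⟨c, hc'⟩ := b.2.1
    have hc : ∀ v, QPf (b.1.1 *ᵥ v) = (c : F) * QPf v := hc'
    obtain ⟨v, hv⟩ : ∃ v, QPf v ≠ 0 := ⟨oddVec k F, by
      rw [← Orth.coe_quadPlus, oddVec_Q]; exact one_ne_zero⟩
    have hb : b ∈ sqS hk2 ↔ quadraticChar F (c : F) = 1 := by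
      constructor
      · rintro ⟨d, hd⟩
        have h := (hc v).symm.trans (hd v)
        rw [mul_left_inj' hv] at h
        rw [h, map_mul, ← pow_two, quadraticChar_sq_one d.ne_zero]
      · intro h
        obtain ⟨z, hz⟩ := (quadraticChar_one_iff_isSquare c.ne_zero).1 h
        exact ⟨Units.mk0 z (fun h0 => c.ne_zero (by rw [hz, h0, mul_zero])), fun v => by
          rw [Units.val_mk0, ← hz]; exact hc v⟩
    have hba : b * (⟨_, ⟨⟨ν, hgm⟩, par_diagU (Sum.elim (fun _ => ν) 1)⟩⟩ :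
        plusS (k + 1) F (show 3 ≤ k + 1 by omega)) ∈ sqS hk2 ↔
          quadraticChar F ((c : F) * ν) = 1 := by
      have hm : ∀ v, QPf ((b.1.1 * (diagU (k + 1) F (Sum.elim (fun _ => ν) 1)).1) *ᵥ v)
          = (c : F) * ν * QPf v := fun v => by
        rw [← Matrix.mulVec_mulVec, hc, hgm, mul_assoc]
      constructor
      · rintro ⟨d, hd⟩
        have h := (hm v).symm.trans (hd v)
        rw [mul_left_inj' hv] at h
        rw [h, map_mul, ← pow_two, quadraticChar_sq_one d.ne_zero]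
      · intro h
        obtain ⟨z, hz⟩ := (quadraticChar_one_iff_isSquare (mul_ne_zero c.ne_zero ν.ne_zero)).1 h
        exact ⟨Units.mk0 z (fun h0 => mul_ne_zero c.ne_zero ν.ne_zero (by rw [hz, h0, mul_zero])),
          fun v => by rw [Units.val_mk0, ← hz]; exact hm v⟩
    rw [hb, hba, map_mul, hν]
    rcases quadraticChar_dichotomy c.ne_zero with h | h <;> rw [h] <;> decide
  have hTrel : T.relIndex (sqS hk2) = 2 := by
    set z := torIso (k + 1) F (Function.update (fun _ => 1) 0 ν) with hz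
    have hzs : spin z = -1 := by
      rw [hz, spin_torIso (show 3 ≤ k + 1 by omega), Fin.prod_univ_succ]
      simp [Fin.succ_ne_zero, hν]
    have hzS : z.1 ∈ plusS (k + 1) F (show 3 ≤ k + 1 by omega) :=
      ⟨FieldAut.iso_le_sim z.2, par_diagU _⟩
    have hzP : (⟨z.1, hzS⟩ : plusS (k + 1) F _) ∈ sqS hk2 := ⟨1, fun v => by
      simpa [Orth.coe_quadPlus] using FieldAut.mem_iso_iff.1 z.2 v⟩
    rw [Subgroup.relIndex, Subgroup.index_eq_two_iff]
    refine ⟨⟨_, hzP⟩, fun b => ?_⟩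
    obtain ⟨d, hd⟩ := b.2
    obtain ⟨o, -, ho⟩ := exists_iso_of_sq hk2 b.1.2 hd
    have hbT : ∀ (g : plusS (k + 1) F (show 3 ≤ k + 1 by omega)) (o : IsoGrp (quadPlus (k + 1) F)),
        g.1 = scal d * o.1 → (g ∈ T ↔ spin o = 1) := fun g o hgo =>
      ⟨fun hg => by
        obtain ⟨d', o', hgo', hs'⟩ := exists_of_plusAct_mem_inn hk g hg
        rw [← hs']; exact hwd d d' o o' (hgo.symm.trans hgo'),
      fun h => plusAct_mem_inn hk g hgo h⟩
    simp only [Subgroup.mem_subgroupOf, Subgroup.coe_mul]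
    rw [hbT b.1 o ho, hbT _ (o * z) (by
      show b.1.1 * z.1 = scal d * (o.1 * z.1)
      rw [ho, mul_assoc]), Orth.spin_mul hG, hzs]
    rcases Orth.spin_eq_or hG o with h | h <;> rw [h] <;> decide
  have hTidx : T.index = 4 := by rw [← Subgroup.relIndex_mul_index hTP, hTrel, hP2]
  rw [gf_count_eq hk, ← hf, ← hN]
  split_ifs with h4
  · rw [le_antisymm (hNle T le_rfl (Or.inl (hs_iff.2 h4))) hTN, hTidx]
  · have hs1 : s ≠ 1 := fun h => h4 (hs_iff.1 h)
    suffices hNP : N = sqS hk2 by rw [hNP, hP2]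
    refine le_antisymm (hNle _ hTP (Or.inr hWsq)) fun g hg => ?_
    obtain ⟨d, hd⟩ := hg
    obtain ⟨o, -, ho⟩ := exists_iso_of_sq hk2 g.2 hd
    rcases Orth.spin_eq_or hG o with h | h
    · exact hTN (plusAct_mem_inn hk g ho h)
    · have hgW : g * (⟨W, hWS⟩ : plusS (k + 1) F _)⁻¹ ∈ T := by
        refine plusAct_mem_inn hk _ (d := d * δ⁻¹) (o := o * oW⁻¹) ?_ ?_
        · show g.1 * W⁻¹ = scal (d * δ⁻¹) * (o.1 * oW.1⁻¹)
          rw [ho, hWeq, mul_inv_rev, ← map_inv, map_mul, ← FieldAut.scal_comm δ⁻¹]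
          simp only [mul_assoc]
          congr 1
          rw [← mul_assoc o.1, ← FieldAut.scal_comm δ⁻¹, mul_assoc]
        · have h5 := Orth.spin_mul hG oW oW⁻¹
          rw [mul_inv_cancel, Orth.spin_one, ← hsdef] at h5
          rw [Orth.spin_mul hG, h]
          rcases Orth.spin_eq_or hG oW with h' | h'
          · exact absurd (hsdef.trans h') hs1
          · rw [hsdef, h'] at h5; omega
      have := mul_mem (hTN hgW) hWN
      rwa [inv_mul_cancel_right] at this

theorem graph_field_structure {p f : ℕ} (hp : p.Prime) (hF : Fintype.card F = p ^ f) (hk : 4 ≤ k)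
    {x : MulAut (POmega F QPf)} (hx : IsGraphFieldAutClassPOmegaPlus (k + 1) x)
    (hx2 : orderOf x = 2) (hF₀ : Fintype.card F₀ = p ^ (f / 2)) :
    Even f ∧
      (∀ y : MulAut (POmega F QPf), IsGraphFieldAutClassPOmegaPlus (k + 1) y → orderOf y = 2 →
        IsConjUnder (inndiagPOmegaPlus (k + 1) F) x y) ∧
      (∃ a₀ b₀ : F₀, Aniso a₀ b₀ ∧
        Nonempty (↥(inndiagPOmegaPlus (k + 1) F ⊓ Subgroup.centralizer {x}) ≃*
          ↥(inndiagPOmegaMinus k F₀ a₀ b₀))) ∧
      (p = 2 → splitClassCount (inndiagPOmegaPlus (k + 1) F) (Inn (POmega F QPf)) x = 1) ∧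
      ((p ≠ 2 ∧ Odd (k + 1) ∧ p ^ (f / 2) % 4 = 1) →
        splitClassCount (inndiagPOmegaPlus (k + 1) F) (Inn (POmega F QPf)) x = 4) ∧
      ((p ≠ 2 ∧ ¬ (Odd (k + 1) ∧ p ^ (f / 2) % 4 = 1)) →
        splitClassCount (inndiagPOmegaPlus (k + 1) F) (Inn (POmega F QPf)) x = 2) := by
  classical
  obtain ⟨-, σ, T, hT, hσ, hpT, hxT⟩ := gf_normal_form hk hx Nat.prime_two hx2
  obtain ⟨hrf, hQ, -⟩ := FieldAut.order_data hp hF hσ two_pos
  obtain ⟨e, he⟩ := FieldAut.exists_embedding_fixed σ hσ two_pos hQ F₀ hF₀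
  have hfix : ∀ x, σ (e x) = e x := fun x => (he _).1 ⟨x, rfl⟩
  have hrange : ∀ x, σ x = x → x ∈ Set.range e := fun x h => (he x).2 h
  have hcard : Fintype.card F = Fintype.card F₀ ^ 2 := by
    rw [hF₀, hQ, Nat.card_eq_fintype_card]
  obtain ⟨M⟩ := exists_gfModel (k := k) (by omega) e hfix hrange hcard
  have hsq : ∀ {y : MulAut (POmega F QPf)}, orderOf y = 2 → y ^ 2 = 1 := fun h => by
    rw [← h, pow_orderOf_eq_one]
  have hconj : IsConjUnder (inndiagPOmegaPlus (k + 1) F) x (gfPhi k σ) := by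
    rw [hxT, gfPhi_eq]
    exact gf_conj hk hσ hT swapR_sim.1 hpT (par_swapR (by omega)).1 (hxT ▸ hsq hx2)
      (by rw [← gfPhi_eq]; exact gfPhi_sq hσ)
  obtain ⟨h, hh, hhx⟩ := hconj
  have hn : h ∈ Subgroup.normalizer
      (inndiagPOmegaPlus (k + 1) F : Set (MulAut (POmega F QPf))) := Subgroup.le_normalizer hh
  refine ⟨even_iff_two_dvd.2 hrf, fun y hy hy2 => ?_, ?_, fun hp2 => ?_, fun hp4 => ?_, fun hp2 => ?_⟩
  · obtain ⟨-, σ', T', hT', hσ', hpT', hyT⟩ := gf_normal_form hk hy Nat.prime_two hy2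
    obtain rfl := ringAut_involution_unique hσ hσ'
    rw [hxT, hyT]
    exact gf_conj hk hσ hT hT' hpT hpT' (hxT ▸ hsq hx2) (hyT ▸ hsq hy2)
  · obtain ⟨E⟩ := gfPhi_centralizerEquiv hk e hσ hfix hrange M
    exact ⟨M.a₀, M.b₀, M.aniso, ⟨(FieldAut.centralizerConjEquiv hn hhx.symm).trans E⟩⟩
  · rw [FieldAut.splitClassCount_conj hn hhx.symm, gf_count_two hk]
    have h1 : ((p : ℕ) : F) ^ f = 0 := by
      rw [← Nat.cast_pow, ← hF]; exact FiniteField.cast_card_eq_zero F
    subst hp2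
    simpa using (eq_zero_of_pow_eq_zero h1)
  all_goals
    rw [FieldAut.splitClassCount_conj hn hhx.symm,
      gf_count_odd hk e hσ hfix hrange hcard (hF₀ ▸ (hp.odd_of_ne_two (by
        first | exact hp4.1 | exact hp2.1)).pow) M, hF₀]
  · rw [if_pos hp4.2]
  · rw [if_neg hp2.2]

end Cfsg.Agent.OrthEven
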