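import Cfsg.Agent.Lib.OrthEven.Parity
import Cfsg.Agent.Lib.Orth.Models
import Cfsg.Agent.Lib.Forms.Standard

/-!
# Class preserving similarities of the two even-dimensional models, any characteristic

* `splitPlus`, `plusS` ; `mem_plusS`, `plusS_stable`, `inndiagPlus_range`
* `par_mapEquiv` : transport of the parity along field isomorphisms
* `planeEquiv`, `conjL`, `preserves_congr` : the minus model over a quadratic extension is the plus model
* `preservesMinus_iff` : independence of the extension; `minusS`, `minusS_stable`, `inndiagMinus_range`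
-/

set_option autoImplicit false

namespace Cfsg.Agent.OrthEven

open Cfsg Cfsg.Agent Module
open scoped Matrix MatrixGroups
open Cfsg.Agent.Orth (Aniso Good quadPlus quadMinus)
open Cfsg.Agent.FieldAut (galGL mapGL omMat omMat_injective keep_conj_sim conjAut CoeffFixed
  galGL_sim IsInd isInd_semilinear_om)

/-! ### The plus model -/

/-- The base subspace `y = 0`. -/
def baseU (m : ℕ) (F : Type*) [Field F] : Submodule F (Fin m ⊕ Fin m → F) :=
  LinearMap.ker (LinearMap.funLeft F F (Sum.inr : Fin m → Fin m ⊕ Fin m))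

theorem mem_baseU {m : ℕ} {F : Type*} [Field F] {v : Fin m ⊕ Fin m → F} :
    v ∈ baseU m F ↔ ∀ i, v (.inr i) = 0 := by
  rw [baseU, LinearMap.mem_ker, funext_iff]
  rfl

variable {m : ℕ} {F : Type*} [Field F] [Finite F]

theorem splitPlus (hm : 3 ≤ m) : Split (quadPlus m F) m (baseU m F) := by
  have := Fintype.ofFinite F
  refine ⟨Good.of_card (Orth.quadPlus_nondeg m) (Or.inr (by simp; omega)), by simp; omega, ?_, ?_⟩
  · exact (OrthAct.base_subspace_facts (F := F) m).1
  · intro u hu
    rw [Orth.coe_quadPlus]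
    exact Finset.sum_eq_zero fun i _ => by rw [mem_baseU.1 hu i, mul_zero]

omit [Finite F] in
theorem semiImage_baseU (σ : F ≃+* F) : semiImage σ (baseU m F) = baseU m F := by
  ext v
  rw [mem_semiImage, mem_baseU, mem_baseU]
  simp

omit [Finite F] in
theorem coeffFixed_plus (σ : F ≃+* F) : CoeffFixed (quadFormPlus m F) σ := fun v => by
  simp [quadFormPlus]

/-- The class preserving similarities of the plus model. -/
noncomputable def plusS (m : ℕ) (F : Type*) [Field F] [Finite F] (hm : 3 ≤ m) :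
    Subgroup (GL (Fin m ⊕ Fin m) F) := (splitPlus (F := F) hm).plusSim

theorem mem_plusS (hm : 3 ≤ m) {g : GL (Fin m ⊕ Fin m) F} :
    g ∈ plusS m F hm ↔ g ∈ Geo.quadSimilarityGroup (F := F) (quadFormPlus m F) ∧
      par (baseU m F) g = 1 := Iff.rfl

theorem plusS_stable (hm : 3 ≤ m) (σ : F ≃+* F) {g : GL (Fin m ⊕ Fin m) F}
    (hg : g ∈ plusS m F hm) : galGL σ g ∈ plusS m F hm :=
  ⟨galGL_sim (coeffFixed_plus σ) hg.1, by
    rw [Split.par_galGL σ (semiImage_baseU σ)]; exact hg.2⟩

theorem keep_plusS (hm : 3 ≤ m) :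
    ∀ g ∈ plusS m F hm, MulAut.conj g ∈ FieldAut.keep (omMat (quadFormPlus m F)) :=
  fun _ hg => keep_conj_sim hg.1

theorem inndiagPlus_range (hm : 3 ≤ m) : inndiagPOmegaPlus m F
    = (conjAut omMat_injective (plusS m F hm) (keep_plusS hm)).range := by
  refine FieldAut.closure_isInd_eq_range _ _ _ _ fun β => ?_
  have e : galGL (RingEquiv.refl F) = (1 : MulAut (GL (Fin m ⊕ Fin m) F)) := map_one galGL
  constructor
  · rintro ⟨g, hg, hp, hi⟩
    refine ⟨g, ((splitPlus hm).mem_plusSim).2 ⟨hg, hp⟩, ?_⟩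
    rwa [isInd_semilinear_om, e, mul_one] at hi
  · rintro ⟨g, hg, hi⟩
    obtain ⟨hg1, hg2⟩ := ((splitPlus hm).mem_plusSim).1 hg
    refine ⟨g, hg1, hg2, ?_⟩
    rwa [isInd_semilinear_om, e, mul_one]

theorem finrank_eq_of_comp {ι : Type} [Fintype ι] {K K' : Type*} [Field K] [Field K'] [Finite K]
    (τ : K ≃+* K') (A : Submodule K (ι → K)) (A' : Submodule K' (ι → K'))
    (h : ∀ v, τ ∘ v ∈ A' ↔ v ∈ A) : finrank K' A' = finrank K A := by
  have : Finite K' := Finite.of_equiv K τ.toEquiv
  have hc : Nat.card A' = Nat.card A := by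
    refine (Nat.card_congr (Equiv.ofBijective (fun v : A => (⟨τ ∘ v.1, (h _).2 v.2⟩ : A'))
      ⟨fun a b hab => ?_, fun w => ?_⟩)).symm
    · exact Subtype.ext (funext fun i => τ.injective (congrFun (congrArg Subtype.val hab) i))
    · have hw : τ ∘ τ.symm ∘ w.1 = w.1 := funext fun i => τ.apply_symm_apply _
      exact ⟨⟨τ.symm ∘ w.1, (h _).1 (hw.symm ▸ w.2)⟩, Subtype.ext hw⟩
  have hK : Nat.card K' = Nat.card K := (Nat.card_congr τ.toEquiv).symm
  rw [Module.natCard_eq_pow_finrank (K := K') (V := A'),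
    Module.natCard_eq_pow_finrank (K := K) (V := A), hK] at hc
  exact Nat.pow_right_injective (Finite.one_lt_card (α := K)) hc

theorem map_mulVec_comp {ι : Type} [Fintype ι] {K K' : Type*} [Field K] [Field K'] (e : K →+* K')
    (M : Matrix ι ι K) (v : ι → K) : M.map e *ᵥ (e ∘ v) = e ∘ (M *ᵥ v) :=
  funext fun i => (RingHom.map_mulVec e M v i).symm

omit [Finite F] in
theorem par_mapEquiv {K K' : Type*} [Field K] [Field K'] [Finite K] (τ : K ≃+* K')
    (M : GL (Fin m ⊕ Fin m) K) :
    par (baseU m K') (mapGL τ.toRingHom M) = par (baseU m K) M := by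
  have hb : ∀ v : Fin m ⊕ Fin m → K, τ ∘ v ∈ baseU m K' ↔ v ∈ baseU m K := fun v => by
    simp [mem_baseU]
  rw [par, par, cls, cls, finrank_eq_of_comp τ _ _ hb,
    finrank_eq_of_comp τ (baseU m K ⊓ (baseU m K).map (Matrix.toLin' M.1)) _ fun v => ?_]
  simp only [Submodule.mem_inf, hb, Submodule.mem_map, Matrix.toLin'_apply]
  refine and_congr_right fun _ => ⟨?_, ?_⟩
  · rintro ⟨u, hu, huv⟩
    have hu' : u = τ ∘ τ.symm ∘ u := funext fun i => (τ.apply_symm_apply _).symm
    refine ⟨τ.symm ∘ u, (hb _).1 (hu' ▸ hu), ?_⟩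
    have h1 := map_mulVec_comp τ.toRingHom M.1 (τ.symm ∘ u)
    rw [FieldAut.mapGL_coe, hu'] at huv
    funext i
    exact τ.injective ((congrFun h1 i).symm.trans (congrFun huv i))
  · rintro ⟨u, hu, rfl⟩
    exact ⟨τ ∘ u, (hb u).2 hu, by
      rw [FieldAut.mapGL_coe]; exact map_mulVec_comp τ.toRingHom M.1 u⟩

/-! ### Transport along linear equivalences -/

section Congr

variable {ι ι' : Type} [Fintype ι] [DecidableEq ι] [Fintype ι'] [DecidableEq ι'] {K : Type*}
  [Field K] (L : (ι → K) ≃ₗ[K] (ι' → K))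

/-- Conjugation of matrices by a linear equivalence. -/
noncomputable def conjL : GL ι K ≃* GL ι' K where
  toFun g := Forms.glLinEquiv.symm ((L.symm.trans (Forms.glLinEquiv g)).trans L)
  invFun g := Forms.glLinEquiv.symm ((L.trans (Forms.glLinEquiv g)).trans L.symm)
  left_inv g := by
    apply Forms.glLinEquiv.injective
    simp only [MulEquiv.apply_symm_apply]
    exact LinearEquiv.ext fun v => by simp
  right_inv g := by
    apply Forms.glLinEquiv.injective
    simp only [MulEquiv.apply_symm_apply]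
    exact LinearEquiv.ext fun v => by simp
  map_mul' a b := by
    rw [← map_mul]
    congr 1
    exact LinearEquiv.ext fun v => by simp

theorem conjL_mulVec (g : GL ι K) (v : ι → K) : (conjL L g).1 *ᵥ L v = L (g.1 *ᵥ v) := by
  rw [← Forms.glLinEquiv_apply, ← Forms.glLinEquiv_apply]
  simp [conjL]

variable (Qf : (ι → K) → K) (Qf' : (ι' → K) → K) (hQ : ∀ v, Qf' (L v) = Qf v)
include hQ

theorem conjL_sim {g : GL ι K} (hg : g ∈ Geo.quadSimilarityGroup (F := K) Qf) :
    conjL L g ∈ Geo.quadSimilarityGroup (F := K) Qf' := by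
  obtain ⟨c, hc⟩ := hg
  refine ⟨c, fun v => ?_⟩
  obtain ⟨w, rfl⟩ := L.surjective v
  rw [conjL_mulVec, hQ, hQ, hc]

theorem isMax_map {U : Submodule K (ι → K)} :
    IsMaxTotallySingular Qf' (U.map L.toLinearMap) ↔ IsMaxTotallySingular Qf U := by
  have key : ∀ W : Submodule K (ι → K), (∀ v ∈ W.map L.toLinearMap, Qf' v = 0) ↔ ∀ v ∈ W, Qf v = 0 :=
    fun W => ⟨fun h v hv => (hQ v) ▸ h _ ⟨v, hv, rfl⟩, by rintro h _ ⟨v, hv, rfl⟩; exact (hQ v).trans (h v hv)⟩
  constructor
  · rintro ⟨h1, h2⟩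
    refine ⟨(key U).1 h1, fun W hW hUW => ?_⟩
    exact Submodule.map_injective_of_injective L.injective
      (h2 _ ((key W).2 hW) (Submodule.map_mono hUW))
  · rintro ⟨h1, h2⟩
    refine ⟨(key U).2 h1, fun W hW hUW => ?_⟩
    have hW' : (W.comap L.toLinearMap).map L.toLinearMap = W :=
      Submodule.map_comap_eq_of_surjective L.surjective W
    rw [← hW', h2 (W.comap L.toLinearMap) ((key _).1 (hW'.symm ▸ hW))
      (fun v hv => hUW ⟨v, hv, rfl⟩)]

theorem preserves_congr {g : GL ι K} :
    PreservesSingularClasses Qf' (conjL L g).1 ↔ PreservesSingularClasses Qf g.1 := by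
  have hsame : ∀ U : Submodule K (ι → K),
      SameParityClass (U.map L.toLinearMap) (imageSubmodule (conjL L g).1 (U.map L.toLinearMap)) ↔
        SameParityClass U (imageSubmodule g.1 U) := by
    intro U
    have himg : imageSubmodule (conjL L g).1 (U.map L.toLinearMap)
        = (imageSubmodule g.1 U).map L.toLinearMap := by
      rw [imageSubmodule, imageSubmodule, ← Submodule.map_comp, ← Submodule.map_comp]
      congr 1
      exact LinearMap.ext fun v => conjL_mulVec L g v
    rw [SameParityClass, SameParityClass, himg, LinearEquiv.finrank_map_eq,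
      ← Submodule.map_inf _ L.injective, LinearEquiv.finrank_map_eq]
  constructor
  · exact fun h U hU => (hsame U).1 (h _ ((isMax_map L Qf Qf' hQ).2 hU))
  · intro h U' hU'
    have hU : (U'.comap L.toLinearMap).map L.toLinearMap = U' :=
      Submodule.map_comap_eq_of_surjective L.surjective U'
    rw [← hU] at hU' ⊢
    exact (hsame _).2 (h _ ((isMax_map L Qf Qf' hQ).1 hU'))

end Congr

/-! ### The minus model over a quadratic extension -/

/-- The binary part split by its two roots. -/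
def planeMap (m : ℕ) {K : Type*} [Field K] (θ θ' : K) :
    ((Fin m ⊕ Fin m) ⊕ Fin 2 → K) →ₗ[K] (Fin (m + 1) ⊕ Fin (m + 1) → K) where
  toFun v := Sum.elim (Fin.snoc (fun i => v (.inl (.inl i))) (v (.inr 0) + θ * v (.inr 1)))
    (Fin.snoc (fun i => v (.inl (.inr i))) (v (.inr 0) + θ' * v (.inr 1)))
  map_add' v w := by
    funext s
    rcases s with i | i <;> refine Fin.lastCases ?_ (fun j => ?_) i <;> simp <;> ring
  map_smul' c v := by
    funext s
    rcases s with i | i <;> refine Fin.lastCases ?_ (fun j => ?_) i <;> simp <;> ring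

theorem exists_planeEquiv (m : ℕ) {K : Type*} [Field K] {θ θ' : K} (hne : θ ≠ θ') :
    ∃ L : ((Fin m ⊕ Fin m) ⊕ Fin 2 → K) ≃ₗ[K] (Fin (m + 1) ⊕ Fin (m + 1) → K),
      (∀ v, L v = planeMap m θ θ' v) ∧
      ∀ v, quadFormPlus (m + 1) K (L v) = quadFormMinus m K (θ + θ') (θ * θ') v := by
  have hinj : Function.Injective (planeMap m θ θ') := by
    rw [← LinearMap.ker_eq_bot, Submodule.eq_bot_iff]
    intro v hv
    have h : ∀ s, planeMap m θ θ' v s = 0 := congrFun (LinearMap.mem_ker.1 hv)
    have h0 := h (.inl (Fin.last m))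
    have h1 := h (.inr (Fin.last m))
    simp [planeMap] at h0 h1
    have e1 : v (.inr 1) = 0 :=
      (mul_eq_zero.1 (by linear_combination h0 - h1 : (θ - θ') * v (.inr 1) = 0)).resolve_left
        (sub_ne_zero.2 hne)
    funext s
    rcases s with (i | i) | i
    · simpa [planeMap] using h (.inl i.castSucc)
    · simpa [planeMap] using h (.inr i.castSucc)
    · fin_cases i
      · simpa [e1] using h0
      · exact e1
  refine ⟨LinearEquiv.ofInjectiveOfFinrankEq _ hinj (by simp; omega), fun v => rfl, fun v => ?_⟩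
  show quadFormPlus (m + 1) K (planeMap m θ θ' v) = _
  rw [quadFormPlus, Fin.sum_univ_castSucc, quadFormMinus]
  simp [planeMap]
  ring

universe u

variable {E : Type u} [Field E] [Finite E] {a b : E}

theorem exists_quadratic_ext (hab : Aniso a b) :
    ∃ (K : Type u) (_ : Field K) (_ : Algebra E K), finrank E K = 2 ∧
      ∃ t : K, t ^ 2 + algebraMap E K a * t + algebraMap E K b = 0 := by
  open Polynomial in
  let f : E[X] := X ^ 2 + C a * X + C b
  have hdeg : f.natDegree = 2 := by simp only [f]; compute_degree!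
  have hf : Irreducible f := by
    refine Polynomial.irreducible_of_degree_le_three_of_not_isRoot (by simp [hdeg]) fun x hx => ?_
    exact one_ne_zero (hab x 1 (by simpa [f, Polynomial.IsRoot] using hx)).2
  haveI : Fact (Irreducible f) := ⟨hf⟩
  refine ⟨AdjoinRoot f, inferInstance, inferInstance, by
    rw [(AdjoinRoot.powerBasis hf.ne_zero).finrank, AdjoinRoot.powerBasis_dim, hdeg],
    AdjoinRoot.root f, ?_⟩
  have h := AdjoinRoot.eval₂_root f
  simpa [f] using h

theorem exists_roots (hab : Aniso a b) (K : Type*) [Field K] [Algebra E K] (h2 : finrank E K = 2) :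
    ∃ θ θ' : K, θ ≠ θ' ∧ θ + θ' = algebraMap E K a ∧ θ * θ' = algebraMap E K b := by
  haveI : FiniteDimensional E K := FiniteDimensional.of_finrank_eq_succ h2
  haveI : Finite K := Module.finite_of_finite E
  obtain ⟨K₁, _, _, h₁, t, ht⟩ := exists_quadratic_ext hab
  haveI : FiniteDimensional E K₁ := FiniteDimensional.of_finrank_eq_succ h₁
  haveI : Finite K₁ := Module.finite_of_finite E
  obtain ⟨φ⟩ := FiniteField.nonempty_algHom_of_finrank_dvd (F := E) (K := K₁) (L := K)
    (by rw [h₁, h2])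
  have h := congrArg φ ht
  simp only [map_add, map_pow, map_mul, AlgHom.commutes, map_zero] at h
  refine ⟨-φ t, algebraMap E K a + φ t, fun he => ?_, by ring, by linear_combination -h⟩
  refine (map_ne_zero (algebraMap E K)).2 hab.disc_ne_zero ?_
  rw [map_sub, map_mul, map_mul, map_ofNat]
  linear_combination -(algebraMap E K a + 2 * φ t) * he - 4 * h

omit [Finite E] in
theorem mapGL_sim_minus {K : Type*} [Field K] [Finite K] (e : E →+* K)
    {g : GL ((Fin m ⊕ Fin m) ⊕ Fin 2) E}
    (hg : g ∈ Geo.quadSimilarityGroup (F := E) (quadFormMinus m E a b)) :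
    mapGL e g ∈ Geo.quadSimilarityGroup (F := K) (quadFormMinus m K (e a) (e b)) :=
  have : Fintype K := Fintype.ofFinite K
  FieldAut.mapGL_sim (Q := quadMinus m K (e a) (e b)) (quadMinus m E a b)
    (fun v => by simp [Orth.coe_quadMinus, quadFormMinus]) hg

/-- The parity of a minus similarity read over a quadratic extension. -/
theorem preservesK_iff (hm : 2 ≤ m) {K : Type*} [Field K] [Finite K] (e : E →+* K)
    {θ θ' : K} (hs : θ + θ' = e a) (hp : θ * θ' = e b)
    {L : ((Fin m ⊕ Fin m) ⊕ Fin 2 → K) ≃ₗ[K] (Fin (m + 1) ⊕ Fin (m + 1) → K)}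
    (hL : ∀ v, quadFormPlus (m + 1) K (L v) = quadFormMinus m K (θ + θ') (θ * θ') v)
    {g : GL ((Fin m ⊕ Fin m) ⊕ Fin 2) E}
    (hg : g ∈ Geo.quadSimilarityGroup (F := E) (quadFormMinus m E a b)) :
    PreservesSingularClasses (quadFormMinus m K (e a) (e b)) (g.1.map e) ↔
      par (baseU (m + 1) K) (conjL L (mapGL e g)) = 1 := by
  rw [← hs, ← hp, ← (splitPlus (F := K) (show 3 ≤ m + 1 by omega)).preserves_iff
    (conjL_sim L _ _ hL (by rw [hs, hp]; exact mapGL_sim_minus e hg)),
    Orth.coe_quadPlus, preserves_congr L _ _ hL]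
  rfl

/-- One extension decides. -/
theorem preservesMinus_iff (hm : 2 ≤ m) (hab : Aniso a b)
    {g : GL ((Fin m ⊕ Fin m) ⊕ Fin 2) E}
    (hg : g ∈ Geo.quadSimilarityGroup (F := E) (quadFormMinus m E a b))
    (K : Type u) [Field K] [Algebra E K] (h2 : finrank E K = 2) :
    PreservesSingularClassesMinus m a b g.1 ↔
      PreservesSingularClasses (quadFormMinus m K (algebraMap E K a) (algebraMap E K b))
        (g.1.map (algebraMap E K)) := by
  refine ⟨?_, fun h => ⟨K, _, _, h2, h⟩⟩
  rintro ⟨K', _, _, h2', h⟩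
  haveI : FiniteDimensional E K := FiniteDimensional.of_finrank_eq_succ h2
  haveI : Finite K := Module.finite_of_finite E
  haveI : FiniteDimensional E K' := FiniteDimensional.of_finrank_eq_succ h2'
  haveI : Finite K' := Module.finite_of_finite E
  obtain ⟨φ⟩ := FiniteField.nonempty_algHom_of_finrank_dvd (F := E) (K := K') (L := K) (by rw [h2, h2'])
  have hbij : Function.Bijective φ.toLinearMap :=
    ⟨φ.injective, (LinearMap.injective_iff_surjective_of_finrank_eq_finrank (by rw [h2, h2'])).1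
      φ.injective⟩
  let τ : K' ≃+* K := RingEquiv.ofBijective φ.toRingHom hbij
  obtain ⟨θ, θ', hne, hs, hp⟩ := exists_roots hab K' h2'
  obtain ⟨L', hLv', hL'⟩ := exists_planeEquiv m hne
  obtain ⟨L, hLv, hL⟩ := exists_planeEquiv m (show τ θ ≠ τ θ' from τ.injective.ne hne)
  have hτ : ∀ x, τ (algebraMap E K' x) = algebraMap E K x := φ.commutes
  rw [preservesK_iff hm _ hs hp hL' hg] at h
  rw [preservesK_iff hm _ (by rw [← map_add, hs, hτ]) (by rw [← map_mul, hp, hτ]) hL hg,
    ← h, ← par_mapEquiv τ]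
  congr 1
  refine Units.ext (Matrix.mulVec_injective (funext fun w => ?_))
  obtain ⟨v, rfl⟩ := L.surjective w
  have hLτ : ∀ v : (Fin m ⊕ Fin m) ⊕ Fin 2 → K', L (τ ∘ v) = τ ∘ L' v := fun v => by
    rw [hLv, hLv']
    funext s
    rcases s with i | i <;> refine Fin.lastCases ?_ (fun j => ?_) i <;> simp [planeMap]
  have hv : v = τ ∘ τ.symm ∘ v := funext fun i => (τ.apply_symm_apply _).symm
  have hM : ∀ x : (Fin m ⊕ Fin m) ⊕ Fin 2 → K',
      (mapGL (algebraMap E K) g).1 *ᵥ (τ ∘ x) = τ ∘ ((mapGL (algebraMap E K') g).1 *ᵥ x) := fun x => by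
    rw [FieldAut.mapGL_coe, FieldAut.mapGL_coe,
      show g.1.map (algebraMap E K) = (g.1.map (algebraMap E K')).map τ from by ext; simp [hτ]]
    exact map_mulVec_comp τ.toRingHom _ x
  rw [conjL_mulVec, hv, hM, hLτ, hLτ, FieldAut.mapGL_coe (e := τ.toRingHom), ← conjL_mulVec L']
  exact (map_mulVec_comp τ.toRingHom _ _).symm

/-- The class preserving similarities of the minus model. -/
noncomputable def minusS (m : ℕ) (a b : E) (hm : 2 ≤ m) (hab : Aniso a b) :
    Subgroup (GL ((Fin m ⊕ Fin m) ⊕ Fin 2) E) where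
  carrier := {g | g ∈ Geo.quadSimilarityGroup (F := E) (quadFormMinus m E a b) ∧
    PreservesSingularClassesMinus m a b g.1}
  one_mem' := by
    refine ⟨one_mem _, ?_⟩
    obtain ⟨K, _, _, h2, -⟩ := exists_quadratic_ext hab
    refine ⟨K, _, _, h2, fun U _ => ?_⟩
    rw [imageSubmodule, SameParityClass, Units.val_one, Matrix.map_one _ (map_zero _) (map_one _),
      Matrix.toLin'_one, Submodule.map_id, inf_idem, Nat.sub_self]
    exact Even.zero
  mul_mem' := fun {x y} hx hy => by
    refine ⟨mul_mem hx.1 hy.1, ?_⟩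
    obtain ⟨K, _, _, h2, -⟩ := exists_quadratic_ext hab
    haveI : FiniteDimensional E K := FiniteDimensional.of_finrank_eq_succ h2
    haveI : Finite K := Module.finite_of_finite E
    obtain ⟨θ, θ', hne, hs, hp⟩ := exists_roots hab K h2
    obtain ⟨L, -, hL⟩ := exists_planeEquiv m hne
    have hL' : ∀ v, quadFormPlus (m + 1) K (L v)
        = quadFormMinus m K (algebraMap E K a) (algebraMap E K b) v := by rw [← hs, ← hp]; exact hL
    have hk : ∀ {z}, z ∈ Geo.quadSimilarityGroup (F := E) (quadFormMinus m E a b) →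
        (PreservesSingularClassesMinus m a b z.1 ↔
          par (baseU (m + 1) K) (conjL L (mapGL (algebraMap E K) z)) = 1) := fun hz =>
      (preservesMinus_iff hm hab hz K h2).trans (preservesK_iff hm _ hs hp hL hz)
    have hsim : ∀ {z}, z ∈ Geo.quadSimilarityGroup (F := E) (quadFormMinus m E a b) →
        conjL L (mapGL (algebraMap E K) z) ∈
          Geo.quadSimilarityGroup (F := K) (quadFormPlus (m + 1) K) := fun hz =>
      conjL_sim L _ _ hL' (mapGL_sim_minus _ hz)
    have h1 := (hk hx.1).1 hx.2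
    have h1' := (hk hy.1).1 hy.2
    rw [hk (mul_mem hx.1 hy.1), map_mul, map_mul,
      (splitPlus (F := K) (show 3 ≤ m + 1 by omega)).par_mul (hsim hx.1) (hsim hy.1), h1, h1',
      mul_one]
  inv_mem' := fun {x} hx => by
    refine ⟨inv_mem hx.1, ?_⟩
    obtain ⟨K, _, _, h2, -⟩ := exists_quadratic_ext hab
    haveI : FiniteDimensional E K := FiniteDimensional.of_finrank_eq_succ h2
    haveI : Finite K := Module.finite_of_finite E
    obtain ⟨θ, θ', hne, hs, hp⟩ := exists_roots hab K h2
    obtain ⟨L, -, hL⟩ := exists_planeEquiv m hne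
    have hL' : ∀ v, quadFormPlus (m + 1) K (L v)
        = quadFormMinus m K (algebraMap E K a) (algebraMap E K b) v := by rw [← hs, ← hp]; exact hL
    have h1 := (preservesK_iff hm _ hs hp hL hx.1).1 ((preservesMinus_iff hm hab hx.1 K h2).1 hx.2)
    rw [preservesMinus_iff hm hab (inv_mem hx.1) K h2, preservesK_iff hm _ hs hp hL (inv_mem hx.1),
      map_inv, map_inv, (splitPlus (F := K) (show 3 ≤ m + 1 by omega)).par_inv
        (conjL_sim L _ _ hL' (mapGL_sim_minus _ hx.1)), h1]

theorem mem_minusS (hm : 2 ≤ m) (hab : Aniso a b) {g : GL ((Fin m ⊕ Fin m) ⊕ Fin 2) E} :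
    g ∈ minusS m a b hm hab ↔ g ∈ Geo.quadSimilarityGroup (F := E) (quadFormMinus m E a b) ∧
      PreservesSingularClassesMinus m a b g.1 := Iff.rfl

omit [Finite E] in
theorem coeffFixed_minus {σ : E ≃+* E} (ha : σ a = a) (hb : σ b = b) :
    CoeffFixed (quadFormMinus m E a b) σ := fun v => by simp [quadFormMinus, ha, hb]

theorem minusS_stable (hm : 2 ≤ m) (hab : Aniso a b) {σ : E ≃+* E} (ha : σ a = a) (hb : σ b = b)
    {g : GL ((Fin m ⊕ Fin m) ⊕ Fin 2) E} (hg : g ∈ minusS m a b hm hab) :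
    galGL σ g ∈ minusS m a b hm hab := by
  refine ⟨galGL_sim (coeffFixed_minus ha hb) hg.1, ?_⟩
  obtain ⟨K, iK, iA, h2, -⟩ := exists_quadratic_ext hab
  let iA' : Algebra E K := ((@algebraMap E K _ _ iA).comp σ.toRingHom).toAlgebra
  have h2' : @finrank E K _ _ iA'.toModule = 2 := by
    rw [← h2]
    refine @Algebra.finrank_eq_of_equiv_equiv E K _ _ iA' E K _ _ iA σ (RingEquiv.refl K) ?_
    exact RingHom.ext fun x => rfl
  have h := (@preservesMinus_iff m E _ _ a b hm hab g hg.1 K iK iA' h2').1 hg.2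
  refine ⟨K, iK, iA, h2, ?_⟩
  have e1 : @algebraMap E K _ _ iA' a = @algebraMap E K _ _ iA a :=
    congrArg (@algebraMap E K _ _ iA) ha
  have e2 : @algebraMap E K _ _ iA' b = @algebraMap E K _ _ iA b :=
    congrArg (@algebraMap E K _ _ iA) hb
  rw [e1, e2] at h
  rw [FieldAut.galGL_apply_coe, Matrix.map_map]
  exact h

theorem keep_minusS (hm : 2 ≤ m) (hab : Aniso a b) :
    ∀ g ∈ minusS m a b hm hab, MulAut.conj g ∈ FieldAut.keep (omMat (quadFormMinus m E a b)) :=
  fun _ hg => keep_conj_sim hg.1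

theorem inndiagMinus_range (hm : 2 ≤ m) (hab : Aniso a b) : inndiagPOmegaMinus m E a b
    = (conjAut omMat_injective (minusS m a b hm hab) (keep_minusS hm hab)).range := by
  refine FieldAut.closure_isInd_eq_range _ _ _ _ fun β => ?_
  have e : galGL (RingEquiv.refl E) = (1 : MulAut (GL ((Fin m ⊕ Fin m) ⊕ Fin 2) E)) := map_one galGL
  constructor
  · rintro ⟨g, hg, hp, hi⟩
    refine ⟨g, ⟨hg, hp⟩, ?_⟩
    rwa [isInd_semilinear_om, e, mul_one] at hi
  · rintro ⟨g, hg, hi⟩
    refine ⟨g, hg.1, hg.2, ?_⟩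
    rwa [isInd_semilinear_om, e, mul_one]

end Cfsg.Agent.OrthEven
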