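import Cfsg.Agent.Lib.OrthAct.MaxClass
import Cfsg.Agent.Lib.Forms.Classify
import Cfsg.Agent.Lib.FieldAut.OrthBasic

/-!
# The two classes of maximal singular subspaces, any characteristic

For a split form (`Split Q m U₀`):
* `cls U` : the class sign of a maximal singular subspace, `sameParity_iff`
* `par g` : the sign by which a similarity permutes the classes, `cls_map`, `parHom`, `preserves_iff`
* `par_iso` : on isometries it is the Dickson sign
* `cls_semi`, `par_galGL` : entrywise field automorphisms fixing `U₀` fix both classes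
-/

set_option autoImplicit false

namespace Cfsg.Agent.OrthEven

open Cfsg Cfsg.Agent Cfsg.Agent.Orth Module
open scoped Matrix MatrixGroups
open QuadraticMap (polar)
open Cfsg.Agent.FieldAut (galGL galGL_mulVec)

variable {ι : Type} [Fintype ι] [DecidableEq ι] {F : Type*} [Field F]
variable {Q : QuadraticForm F (ι → F)} {m : ℕ} {U₀ : Submodule F (ι → F)}

/-- A form of dimension `2m` with a totally singular subspace of dimension `m`. -/
structure Split (Q : QuadraticForm F (ι → F)) (m : ℕ) (U₀ : Submodule F (ι → F)) : Prop where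
  good : Good Q
  card : Fintype.card ι = 2 * m
  dim : finrank F U₀ = m
  sing : ∀ u ∈ U₀, Q u = 0

/-- The class sign of a subspace relative to `U₀`. -/
noncomputable def cls (U₀ U : Submodule F (ι → F)) : ℤ :=
  (-1) ^ (finrank F U₀ - finrank F (U₀ ⊓ U : Submodule F (ι → F)))

/-- The effect of a matrix on the class of `U₀`. -/
noncomputable def par (U₀ : Submodule F (ι → F)) (g : GL ι F) : ℤ :=
  cls U₀ (U₀.map (Matrix.toLin' g.1))

theorem cls_eq_or (U : Submodule F (ι → F)) : cls U₀ U = 1 ∨ cls U₀ U = -1 := neg_one_pow_eq_or ℤ _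

theorem toLin'_inj (g : GL ι F) : Function.Injective (Matrix.toLin' g.1) := fun a b h => by
  rw [Matrix.toLin'_apply, Matrix.toLin'_apply] at h
  have := congrArg (fun x => (g⁻¹ : GL ι F).1 *ᵥ x) h
  simpa [Matrix.mulVec_mulVec, ← Units.val_mul] using this

theorem map_toLin'_mul (g h : GL ι F) (U : Submodule F (ι → F)) :
    U.map (Matrix.toLin' (g * h).1) = (U.map (Matrix.toLin' h.1)).map (Matrix.toLin' g.1) := by
  rw [Units.val_mul, Matrix.toLin'_mul, Submodule.map_comp]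

theorem finrank_map_toLin' (g : GL ι F) (U : Submodule F (ι → F)) :
    finrank F (U.map (Matrix.toLin' g.1)) = finrank F U :=
  (Submodule.equivMapOfInjective _ (toLin'_inj g) U).finrank_eq.symm

theorem ap_eq_toLin' (o : IsoGrp Q) : ap o = Matrix.toLin' (o : GL ι F).1 := rfl

theorem sing_map {g : GL ι F} (hg : g ∈ Geo.quadSimilarityGroup (F := F) ⇑Q)
    {U : Submodule F (ι → F)} (hU : ∀ u ∈ U, Q u = 0) :
    ∀ u ∈ U.map (Matrix.toLin' g.1), Q u = 0 := by
  rintro _ ⟨u, hu, rfl⟩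
  obtain ⟨c, hc⟩ := hg
  rw [Matrix.toLin'_apply, hc, hU u hu, mul_zero]

/-- A conjugate of an isometry by a similarity. -/
def isoConjBy {g : GL ι F} (hg : g ∈ Geo.quadSimilarityGroup (F := F) ⇑Q) (o : IsoGrp Q) : IsoGrp Q :=
  ⟨g * (o : GL ι F) * g⁻¹, FieldAut.mem_iso_iff.2 fun v => by
    obtain ⟨c, hc⟩ := hg
    rw [Units.val_mul, Units.val_mul, ← Matrix.mulVec_mulVec, ← Matrix.mulVec_mulVec, hc,
      FieldAut.mem_iso_iff.1 o.2, ← hc, Matrix.mulVec_mulVec, ← Units.val_mul, mul_inv_cancel,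
      Units.val_one, Matrix.one_mulVec]⟩

theorem dick_isoConjBy {g : GL ι F} (hg : g ∈ Geo.quadSimilarityGroup (F := F) ⇑Q) (o : IsoGrp Q) :
    dick (isoConjBy hg o) = dick o := by
  have h : resSpace (isoConjBy hg o) = (resSpace o).map (Matrix.toLin' g.1) := by
    have hap : ∀ x, ap (isoConjBy hg o) (g.1 *ᵥ x) = g.1 *ᵥ ap o x := fun x => by
      rw [ap_apply, ap_apply]
      show (g * (o : GL ι F) * g⁻¹).1 *ᵥ _ = _
      rw [Units.val_mul, Units.val_mul, ← Matrix.mulVec_mulVec, ← Matrix.mulVec_mulVec,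
        Matrix.mulVec_mulVec x, ← Units.val_mul, inv_mul_cancel, Units.val_one, Matrix.one_mulVec]
    ext w
    constructor
    · rintro ⟨x, rfl⟩
      refine ⟨ap o ((g⁻¹).1 *ᵥ x) - (g⁻¹).1 *ᵥ x, sub_mem_resSpace o _, ?_⟩
      have hx : g.1 *ᵥ ((g⁻¹).1 *ᵥ x) = x := by
        rw [Matrix.mulVec_mulVec, ← Units.val_mul, mul_inv_cancel, Units.val_one, Matrix.one_mulVec]
      rw [Matrix.toLin'_apply, Matrix.mulVec_sub, ← hap, hx]
      rfl
    · rintro ⟨_, ⟨x, rfl⟩, rfl⟩
      refine ⟨g.1 *ᵥ x, ?_⟩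
      simp [hap, Matrix.mulVec_sub]
  rw [dick, dick, h, finrank_map_toLin']

namespace Split

theorem exists_iso (hS : Split Q m U₀) {U : Submodule F (ι → F)} (hU : finrank F U = m)
    (hU0 : ∀ u ∈ U, Q u = 0) : ∃ o : IsoGrp Q, U₀.map (ap o) = U := by
  let φ : U₀ ≃ₗ[F] U := LinearEquiv.ofFinrankEq _ _ (hS.dim.trans hU.symm)
  obtain ⟨o, -, ho⟩ := OrthAct.exists_iso_map hS.good.nd φ fun x => by
    rw [hU0 _ (φ x).2, hS.sing _ x.2]
  exact ⟨o, ho⟩

theorem cls_iso (hS : Split Q m U₀) (o : IsoGrp Q) : cls U₀ (U₀.map (ap o)) = dick o := by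
  rw [cls, hS.dim, OrthAct.dick_eq_parity hS.good hS.card hS.dim hS.sing o]

theorem par_iso (hS : Split Q m U₀) (o : IsoGrp Q) : par U₀ (o : GL ι F) = dick o := by
  rw [← hS.cls_iso o, ap_eq_toLin']
  rfl

theorem cls_map_iso (hS : Split Q m U₀) (o : IsoGrp Q) {U : Submodule F (ι → F)}
    (hU : finrank F U = m) (hU0 : ∀ u ∈ U, Q u = 0) :
    cls U₀ (U.map (ap o)) = dick o * cls U₀ U := by
  obtain ⟨o', rfl⟩ := hS.exists_iso hU hU0
  rw [← OrthAct.map_ap_mul, hS.cls_iso, hS.cls_iso, dick_mul hS.good]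

theorem sameParity_iff (hS : Split Q m U₀) {U W : Submodule F (ι → F)} (hU : finrank F U = m)
    (hU0 : ∀ u ∈ U, Q u = 0) (hW : finrank F W = m) (hW0 : ∀ u ∈ W, Q u = 0) :
    SameParityClass U W ↔ cls U₀ W = cls U₀ U := by
  obtain ⟨o, rfl⟩ := hS.exists_iso hU hU0
  obtain ⟨o', rfl⟩ := hS.exists_iso hW hW0
  set U := U₀.map (ap o)
  have h1 : U₀.map (ap o') = U.map (ap (o' * o⁻¹)) := by
    rw [← OrthAct.map_ap_mul, inv_mul_cancel_right]
  rw [SameParityClass, hU, ← neg_one_pow_eq_one_iff_even (R := ℤ) (by norm_num), h1,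
    ← OrthAct.dick_eq_parity hS.good hS.card hU hU0, ← h1, hS.cls_iso, hS.cls_iso]
  have h2 : dick (o' * o⁻¹) * dick o = dick o' := by
    rw [← dick_mul hS.good, inv_mul_cancel_right]
  rcases dick_eq_or o with h | h <;> rw [h] at h2 ⊢ <;> constructor <;> intro h3 <;> omega

theorem cls_map (hS : Split Q m U₀) {g : GL ι F} (hg : g ∈ Geo.quadSimilarityGroup (F := F) ⇑Q)
    {U : Submodule F (ι → F)} (hU : finrank F U = m) (hU0 : ∀ u ∈ U, Q u = 0) :
    cls U₀ (U.map (Matrix.toLin' g.1)) = par U₀ g * cls U₀ U := by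
  obtain ⟨o, rfl⟩ := hS.exists_iso hU hU0
  have h1 : (U₀.map (ap o)).map (Matrix.toLin' g.1)
      = (U₀.map (Matrix.toLin' g.1)).map (ap (isoConjBy hg o)) := by
    rw [ap_eq_toLin', ap_eq_toLin', ← map_toLin'_mul, ← map_toLin'_mul]
    show _ = U₀.map (Matrix.toLin' (g * (o : GL ι F) * g⁻¹ * g).1)
    rw [inv_mul_cancel_right]
  rw [h1, hS.cls_map_iso _ ((finrank_map_toLin' g U₀).trans hS.dim) (sing_map hg hS.sing),
    dick_isoConjBy, hS.cls_iso, mul_comm]
  rfl

theorem par_mul (hS : Split Q m U₀) {g h : GL ι F} (hg : g ∈ Geo.quadSimilarityGroup (F := F) ⇑Q)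
    (hh : h ∈ Geo.quadSimilarityGroup (F := F) ⇑Q) : par U₀ (g * h) = par U₀ g * par U₀ h := by
  rw [par, map_toLin'_mul, hS.cls_map hg ((finrank_map_toLin' h U₀).trans hS.dim)
    (sing_map hh hS.sing)]
  rfl

theorem par_scalar (hS : Split Q m U₀) (c : Fˣ) : par U₀ (FieldAut.scal c : GL ι F) = 1 := by
  have h : U₀.map (Matrix.toLin' (FieldAut.scal c : GL ι F).1) = U₀ := by
    refine Submodule.eq_of_le_of_finrank_eq ?_ (finrank_map_toLin' _ _)
    rintro _ ⟨x, hx, rfl⟩
    rw [Matrix.toLin'_apply, FieldAut.scal_coe, Matrix.smul_mulVec, Matrix.one_mulVec]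
    exact U₀.smul_mem _ hx
  rw [par, h, cls, inf_idem, Nat.sub_self, pow_zero]

theorem par_one (hS : Split Q m U₀) : par U₀ (1 : GL ι F) = 1 := by
  rw [← map_one (FieldAut.scal : Fˣ →* GL ι F), hS.par_scalar]

theorem par_inv (hS : Split Q m U₀) {g : GL ι F} (hg : g ∈ Geo.quadSimilarityGroup (F := F) ⇑Q) :
    par U₀ g⁻¹ = par U₀ g := by
  have h := hS.par_mul hg (inv_mem hg)
  rw [mul_inv_cancel, hS.par_one] at h
  rcases cls_eq_or (U₀ := U₀) (U₀.map (Matrix.toLin' g.1)) with h' | h' <;>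
    (rw [show par U₀ g = _ from h'] at h ⊢; omega)

theorem preserves_iff (hS : Split Q m U₀) {g : GL ι F}
    (hg : g ∈ Geo.quadSimilarityGroup (F := F) ⇑Q) :
    PreservesSingularClasses ⇑Q g.1 ↔ par U₀ g = 1 := by
  have hle : ∀ W : Submodule F (ι → F), (∀ u ∈ W, Q u = 0) → finrank F W ≤ m := fun W hW => by
    have := Forms.two_mul_finrank_singular_le Q hS.good.nd W hW
    rw [Orth.finrank_space, hS.card] at this
    omega
  have hmax : ∀ U : Submodule F (ι → F), finrank F U = m → (∀ u ∈ U, Q u = 0) →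
      IsMaxTotallySingular ⇑Q U := fun U hU hU0 => ⟨hU0, fun W hW hUW =>
    (Submodule.eq_of_le_of_finrank_le hUW (by rw [hU]; exact hle W hW)).symm⟩
  constructor
  · intro h
    have h1 := (hS.sameParity_iff hS.dim hS.sing ((finrank_map_toLin' g U₀).trans hS.dim)
      (sing_map hg hS.sing)).1 (h U₀ (hmax U₀ hS.dim hS.sing))
    rw [hS.cls_map hg hS.dim hS.sing] at h1
    rcases cls_eq_or (U₀ := U₀) U₀ with h2 | h2 <;> rw [h2] at h1 <;> omega
  · intro h U hU
    have hUk : finrank F U = m := by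
      rw [← hS.dim]
      exact Forms.maximal_singular_finrank_eq Q hS.good.nd U U₀ hU.1 hS.sing
        (fun W hle' hW => hU.2 W hW hle')
        (fun W hle' hW => (hmax U₀ hS.dim hS.sing).2 W hW hle')
    refine (hS.sameParity_iff hUk hU.1 ((finrank_map_toLin' g U).trans hUk) (sing_map hg hU.1)).2 ?_
    rw [hS.cls_map hg hUk hU.1, h, one_mul]

/-- The class preserving similarities. -/
noncomputable def plusSim (hS : Split Q m U₀) : Subgroup (GL ι F) where
  carrier := {g | g ∈ Geo.quadSimilarityGroup (F := F) ⇑Q ∧ par U₀ g = 1}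
  one_mem' := ⟨one_mem _, hS.par_one⟩
  mul_mem' := fun {a b} ha hb => ⟨mul_mem ha.1 hb.1, by rw [hS.par_mul ha.1 hb.1, ha.2, hb.2, mul_one]⟩
  inv_mem' := fun {a} ha => ⟨inv_mem ha.1, by rw [hS.par_inv ha.1, ha.2]⟩

theorem mem_plusSim (hS : Split Q m U₀) {g : GL ι F} :
    g ∈ hS.plusSim ↔ g ∈ Geo.quadSimilarityGroup (F := F) ⇑Q ∧
      PreservesSingularClasses ⇑Q g.1 :=
  ⟨fun h => ⟨h.1, (hS.preserves_iff h.1).2 h.2⟩, fun h => ⟨h.1, (hS.preserves_iff h.1).1 h.2⟩⟩

end Split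

/-! ### Field automorphisms -/

/-- The image of a subspace under an entrywise field automorphism. -/
def semiImage (σ : F ≃+* F) (U : Submodule F (ι → F)) : Submodule F (ι → F) where
  carrier := {v | σ.symm ∘ v ∈ U}
  add_mem' := fun {a b} ha hb => by
    show σ.symm ∘ (a + b) ∈ U
    rw [show σ.symm ∘ (a + b) = σ.symm ∘ a + σ.symm ∘ b from funext fun i => map_add σ.symm _ _]
    exact U.add_mem ha hb
  zero_mem' := by
    show σ.symm ∘ (0 : ι → F) ∈ U
    rw [show σ.symm ∘ (0 : ι → F) = 0 from funext fun i => map_zero σ.symm]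
    exact U.zero_mem
  smul_mem' := fun c a ha => by
    show σ.symm ∘ (c • a) ∈ U
    rw [show σ.symm ∘ (c • a) = σ.symm c • (σ.symm ∘ a) from funext fun i => map_mul σ.symm _ _]
    exact U.smul_mem _ ha

omit [Fintype ι] [DecidableEq ι] in
theorem mem_semiImage {σ : F ≃+* F} {U : Submodule F (ι → F)} {v : ι → F} :
    v ∈ semiImage σ U ↔ σ.symm ∘ v ∈ U := Iff.rfl

omit [Fintype ι] [DecidableEq ι] in
theorem semiImage_inf (σ : F ≃+* F) (U W : Submodule F (ι → F)) :
    semiImage σ (U ⊓ W) = semiImage σ U ⊓ semiImage σ W := rfl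

theorem semiImage_map (σ : F ≃+* F) (g : GL ι F) (U : Submodule F (ι → F)) :
    semiImage σ (U.map (Matrix.toLin' g.1))
      = (semiImage σ U).map (Matrix.toLin' (galGL σ g).1) := by
  ext v
  have hc : ∀ w : ι → F, σ ∘ σ.symm ∘ w = w := fun w => funext fun i => σ.apply_symm_apply (w i)
  have hc' : ∀ w : ι → F, σ.symm ∘ σ ∘ w = w := fun w => funext fun i => σ.symm_apply_apply (w i)
  constructor
  · rintro ⟨u, hu, huv⟩
    refine ⟨σ ∘ u, by show σ.symm ∘ σ ∘ u ∈ U; rwa [hc'], ?_⟩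
    rw [Matrix.toLin'_apply] at huv ⊢
    rw [galGL_mulVec, huv, hc]
  · rintro ⟨u, hu, rfl⟩
    refine ⟨σ.symm ∘ u, hu, ?_⟩
    rw [Matrix.toLin'_apply, Matrix.toLin'_apply]
    conv_rhs => rw [← hc u, galGL_mulVec, hc']

omit [DecidableEq ι] in
theorem finrank_semiImage [Finite F] (σ : F ≃+* F) (U : Submodule F (ι → F)) :
    finrank F (semiImage σ U) = finrank F U := by
  classical
  let e : semiImage σ U ≃ U :=
    { toFun := fun v => ⟨σ.symm ∘ v.1, v.2⟩
      invFun := fun v => ⟨σ ∘ v.1, by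
        show σ.symm ∘ σ ∘ v.1 ∈ U
        rw [show σ.symm ∘ σ ∘ v.1 = v.1 from funext fun i => σ.symm_apply_apply _]
        exact v.2⟩
      left_inv := fun v => Subtype.ext (funext fun i => σ.apply_symm_apply _)
      right_inv := fun v => Subtype.ext (funext fun i => σ.symm_apply_apply _) }
  have := Fintype.ofFinite F
  have h := Nat.card_congr e
  rw [Module.natCard_eq_pow_finrank (K := F) (V := semiImage σ U), Module.natCard_eq_pow_finrank (K := F) (V := U)] at h
  exact Nat.pow_right_injective (Finite.one_lt_card (α := F)) h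

namespace Split

theorem cls_semi [Finite F] (σ : F ≃+* F) (h0 : semiImage σ U₀ = U₀) (U : Submodule F (ι → F)) :
    cls U₀ (semiImage σ U) = cls U₀ U := by
  rw [cls, cls]
  conv_lhs => rw [← h0, ← semiImage_inf, finrank_semiImage, finrank_semiImage]

theorem par_galGL [Finite F] (σ : F ≃+* F) (h0 : semiImage σ U₀ = U₀) (g : GL ι F) :
    par U₀ (galGL σ g) = par U₀ g := by
  rw [par, par]
  rw [← cls_semi σ h0 (U₀.map (Matrix.toLin' g.1)), semiImage_map, h0]

end Split

end Cfsg.Agent.OrthEven
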