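import Cfsg.Agent.Lib.OrthEven.PlusNormal
import Cfsg.Agent.Lib.OrthEven.GraphField

/-!
# Field automorphisms of `PΩ⁺_{2m}(q)`, `m ≥ 4`: centraliser and splitting

* `plusQ_comp`, `mapGL_plusS`, `rel_spin`
* `plus_count`, `plus_field_structure`
-/

set_option autoImplicit false
set_option linter.style.haveILetI false
set_option linter.unusedSectionVars false

namespace Cfsg.Agent.OrthEven

open Cfsg Cfsg.Agent Module
open scoped Matrix MatrixGroups
open Cfsg.Agent.Orth (IsoGrp Good quadPlus ap refl dick spin)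
open Cfsg.Agent.FieldAut (galGL mapGL omMat omMat_injective scal Setup conjAut galGL_sim)

variable {k : ℕ} {F : Type*} [Field F] [Fintype F] {F₀ : Type*} [Field F₀] [Fintype F₀]

local notation "I" => Fin (k + 1) ⊕ Fin (k + 1)
local notation "QPf" => quadFormPlus (k + 1) F

theorem plusQ_comp (e : F₀ →+* F) (v : I → F₀) :
    quadFormPlus (k + 1) F (e ∘ v) = e (quadFormPlus (k + 1) F₀ v) := by
  simp [quadFormPlus]

theorem mapGL_mult (e : F₀ →+* F) {g₀ : GL I F₀} {c₀ : F₀}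
    (h : ∀ v, quadFormPlus (k + 1) F₀ (g₀.1 *ᵥ v) = c₀ * quadFormPlus (k + 1) F₀ v) (v : I → F) :
    QPf ((mapGL e g₀).1 *ᵥ v) = e c₀ * QPf v := by
  have key : (quadPlus (k + 1) F).comp (Matrix.mulVecLin (mapGL e g₀).1)
      = e c₀ • quadPlus (k + 1) F := by
    refine FieldAut.quadForm_ext_of_subfield e _ _ fun w => ?_
    show QPf ((mapGL e g₀).1 *ᵥ (e ∘ w)) = e c₀ * QPf (e ∘ w)
    rw [FieldAut.mapGL_coe, map_mulVec_comp, plusQ_comp, plusQ_comp, h, map_mul]
  exact QuadraticMap.congr_fun key v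

theorem mapGL_plusS (hk : 2 ≤ k) (e : F₀ →+* F) {g₀ : GL I F₀}
    (hg : g₀ ∈ plusS (k + 1) F₀ (show 3 ≤ k + 1 by omega)) :
    mapGL e g₀ ∈ plusS (k + 1) F (show 3 ≤ k + 1 by omega) := by
  obtain ⟨⟨c, hc⟩, hp⟩ := hg
  exact ⟨⟨Units.map e.toMonoidHom c, fun v => mapGL_mult e hc v⟩, (par_mapGL e g₀).trans hp⟩

theorem mapGL_diagU (e : F₀ →+* F) (d : I → F₀ˣ) :
    mapGL e (diagU (k + 1) F₀ d) = diagU (k + 1) F fun i => Units.map e.toMonoidHom (d i) := by
  ext i j
  rw [FieldAut.mapGL_coe, diagU_coe, diagU_coe]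
  rcases eq_or_ne i j with rfl | hij <;> simp [*]

theorem plusAct_inn_iff (hk : 3 ≤ k) (g : plusS (k + 1) F (show 3 ≤ k + 1 by omega)) :
    plusAct (show 2 ≤ k by omega) g ∈ Inn (POmega F QPf) ↔
      ∃ (d : Fˣ) (o : IsoGrp (quadPlus (k + 1) F)), g.1 = scal d * o.1 ∧ spin o = 1 := by
  have hG := (splitPlus (F := F) (show 3 ≤ k + 1 by omega)).good
  haveI : Nonempty I := ⟨.inl 0⟩
  have hr := rigid_of_base (basePlus (F := F) hk)
  have key := FieldAut.conjAut_mem_inn_iff hr _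
    (keep_plusS (F := F) (show 3 ≤ k + 1 by omega))
    (fun h => (iso_mem_plusS (by omega) h.1).2 ((Orth.mem_omega_iff hG h.1).1 h.2).1) g
  refine key.trans ⟨?_, ?_⟩
  · rintro ⟨d, h, hgh⟩
    exact ⟨d, h.1, hgh, ((Orth.mem_omega_iff hG h.1).1 h.2).2⟩
  · rintro ⟨d, o, hgo, hs⟩
    have hd : dick o = 1 := (iso_mem_plusS (by omega) o).1 (by
      rw [show o.1 = scal d⁻¹ * g.1 by rw [hgo, ← mul_assoc, ← map_mul, inv_mul_cancel, map_one,
        one_mul]]
      exact mul_mem (scal_mem_plusS (by omega) _) g.2)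
    exact ⟨d, ⟨o, (Orth.mem_omega_iff hG o).2 ⟨hd, hs⟩⟩, hgo⟩

open Classical in
/-- Fixed isometries have spinor norm `1` when every rational element is a square. -/
theorem rel_spin (hk : 2 ≤ k) (e : F₀ →+* F) {σ : F ≃+* F}
    (hrange : ∀ x, σ x = x → x ∈ Set.range e) (hsq : ∀ x : F₀, x ≠ 0 → quadraticChar F (e x) = 1)
    (o : IsoGrp (quadPlus (k + 1) F)) (ho : galGL σ o.1 = o.1) : spin o = 1 := by
  obtain ⟨g₀, hg₀⟩ := exists_mapGL_of_fixed e hrange ho
  have hL : ∀ v : I → F₀, quadPlus (k + 1) F ((LinearEquiv.refl F (I → F)) (e ∘ v))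
      = e (quadPlus (k + 1) F₀ v) := fun v => plusQ_comp e v
  let o₀ : IsoGrp (quadPlus (k + 1) F₀) := ⟨g₀, FieldAut.mem_iso_iff.2 fun v => by
    apply e.injective
    rw [Orth.coe_quadPlus, ← plusQ_comp, ← plusQ_comp, ← map_mulVec_comp, ← FieldAut.mapGL_coe,
      hg₀, ← Orth.coe_quadPlus]
    exact FieldAut.mem_iso_iff.1 o.2 _⟩
  have h2 : isoTr e _ _ (LinearEquiv.refl F (I → F)) hL o₀ = o := Subtype.ext (by
    rw [isoTr_coe, conjL_refl]; exact hg₀)
  rw [← h2, spin_isoTr _ _ _ _ _ (splitPlus (F := F₀) (show 3 ≤ k + 1 by omega)).good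
    (splitPlus (F := F) (show 3 ≤ k + 1 by omega)).good 1 fun x hx => (hsq x hx).trans rfl]
  rfl

open Classical in
theorem plus_count (hk : 3 ≤ k) (e : F₀ →+* F) {σ : F ≃+* F} {r : ℕ} (hr : r.Prime)
    (D : Setup (omMat QPf) (plusS (k + 1) F (show 3 ≤ k + 1 by omega)) σ r)
    (hfix : ∀ x, σ (e x) = e x) (hrange : ∀ x, σ x = x → x ∈ Set.range e)
    (hcard : Fintype.card F = Fintype.card F₀ ^ r) :
    splitClassCount D.G (Inn (POmega F QPf)) D.phi =
      if Odd r ∨ (2 : F₀) = 0 then 1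
      else if Odd (k + 1) ∧ Fintype.card F₀ % 4 = 1 then 2 else 4 := by
  have hk2 : 2 ≤ k := by omega
  have hG := (splitPlus (F := F) (show 3 ≤ k + 1 by omega)).good
  haveI : Nonempty I := ⟨.inl 0⟩
  have hInn : Inn (POmega F QPf) ≤ D.G := FieldAut.inn_le_range _ _ _ fun h =>
    (iso_mem_plusS hk2 h.1).2 ((Orth.mem_omega_iff hG h.1).1 h.2).1
  set f := plusAct (F := F) hk2 with hf
  set T := (Inn (POmega F QPf)).comap f with hT
  set N := (Inn (POmega F QPf) ⊔ D.G ⊓ Subgroup.centralizer {D.phi}).comap f with hN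
  have hcount : splitClassCount D.G (Inn (POmega F QPf)) D.phi = N.index := by
    rw [FieldAut.splitClassCount_eq_index _ _ hInn, hN, Subgroup.index_comap]
    rfl
  have hTN : T ≤ N := fun g hg => Subgroup.mem_sup_left hg
  have hTmem : ∀ (g : plusS (k + 1) F (show 3 ≤ k + 1 by omega)) (d : Fˣ)
      (o : IsoGrp (quadPlus (k + 1) F)), g.1 = scal d * o.1 → spin o = 1 → g ∈ T :=
    fun g d o h h' => (plusAct_inn_iff hk g).2 ⟨d, o, h, h'⟩
  have hfixN : ∀ (g : plusS (k + 1) F (show 3 ≤ k + 1 by omega)) (g₀ : GL I F₀),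
      g.1 = mapGL e g₀ → g ∈ N := fun g g₀ hg =>
    Subgroup.mem_sup_right ⟨⟨g, rfl⟩, (D.mem_centralizer_iff g.2).2 ⟨1, by
      rw [map_one, one_mul, hg]; exact FieldAut.galGL_mapGL e hfix g₀⟩⟩
  -- square multipliers in characteristic two
  by_cases h20 : (2 : F₀) = 0
  · rw [if_pos (Or.inr h20), hcount, Subgroup.index_eq_one, Subgroup.eq_top_iff']
    intro g
    have h2 : (2 : F) = 0 := by rw [← map_ofNat e, h20, map_zero]
    obtain ⟨c, hc⟩ := g.2.1
    have hchar : ringChar F = 2 :=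
      CharP.ringChar_of_prime_eq_zero Nat.prime_two (by exact_mod_cast h2)
    obtain ⟨y, hy⟩ := FiniteField.isSquare_of_char_two hchar (c : F)
    have hy0 : y ≠ 0 := fun h0 => c.ne_zero (by rw [hy, h0, mul_zero])
    obtain ⟨o, -, ho⟩ := exists_iso_of_sq hk2 g.2 (d := Units.mk0 y hy0)
      (fun v => by rw [Units.val_mk0, ← hy]; exact hc v)
    exact hTN (hTmem g _ o ho (Orth.spin_eq_one_of_two hG h2 o))
  have h2 : (2 : F) ≠ 0 := fun h0 => h20 (e.injective (by rw [map_ofNat, h0, map_zero]))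
  have hodd₀ : Odd (Fintype.card F₀) := by
    rcases Nat.even_or_odd (Fintype.card F₀) with h | h
    · exfalso
      obtain ⟨q, n, hq, hn⟩ : ∃ q n : ℕ, q.Prime ∧ Fintype.card F₀ = q ^ n := by
        obtain ⟨q, _⟩ := CharP.exists F₀
        obtain ⟨n, hn, hc⟩ := FiniteField.card F₀ q
        exact ⟨q, n, hn, hc⟩
      have hq2 : q = 2 := ((Nat.prime_dvd_prime_iff_eq Nat.prime_two hq).1
        (Nat.prime_two.dvd_of_dvd_pow (hn ▸ h.two_dvd))).symm
      have h3 : ((Fintype.card F₀ : ℕ) : F₀) = 0 := FiniteField.cast_card_eq_zero F₀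
      rw [hn, hq2, Nat.cast_pow] at h3
      exact h20 (by simpa using eq_zero_of_pow_eq_zero h3)
    · exact h
  have hF₀2 : ringChar F₀ ≠ 2 := fun h => by
    have := FiniteField.even_card_of_char_two h
    rw [Nat.odd_iff] at hodd₀
    omega
  have hF2 : ringChar F ≠ 2 := fun h => h2 (by
    have := ringChar.Nat.cast_ringChar (R := F)
    rw [h] at this
    exact_mod_cast this)
  obtain ⟨ε, hε⟩ := quadraticChar_exists_neg_one' (F := F₀) hF₀2
  set E := Units.map e.toMonoidHom ε with hE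
  -- the rational similarity of multiplier `ε`
  have hgm : ∀ v, QPf ((diagU (k + 1) F (Sum.elim (fun _ => E) 1)).1 *ᵥ v) = (E : F) * QPf v :=
    diagU_mult _ E fun i => by simp
  set W : plusS (k + 1) F (show 3 ≤ k + 1 by omega) :=
    ⟨diagU (k + 1) F (Sum.elim (fun _ => E) 1), ⟨E, hgm⟩, par_diagU _⟩ with hW
  have hWN : W ∈ N := hfixN W (diagU (k + 1) F₀ (Sum.elim (fun _ => ε) 1)) (by
    rw [mapGL_diagU, hW]
    show diagU (k + 1) F (Sum.elim (fun _ => E) 1) = _
    congr 1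
    funext i; rcases i with i | i <;> simp [hE])
  have hmul : ∀ (g : plusS (k + 1) F (show 3 ≤ k + 1 by omega)) (c : Fˣ),
      (∀ v, QPf (g.1.1 *ᵥ v) = (c : F) * QPf v) → quadraticChar F (c : F) = 1 → g ∈ sqS hk2 := by
    intro g c hc h
    obtain ⟨z, hz⟩ := (quadraticChar_one_iff_isSquare c.ne_zero).1 h
    exact ⟨Units.mk0 z (fun h0 => c.ne_zero (by rw [hz, h0, mul_zero])), fun v => by
      rw [Units.val_mk0, ← hz]; exact hc v⟩
  obtain ⟨v₁, hv₁⟩ : ∃ v, QPf v ≠ 0 := ⟨oddVec k F, by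
    rw [← Orth.coe_quadPlus, oddVec_Q]; exact one_ne_zero⟩
  by_cases hro : Odd r
  · -- odd order: rational elements cover everything
    rw [if_pos (Or.inl hro), hcount, Subgroup.index_eq_one, Subgroup.eq_top_iff']
    have hchar : ∀ x : F₀, x ≠ 0 → quadraticChar F (e x) = quadraticChar F₀ x :=
      FieldAut.quadraticChar_embed_odd e D.ordσ hro hfix hrange
    have hχE : quadraticChar F (E : F) = -1 := (hchar _ ε.ne_zero).trans hε
    set z := torIso (k + 1) F (Function.update (fun _ => 1) 0 E) with hz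
    have hzs : spin z = -1 := by
      rw [hz, spin_torIso (show 3 ≤ k + 1 by omega), Fin.prod_univ_succ]
      simp [Fin.succ_ne_zero, hχE]
    have hzS : z.1 ∈ plusS (k + 1) F (show 3 ≤ k + 1 by omega) :=
      ⟨FieldAut.iso_le_sim z.2, par_diagU _⟩
    have hzN : (⟨z.1, hzS⟩ : plusS (k + 1) F _) ∈ N :=
      hfixN _ (torIso (k + 1) F₀ (Function.update (fun _ => 1) 0 ε)).1 (by
        show z.1 = _
        rw [hz, torIso_coe, torIso_coe, mapGL_diagU]
        congr 1
        funext i; rcases i with i | i <;> rcases eq_or_ne i 0 with rfl | hi <;> simp [hE, *])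
    have hsqN : ∀ g ∈ sqS hk2, g ∈ N := by
      intro g hg
      obtain ⟨d, hd⟩ := hg
      obtain ⟨o, -, ho⟩ := exists_iso_of_sq hk2 g.2 hd
      rcases Orth.spin_eq_or hG o with h | h
      · exact hTN (hTmem g d o ho h)
      · have h' : g * (⟨z.1, hzS⟩ : plusS (k + 1) F _) ∈ T := hTmem _ d (o * z) (by
          show g.1 * z.1 = scal d * (o.1 * z.1)
          rw [ho, mul_assoc]) (by rw [Orth.spin_mul hG, h, hzs]; rfl)
        have := mul_mem (hTN h') (inv_mem hzN)
        rwa [mul_inv_cancel_right] at this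
    intro g
    obtain ⟨c, hc'⟩ := g.2.1
    have hc : ∀ v, QPf (g.1.1 *ᵥ v) = (c : F) * QPf v := hc'
    rcases quadraticChar_dichotomy c.ne_zero with h | h
    · exact hsqN g (hmul g c hc h)
    · have h' : g * W ∈ sqS hk2 := hmul _ (c * E) (fun v => by
        show QPf ((g.1.1 * W.1.1) *ᵥ v) = _
        rw [← Matrix.mulVec_mulVec, hc, Units.val_mul, mul_assoc]
        exact congrArg _ (hgm v)) (by rw [Units.val_mul, map_mul, h, hχE]; rfl)
      have := mul_mem (hsqN _ h') (inv_mem hWN)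
      rwa [mul_inv_cancel_right] at this
  -- order two
  obtain rfl : r = 2 := hr.eq_two_or_odd'.resolve_right hro
  rw [if_neg (by tauto), hcount]
  have hsq : ∀ x : F₀, x ≠ 0 → quadraticChar F (e x) = 1 :=
    FieldAut.quadraticChar_embed_two e hodd₀ hcard
  obtain ⟨y, hy⟩ := (quadraticChar_one_iff_isSquare E.ne_zero).1 (hsq _ ε.ne_zero)
  have hy0 : y ≠ 0 := fun h0 => E.ne_zero (by rw [hy, h0, mul_zero])
  set δ := Units.mk0 y hy0 with hδ
  have hδ2 : (δ : F) * δ = e ε := hy.symm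
  obtain ⟨j, hj⟩ := hodd₀
  have hχδ : quadraticChar F (δ : F) = (-1) ^ (j + 1) := by
    have h1 := quadraticChar_eq_pow_of_char_ne_two' hF2 (δ : F)
    have h3 : (ε : F₀) ^ j = -1 := by
      have := quadraticChar_eq_pow_of_char_ne_two' hF₀2 (ε : F₀)
      rw [hε, hj, show (2 * j + 1) / 2 = j by omega] at this
      simpa using this.symm
    have h4 : Fintype.card F / 2 = 2 * (j * (j + 1)) := by
      rw [hcard, hj]
      have : (2 * j + 1) ^ 2 = 2 * (2 * (j * (j + 1))) + 1 := by ring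
      omega
    rw [h4, pow_mul, pow_two, hδ2, pow_mul, ← map_pow, h3, map_neg, map_one] at h1
    rcases quadraticChar_dichotomy δ.ne_zero with h | h <;> rw [h] at h1 ⊢ <;>
      rcases Nat.even_or_odd (j + 1) with hp | hp
    · rw [hp.neg_one_pow]
    · rw [hp.neg_one_pow] at h1
      exact absurd h1 (by simpa using (Ring.neg_one_ne_one_of_char_ne_two hF2).symm)
    · rw [hp.neg_one_pow] at h1
      exact absurd h1 (by simpa using (Ring.neg_one_ne_one_of_char_ne_two hF2))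
    · rw [hp.neg_one_pow]
  set oW := torIso (k + 1) F fun _ => δ with hoW
  have hWeq : W.1 = scal δ * oW.1 := by
    refine Units.ext (Matrix.ext fun i i' => ?_)
    rw [hW, hoW, Units.val_mul, torIso_coe, diagU_coe, diagU_coe, FieldAut.scal_coe, smul_mul_assoc,
      one_mul, Matrix.smul_apply, smul_eq_mul]
    rcases eq_or_ne i i' with rfl | hii
    · rcases i with i | i
      · simp [hE, hδ2]
      · simp
    · simp [hii]
  have hsW : spin oW = (-1) ^ ((j + 1) * (k + 1)) := by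
    rw [hoW, spin_torIso (show 3 ≤ k + 1 by omega), Finset.prod_const, Finset.card_univ,
      Fintype.card_fin, hχδ, pow_mul]
  have hneg : spin (torIso (k + 1) F fun _ => -1) = 1 := by
    rw [spin_torIso (show 3 ≤ k + 1 by omega)]
    refine Finset.prod_eq_one fun i _ => ?_
    have := hsq (-1) (neg_ne_zero.2 one_ne_zero)
    rwa [map_neg, map_one] at this
  have hwd : ∀ (d d' : Fˣ) (o o' : IsoGrp (quadPlus (k + 1) F)),
      (scal d : GL I F) * o.1 = scal d' * o'.1 → spin o = spin o' := by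
    intro d d' o o' h
    have h1 : o.1 = scal (d⁻¹ * d') * o'.1 := by
      rw [map_mul, mul_assoc, ← h, ← mul_assoc, ← map_mul, inv_mul_cancel, map_one, one_mul]
    set u := d⁻¹ * d'
    have h3 := FieldAut.mem_iso_iff.1 o.2 v₁
    rw [h1, Units.val_mul, FieldAut.scal_coe, smul_mul_assoc, one_mul, Matrix.smul_mulVec,
      QuadraticMap.map_smul, FieldAut.mem_iso_iff.1 o'.2, smul_eq_mul] at h3
    rcases mul_self_eq_one_iff.1 (mul_eq_right₀ hv₁ |>.1 h3) with hu | hu
    · rw [show u = 1 from Units.ext hu, map_one, one_mul] at h1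
      rw [Subtype.ext h1]
    · have h4 : (torIso (k + 1) F fun _ => -1).1 = (scal u : GL I F) := by
        refine Units.ext (Matrix.ext fun i i' => ?_)
        rw [torIso_coe, diagU_coe, FieldAut.scal_coe, hu]
        rcases eq_or_ne i i' with rfl | hii
        · rcases i with i | i <;> simp
        · simp [hii]
      have h5 : o = (torIso (k + 1) F fun _ => -1) * o' :=
        Subtype.ext (by rw [h1, ← h4]; rfl)
      rw [h5, Orth.spin_mul hG, hneg, one_mul]
  have hTiff : ∀ (g : plusS (k + 1) F (show 3 ≤ k + 1 by omega)) (d : Fˣ)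
      (o : IsoGrp (quadPlus (k + 1) F)), g.1 = scal d * o.1 → (g ∈ T ↔ spin o = 1) :=
    fun g d o hgo => ⟨fun hg => by
      obtain ⟨d', o', hgo', hs'⟩ := (plusAct_inn_iff hk g).1 hg
      rw [← hs']; exact hwd d d' o o' (hgo.symm.trans hgo'), hTmem g d o hgo⟩
  have hWT : W ∈ T ↔ spin oW = 1 := hTiff W δ oW hWeq
  have hTP : T ≤ sqS hk2 := by
    intro g hg
    obtain ⟨d, o, hgo, -⟩ := (plusAct_inn_iff hk g).1 hg
    refine ⟨d, fun v => ?_⟩
    rw [hgo, Units.val_mul, FieldAut.scal_coe, smul_mul_assoc, one_mul, Matrix.smul_mulVec,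
      ← Orth.coe_quadPlus, QuadraticMap.map_smul, FieldAut.mem_iso_iff.1 o.2, smul_eq_mul]
  -- the fixed elements
  have hdec : ∀ g : plusS (k + 1) F (show 3 ≤ k + 1 by omega),
      (∃ a : Fˣ, galGL σ g.1 = scal a * g.1) → g ∈ T ∨ g * W⁻¹ ∈ T := by
    rintro g ⟨a, ha⟩
    obtain ⟨g₀, ⟨c₀, hc₀⟩, c, hgc⟩ := FieldAut.exists_sim_of_twist (Q := quadPlus (k + 1) F)
      (quadPlus (k + 1) F₀) (fun v => plusQ_comp e v) (v₀ := oddVec k F₀) (oddVec_Q) D.ordσ D.rpos
      hrange g.2.1 ha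
    have main : ∀ (h : plusS (k + 1) F (show 3 ≤ k + 1 by omega)) (G : GL I F) (z : F₀ˣ) (b : Fˣ),
        galGL σ G = G → (∀ v, QPf (G.1 *ᵥ v) = e z * e z * QPf v) → h.1 = scal b * G → h ∈ T := by
      intro h G z b hGf hGm hh
      set Z := Units.map e.toMonoidHom z
      let o : IsoGrp (quadPlus (k + 1) F) := ⟨scal Z⁻¹ * G, FieldAut.mem_iso_iff.2 fun v => by
        rw [Units.val_mul, FieldAut.scal_coe, smul_mul_assoc, one_mul, Matrix.smul_mulVec,
          QuadraticMap.map_smul, Orth.coe_quadPlus, hGm, smul_eq_mul]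
        have : e (z : F₀) ≠ 0 := (map_ne_zero e).2 z.ne_zero
        simp [Z]
        field_simp⟩
      refine hTmem h (b * Z) o ?_ (rel_spin hk2 e hrange hsq o ?_)
      · show h.1 = scal (b * Z) * (scal Z⁻¹ * G)
        rw [hh, ← mul_assoc, ← map_mul, mul_inv_cancel_right]
      · show galGL σ (scal Z⁻¹ * G) = scal Z⁻¹ * G
        rw [map_mul, FieldAut.galGL_scal, hGf]
        congr 2
        exact Units.ext (by simp [Z, hfix])
    have hWfix : galGL σ W.1⁻¹ = W.1⁻¹ := by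
      rw [map_inv]
      congr 1
      show galGL σ (diagU (k + 1) F (Sum.elim (fun _ => E) 1)) = diagU (k + 1) F (Sum.elim (fun _ => E) 1)
      ext i i'
      rw [FieldAut.galGL_apply_coe, Matrix.map_apply, diagU_coe]
      rcases eq_or_ne i i' with rfl | hii
      · rcases i with i | i <;> simp [hE, hfix]
      · simp [hii]
    have hmult : ∀ v, QPf ((mapGL e g₀).1 *ᵥ v) = e c₀ * QPf v := mapGL_mult e hc₀
    by_cases hq : IsSquare (c₀ : F₀)
    · obtain ⟨z, hz⟩ := hq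
      have hz0 : z ≠ 0 := fun h0 => c₀.ne_zero (by rw [hz, h0, mul_zero])
      exact Or.inl (main g _ (Units.mk0 z hz0) c (FieldAut.galGL_mapGL e hfix g₀)
        (fun v => by rw [Units.val_mk0, ← map_mul, ← hz, hmult]) hgc)
    · have hq' : IsSquare ((c₀ : F₀) * (ε⁻¹ : F₀ˣ)) := by
        refine (quadraticChar_one_iff_isSquare (mul_ne_zero c₀.ne_zero (ε⁻¹).ne_zero)).1 ?_
        have h1 := congrArg (quadraticChar F₀) ε.mul_inv
        rw [map_mul, hε, map_one] at h1
        rw [map_mul, quadraticChar_neg_one_iff_not_isSquare.2 hq]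
        omega
      obtain ⟨z, hz⟩ := hq'
      have hz0 : z ≠ 0 := fun h0 => mul_ne_zero c₀.ne_zero (ε⁻¹).ne_zero (by rw [hz, h0, mul_zero])
      refine Or.inr (main _ (mapGL e g₀ * W.1⁻¹) (Units.mk0 z hz0) c
        (by rw [map_mul, FieldAut.galGL_mapGL e hfix g₀, hWfix]) (fun v => ?_) ?_)
      · have h3 : QPf v = e ε * QPf ((W.1⁻¹ : GL I F).1 *ᵥ v) := by
          have hm : QPf (W.1.1 *ᵥ ((W.1⁻¹ : GL I F).1 *ᵥ v)) = _ := hgm _
          rw [Matrix.mulVec_mulVec, ← Units.val_mul, mul_inv_cancel, Units.val_one,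
            Matrix.one_mulVec] at hm
          exact hm
        rw [Units.val_mul, ← Matrix.mulVec_mulVec, hmult, Units.val_mk0, ← map_mul, ← hz, h3,
          ← mul_assoc, ← map_mul, mul_assoc, Units.inv_mul, mul_one]
      · show g.1 * W.1⁻¹ = _
        rw [hgc, mul_assoc]
  have hNle : ∀ X : Subgroup (plusS (k + 1) F (show 3 ≤ k + 1 by omega)), T ≤ X → W ∈ X → N ≤ X := by
    intro X hTX hWX g hg
    obtain ⟨u, hu, β, ⟨⟨c, hβc⟩, hβ⟩, huβ⟩ :=
      Subgroup.mem_sup_of_normal_left.1 (Subgroup.mem_comap.1 hg)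
    have hcX : c ∈ X := by
      rw [← hβc] at hβ
      rcases hdec c ((D.mem_centralizer_iff c.2).1 hβ) with h | h
      · exact hTX h
      · have := mul_mem (hTX h) hWX
        rwa [inv_mul_cancel_right] at this
    have hgc : g * c⁻¹ ∈ T := by
      show f _ ∈ Inn (POmega F QPf)
      rw [map_mul, map_inv, ← huβ, show f c = β from hβc, mul_inv_cancel_right]
      exact hu
    have := mul_mem (hTX hgc) hcX
    rwa [inv_mul_cancel_right] at this
  -- the two indices
  obtain ⟨ν, hν⟩ := quadraticChar_exists_neg_one' (F := F) hF2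
  have hP2 : (sqS hk2 : Subgroup (plusS (k + 1) F (show 3 ≤ k + 1 by omega))).index = 2 := by
    have hgν : ∀ v, QPf ((diagU (k + 1) F (Sum.elim (fun _ => ν) 1)).1 *ᵥ v) = (ν : F) * QPf v :=
      diagU_mult _ ν fun i => by simp
    refine Subgroup.index_eq_two_iff.2 ⟨⟨_, ⟨⟨ν, hgν⟩, par_diagU (Sum.elim (fun _ => ν) 1)⟩⟩, fun b => ?_⟩
    obtain ⟨c, hc''⟩ := b.2.1
    have hc' : ∀ v, QPf (b.1.1 *ᵥ v) = (c : F) * QPf v := hc''
    have hb : ∀ (g : plusS (k + 1) F (show 3 ≤ k + 1 by omega)) (c : Fˣ),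
        (∀ v, QPf (g.1.1 *ᵥ v) = (c : F) * QPf v) → (g ∈ sqS hk2 ↔ quadraticChar F (c : F) = 1) := by
      intro g c hc
      refine ⟨?_, hmul g c hc⟩
      rintro ⟨d, hd⟩
      have h := (hc v₁).symm.trans (hd v₁)
      rw [mul_left_inj' hv₁] at h
      rw [h, map_mul, ← pow_two, quadraticChar_sq_one d.ne_zero]
    have hba := hb (b * ⟨_, ⟨⟨ν, hgν⟩, par_diagU (Sum.elim (fun _ => ν) 1)⟩⟩) (c * ν) fun v => by
      show QPf ((b.1.1 * (diagU (k + 1) F (Sum.elim (fun _ => ν) 1)).1) *ᵥ v) = _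
      rw [← Matrix.mulVec_mulVec, hc', hgν, Units.val_mul, mul_assoc]
    rw [hb b c hc', hba, Units.val_mul, map_mul, hν]
    rcases quadraticChar_dichotomy c.ne_zero with h | h <;> rw [h] <;> decide
  have hTrel : T.relIndex (sqS hk2) = 2 := by
    set z := torIso (k + 1) F (Function.update (fun _ => 1) 0 ν) with hz
    have hzs : spin z = -1 := by
      rw [hz, spin_torIso (show 3 ≤ k + 1 by omega), Fin.prod_univ_succ]
      simp [Fin.succ_ne_zero, hν]
    have hzS : z.1 ∈ plusS (k + 1) F (show 3 ≤ k + 1 by omega) :=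
      ⟨FieldAut.iso_le_sim z.2, par_diagU _⟩
    have hzP : (⟨z.1, hzS⟩ : plusS (k + 1) F _) ∈ sqS hk2 := ⟨1, fun v => by
      simpa [Orth.coe_quadPlus] using FieldAut.mem_iso_iff.1 z.2 v⟩
    rw [Subgroup.relIndex, Subgroup.index_eq_two_iff]
    refine ⟨⟨_, hzP⟩, fun b => ?_⟩
    obtain ⟨d, hd⟩ := b.2
    obtain ⟨o, -, ho⟩ := exists_iso_of_sq hk2 b.1.2 hd
    simp only [Subgroup.mem_subgroupOf, Subgroup.coe_mul]
    rw [hTiff b.1 d o ho, hTiff _ d (o * z) (by
      show b.1.1 * z.1 = scal d * (o.1 * z.1)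
      rw [ho, mul_assoc]), Orth.spin_mul hG, hzs]
    rcases Orth.spin_eq_or hG o with h | h <;> rw [h] <;> decide
  have hTidx : T.index = 4 := by rw [← Subgroup.relIndex_mul_index hTP, hTrel, hP2]
  have hiff : spin oW = 1 ↔ ¬ (Odd (k + 1) ∧ Fintype.card F₀ % 4 = 1) := by
    rw [hsW, neg_one_pow_eq_one_iff_even (by norm_num), ← Nat.not_odd_iff_even, Nat.odd_mul, hj,
      Nat.odd_iff, Nat.odd_iff]
    omega
  split_ifs with h4
  · have hs1 : spin oW ≠ 1 := fun h => hiff.1 h h4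
    have hsneg : spin oW = -1 := (Orth.spin_eq_or hG oW).resolve_left hs1
    suffices hNP : N = sqS hk2 by rw [hNP, hP2]
    refine le_antisymm (hNle _ hTP ⟨δ, fun v => by rw [hδ2]; exact hgm v⟩) fun g hg => ?_
    obtain ⟨d, hd⟩ := hg
    obtain ⟨o, -, ho⟩ := exists_iso_of_sq hk2 g.2 hd
    rcases Orth.spin_eq_or hG o with h | h
    · exact hTN (hTmem g d o ho h)
    · have hgW : g * W ∈ T := hTmem _ (d * δ) (o * oW) (by
        show g.1 * W.1 = scal (d * δ) * (o.1 * oW.1)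
        rw [ho, hWeq, map_mul]
        simp only [mul_assoc]
        congr 1
        rw [← mul_assoc o.1, ← FieldAut.scal_comm δ, mul_assoc]) (by
        rw [Orth.spin_mul hG, h, hsneg]; rfl)
      have := mul_mem (hTN hgW) (inv_mem hWN)
      rwa [mul_inv_cancel_right] at this
  · rw [le_antisymm (hNle T le_rfl (hWT.2 (hiff.2 h4))) hTN, hTidx]

theorem plus_field_structure {p f : ℕ} (hp : p.Prime) (hF : Fintype.card F = p ^ f) (hk : 3 ≤ k)
    {x : MulAut (POmega F QPf)} (hx : IsFieldAutClassPOmega QPf x) {r : ℕ} (hr : r.Prime)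
    (hxr : orderOf x = r) (hF₀ : Fintype.card F₀ = p ^ (f / r)) :
    r ∣ f ∧
      Nonempty (↥(inndiagPOmegaPlus (k + 1) F ⊓ Subgroup.centralizer {x}) ≃*
        ↥(inndiagPOmegaPlus (k + 1) F₀)) ∧
      ((Odd r ∨ p = 2) →
        splitClassCount (inndiagPOmegaPlus (k + 1) F) (Inn (POmega F QPf)) x = 1) ∧
      ((r = 2 ∧ p ≠ 2 ∧ Odd (k + 1) ∧ p ^ (f / 2) % 4 = 1) →
        splitClassCount (inndiagPOmegaPlus (k + 1) F) (Inn (POmega F QPf)) x = 2) ∧
      ((r = 2 ∧ p ≠ 2 ∧ ¬ (Odd (k + 1) ∧ p ^ (f / 2) % 4 = 1)) →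
        splitClassCount (inndiagPOmegaPlus (k + 1) F) (Inn (POmega F QPf)) x = 4) := by
  classical
  have hk2 : 2 ≤ k := by omega
  obtain ⟨σ, D, α, hα, hG, hαx⟩ := plus_field_reduce_all hk hx hr hxr
  obtain ⟨hrf, hQ, -⟩ := FieldAut.order_data hp hF D.ordσ D.rpos
  obtain ⟨e, he⟩ := FieldAut.exists_embedding_fixed σ D.ordσ D.rpos hQ F₀ hF₀
  have hfix : ∀ x, σ (e x) = e x := fun x => (he _).1 ⟨x, rfl⟩
  have hrange : ∀ x, σ x = x → x ∈ Set.range e := fun x h => (he x).2 h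
  have hcard : Fintype.card F = Fintype.card F₀ ^ r := by
    rw [hF₀, hQ, Nat.card_eq_fintype_card]
  haveI : Nonempty I := ⟨.inl 0⟩
  have hsurj : ∀ g ∈ plusS (k + 1) F (show 3 ≤ k + 1 by omega),
      (∃ a : Fˣ, galGL σ g = scal a * g) →
      ∃ g₀ ∈ plusS (k + 1) F₀ (show 3 ≤ k + 1 by omega), ∃ a : Fˣ, g = scal a * mapGL e g₀ := by
    rintro g hg ⟨t, ht⟩
    obtain ⟨g₀, hg₀, c, hgc⟩ := FieldAut.exists_sim_of_twist (Q := quadPlus (k + 1) F)
      (quadPlus (k + 1) F₀) (fun v => plusQ_comp e v) (v₀ := oddVec k F₀) oddVec_Q D.ordσ D.rpos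
      hrange hg.1 ht
    refine ⟨g₀, ⟨hg₀, (par_mapGL e g₀).symm.trans ?_⟩, c, hgc⟩
    have h1 : mapGL e g₀ ∈ plusS (k + 1) F (show 3 ≤ k + 1 by omega) := by
      rw [show mapGL e g₀ = scal c⁻¹ * g by rw [hgc, ← mul_assoc, ← map_mul, inv_mul_cancel,
        map_one, one_mul]]
      exact mul_mem (scal_mem_plusS hk2 _) hg
    exact h1.2
  obtain ⟨E⟩ := D.centralizerEquiv e hfix _ (fun g hg => mapGL_plusS hk2 e hg) hsurj
  obtain ⟨E₀⟩ := FieldAut.projQuot_equiv_range (rigid_of_base (basePlus (F := F₀) hk))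
    (plusS (k + 1) F₀ (show 3 ≤ k + 1 by omega)) (keep_plusS _)
  have hc : splitClassCount (inndiagPOmegaPlus (k + 1) F) (Inn (POmega F QPf)) x =
      if Odd r ∨ (2 : F₀) = 0 then 1
      else if Odd (k + 1) ∧ Fintype.card F₀ % 4 = 1 then 2 else 4 := by
    rw [FieldAut.splitClassCount_conj hα hαx, ← hG]
    exact plus_count hk e hr D hfix hrange hcard
  have hp2 : (2 : F₀) = 0 ↔ p = 2 := by
    have h0 : ((p : ℕ) : F) = 0 := by
      have h1 : ((p : ℕ) : F) ^ f = 0 := by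
        rw [← Nat.cast_pow, ← hF]; exact FiniteField.cast_card_eq_zero F
      exact eq_zero_of_pow_eq_zero h1
    constructor
    · intro h
      by_contra hne
      have h2 : (2 : F) = 0 := by rw [← map_ofNat e, h, map_zero]
      have := (hp.odd_of_ne_two hne)
      obtain ⟨i, rfl⟩ := this
      rw [Nat.cast_add, Nat.cast_mul, Nat.cast_ofNat, h2, zero_mul, zero_add, Nat.cast_one] at h0
      exact one_ne_zero h0
    · rintro rfl
      exact e.injective (by rw [map_ofNat, map_zero]; exact_mod_cast h0)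
  refine ⟨hrf, ⟨?_⟩, fun h => ?_, ?_, ?_⟩
  · have E1 := FieldAut.centralizerConjEquiv hα hαx
    rw [← hG] at E1 ⊢
    exact ((E1.trans E).trans E₀).trans
      (MulEquiv.subgroupCongr (inndiagPlus_range (show 3 ≤ k + 1 by omega)).symm)
  · rw [hc, if_pos (h.imp_right hp2.2)]
  all_goals
    rintro ⟨rfl, hne, h4⟩
    have hnot : ¬ (Odd 2 ∨ (2 : F₀) = 0) := by
      rintro (h | h)
      · exact absurd h (by decide)
      · exact hne (hp2.1 h)
    rw [hc, if_neg hnot, hF₀]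
  · rw [if_pos h4]
  · rw [if_neg h4]

end Cfsg.Agent.OrthEven
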