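import Cfsg.Agent.Lib.OrthEven.Field
import Cfsg.Agent.Lib.AutPOmega.PairOrbit

/-!
# `Inndiag(PΩ⁺_{2m})` is normal in the automorphism group, `m ≥ 4`

In dimension eight an automorphism `α` need not be induced by a semisimilarity. The inner-diagonal group
fixes the orbit of every commuting, distinct, non-coplanar pair of lines; the conjugate by `α` inherits
this, hence consists of class preserving similarities.

* `basePlus`, `semiAut_eq`, `orbit_fix`, `conj_mem_inndiag`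
* `inndiagPlus_normal_all`, `plus_field_reduce_all`
-/

set_option autoImplicit false
set_option linter.style.haveILetI false
set_option linter.unusedSectionVars false

namespace Cfsg.Agent.OrthEven

open Cfsg Cfsg.Agent Module
open scoped Matrix MatrixGroups
open QuadraticMap (polar)
open Cfsg.Agent.Orth (IsoGrp quadPlus ap dick spin)
open Cfsg.Agent.AutPOmega (SPair E SameL Coplanar MB ln Lin)
open Cfsg.Agent.FieldAut (galGL omMat CoeffFixed Setup conjAut_apply keep_gal_om galGL_sim)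

variable {F : Type*} [Field F] [Fintype F] {k : ℕ}

local notation "I" => Fin (k + 1) ⊕ Fin (k + 1)
local notation "QPf" => quadFormPlus (k + 1) F
local notation "QP" => quadPlus (k + 1) F
local notation "Q4" => quadPlus (3 + 1) F
local notation "SimP" => Geo.quadSimilarityGroup (F := F) (quadFormPlus (k + 1) F)

theorem basePlus (hk : 3 ≤ k) : AutPOmega.Base (quadPlus (k + 1) F) where
  nd := Orth.quadPlus_nondeg (k + 1)
  seven := by simp; omega

theorem semiAut_eq {ι : Type} [Fintype ι] [DecidableEq ι] {Q : QuadraticForm F (ι → F)}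
    {σ : F ≃+* F} (hσ : CoeffFixed ⇑Q σ) {g : GL ι F}
    (hs : IsSemisimilarityPair ⇑Q g σ) (hg : g ∈ Geo.quadSimilarityGroup (F := F) ⇑Q) :
    AutPOmega.semiAut Q hs = cA ⇑Q ⟨g, hg⟩ * phiP hσ := by
  rw [AutPOmega.semiAut, cA, phiP, conjAut_apply, ← map_mul]
  rfl

theorem ln_smul_left {ι : Type} [Fintype ι] [DecidableEq ι] {K : Type*} [Field K] [Fintype K] {c : K} (hc : c ≠ 0) (a b : ι → K) :
    ln (c • a) b = ln a b := by
  refine le_antisymm ?_ ?_ <;>
    rw [Submodule.span_le, Set.insert_subset_iff, Set.singleton_subset_iff]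
  · exact ⟨Submodule.smul_mem _ _ (AutPOmega.left_mem_ln _ _), AutPOmega.right_mem_ln _ _⟩
  · refine ⟨?_, AutPOmega.right_mem_ln _ _⟩
    have := Submodule.smul_mem (ln (c • a) b) c⁻¹ (AutPOmega.left_mem_ln _ _)
    rwa [inv_smul_smul₀ hc] at this

theorem ln_smul_right {ι : Type} [Fintype ι] [DecidableEq ι] {K : Type*} [Field K] [Fintype K] {c : K} (hc : c ≠ 0) (a b : ι → K) :
    ln a (c • b) = ln a b := by
  rw [ln, ln, Set.pair_comm a, Set.pair_comm a]
  exact ln_smul_left hc b a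

/-- The action of a similarity on root elements. -/
theorem cA_root (hk : 3 ≤ k) {g : GL I F} (hg : g ∈ SimP) :
    ∃ d : F, d ≠ 0 ∧
      (∀ u w, SPair QP u w →
        SPair QP (g.1 *ᵥ u) (d • (g.1 *ᵥ w)) ∧
          ln (g.1 *ᵥ u) (d • (g.1 *ᵥ w)) = (ln u w).map (Matrix.toLin' g.1)) ∧
      (∀ u w, QP u = 0 → polar ⇑QP u w = 0 →
        cA ⇑QP ⟨g, hg⟩ (E QP u w) = E QP (g.1 *ᵥ u) (d • (g.1 *ᵥ w))) := by
  obtain ⟨c, hc⟩ := id hg
  have hQ : ∀ v, QP (g.1 *ᵥ (RingEquiv.refl F ∘ v)) = (c : F) * RingEquiv.refl F (QP v) := hc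
  have hpol : ∀ a b, polar ⇑QP (g.1 *ᵥ a) (g.1 *ᵥ b) = (c : F) * polar ⇑QP a b :=
    fun a b => AutPOmega.semi_polar hQ a b
  refine ⟨(c : F)⁻¹, inv_ne_zero c.ne_zero, fun u w h => ?_, fun u w hu hw => ?_⟩
  · have hs : SPair QP (g.1 *ᵥ u) (g.1 *ᵥ w) := by
      refine ⟨(hc u).trans (by rw [← Orth.coe_quadPlus, h.qu, mul_zero]),
        (hc w).trans (by rw [← Orth.coe_quadPlus, h.qw, mul_zero]),
        by rw [hpol, h.p, mul_zero], fun h0 => h.nu ?_, fun hm => h.ind ?_⟩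
      · exact toLin'_inj g ((Matrix.toLin'_apply _ _).trans (h0.trans (map_zero _).symm))
      · obtain ⟨t, ht⟩ := Submodule.mem_span_singleton.1 hm
        refine Submodule.mem_span_singleton.2 ⟨t, toLin'_inj g ?_⟩
        rw [map_smul, Matrix.toLin'_apply, Matrix.toLin'_apply, ht]
    refine ⟨hs.smul_right (inv_ne_zero c.ne_zero), ?_⟩
    rw [ln_smul_right (inv_ne_zero c.ne_zero), ln, ln, Submodule.map_span, Set.image_pair,
      Matrix.toLin'_apply, Matrix.toLin'_apply]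
  · have e := AutPOmega.semi_E (basePlus hk) c.ne_zero hQ hu hw
    rw [semiAut_eq (σ := RingEquiv.refl F) (fun _ => rfl) _ hg,
      show phiP (Qf := ⇑QP) (σ := RingEquiv.refl F) (fun _ => rfl) = 1 from phiP_one, mul_one] at e
    exact e

theorem lin_cA (hk : 3 ≤ k) {g : GL I F} (hg : g ∈ SimP) : Lin QP (cA ⇑QP ⟨g, hg⟩) := by
  obtain ⟨d, hd, hS, hE⟩ := cA_root hk hg
  refine AutPOmega.lin_of_formula (basePlus hk) (L := Matrix.toLin' g.1) (d := d)
    (fun u w h => ?_) fun u w hu hw => ?_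
  · rw [Matrix.toLin'_apply, Matrix.toLin'_apply]; exact (hS u w h).1
  · rw [Matrix.toLin'_apply, Matrix.toLin'_apply]; exact hE u w hu hw

theorem sing_sup {u w u' w' : I → F} (h : SPair QP u w) (h' : SPair QP u' w')
    (hp : AutPOmega.Perp QP (ln u w) (ln u' w')) : ∀ v ∈ ln u w ⊔ ln u' w', QP v = 0 := by
  intro v hv
  obtain ⟨a, ha, b, hb, rfl⟩ := Submodule.mem_sup.1 hv
  rw [Orth.Q_add, (h.ts ha ha).1, (h'.ts hb hb).1, hp a ha b hb]; ring

theorem finrank_sup {u w u' w' : I → F} (h : SPair QP u w) (h' : SPair QP u' w')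
    (hm : ¬ AutPOmega.Meet (ln u w) (ln u' w')) :
    finrank F ↥(ln u w ⊔ ln u' w') = 4 := by
  have h0 : ln u w ⊓ ln u' w' = ⊥ := (Submodule.eq_bot_iff _).2 fun x hx => by
    by_contra hx0
    exact hm ⟨x, hx0, hx.1, hx.2⟩
  have h1 := Submodule.finrank_sup_add_finrank_inf_eq (ln u w) (ln u' w')
  rw [h0, finrank_bot, h.finrank_ln, h'.finrank_ln] at h1
  omega

/-- A class preserving similarity of `Ω⁺₈` moves every pair as some element of `Ω` does. -/
theorem orbit_fix {g : GL (Fin (3 + 1) ⊕ Fin (3 + 1)) F}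
    (hg : g ∈ plusS (3 + 1) F (show 3 ≤ 3 + 1 by omega))
    {x y : POmega F ⇑(quadPlus (3 + 1) F)} (hx : AutPOmega.IsRoot x) (hy : AutPOmega.IsRoot y)
    (hc : Commute x y) (hs : ¬ SameL x y) (hcp : ¬ Coplanar x y) :
    ∃ z, SameL (MulAut.conj z x) (cA ⇑Q4 ⟨g, hg.1⟩ x) ∧
      SameL (MulAut.conj z y) (cA ⇑Q4 ⟨g, hg.1⟩ y) := by
  classical
  have H := basePlus (F := F) (k := 3) le_rfl
  obtain ⟨d, hd, hS, hE⟩ := cA_root (k := 3) le_rfl hg.1
  by_cases hm : MB _ x y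
  · obtain ⟨u, a, b, ha, hb, hab, rfl, rfl⟩ := hm.exists_polar H hs hcp
    obtain ⟨c, hc'⟩ := hg.1
    have hQ : ∀ v, quadPlus (3 + 1) F (g.1 *ᵥ (RingEquiv.refl F ∘ v))
        = (c : F) * RingEquiv.refl F (quadPlus (3 + 1) F v) := hc'
    have hab' : polar ⇑(quadPlus (3 + 1) F) (d • (g.1 *ᵥ a)) (d • (g.1 *ᵥ b)) ≠ 0 := by
      have e : polar ⇑(quadPlus (3 + 1) F) (g.1 *ᵥ a) (g.1 *ᵥ b)
          = (c : F) * polar ⇑(quadPlus (3 + 1) F) a b := AutPOmega.semi_polar hQ a b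
      rw [Orth.pl_smul_left, Orth.pl_smul_right, e]
      exact mul_ne_zero hd (mul_ne_zero hd (mul_ne_zero c.ne_zero hab))
    rw [hE u a ha.qu ha.p, hE u b hb.qu hb.p]
    exact AutPOmega.meet_orbit H ha hb hab (hS u a ha).1 (hS u b hb).1 hab'
  obtain ⟨u, w, h, rfl⟩ := hx
  obtain ⟨u', w', h', rfl⟩ := hy
  rw [AutPOmega.mb_iff H h h'] at hm
  have hp := ((AutPOmega.commute_iff H h h').1 hc).resolve_left hm
  have hSp := splitPlus (F := F) (show 3 ≤ 3 + 1 by omega)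
  set U := ln u w ⊔ ln u' w' with hU
  have hU4 : finrank F U = 3 + 1 := finrank_sup h h' hm
  have hU0 := sing_sup h h' hp
  obtain ⟨o, ho, hoU⟩ := OrthAct.exists_iso_map hSp.good.nd
    (Submodule.equivMapOfInjective (Matrix.toLin' g.1) (toLin'_inj g) U) fun x => by
    rw [hU0 _ x.2]
    exact sing_map hg.1 hU0 _ (Submodule.equivMapOfInjective _ (toLin'_inj g) U x).2
  have hdo : dick o = 1 := by
    have h1 := hSp.cls_map hg.1 hU4 hU0
    rw [← hoU, hSp.cls_map_iso o hU4 hU0, hg.2, one_mul] at h1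
    rcases cls_eq_or (U₀ := baseU (3 + 1) F) U with h2 | h2 <;> rw [h2] at h1 <;> omega
  have hmem : ∀ {v : Fin (3 + 1) ⊕ Fin (3 + 1) → F}, v ∈ U → ap o v = g.1 *ᵥ v :=
    fun {v} hv => by rw [ho ⟨v, hv⟩]; rfl
  have huS : u ∉ Submodule.span F {w, u', w'} := by
    intro hu
    rw [Submodule.span_insert, Submodule.mem_sup] at hu
    obtain ⟨a, ha, b, hb, hab⟩ := hu
    obtain ⟨r, rfl⟩ := Submodule.mem_span_singleton.1 ha
    by_cases hb0 : b = 0
    · exact h.swap.ind (Submodule.mem_span_singleton.2 ⟨r, by rw [← hab, hb0, add_zero]⟩)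
    · refine hm ⟨b, hb0, ?_, hb⟩
      rw [show b = u - r • w by rw [← hab]; abel]
      exact sub_mem (AutPOmega.left_mem_ln _ _) (Submodule.smul_mem _ _ (AutPOmega.right_mem_ln _ _))
  obtain ⟨f₁, hf₁, huf⟩ := AutPOmega.exists_unit_orth H.nd huS
  obtain ⟨⟨p1, p2⟩, p3, p4⟩ := AutPOmega.perp_ln_iff.1 hp
  set f := f₁ - quadPlus (3 + 1) F f₁ • u with hf
  have hpair : Orth.HPair (quadPlus (3 + 1) F) u f := by
    refine ⟨h.qu, ?_, ?_⟩
    · rw [hf, Orth.Q_sub, Orth.Q_smul (Q := quadPlus (3 + 1) F) _ u, h.qu, Orth.pl_smul_right,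
        Orth.pl_comm (quadPlus (3 + 1) F) f₁ u, huf]
      ring
    · rw [hf, Orth.pl_sub_right, huf, Orth.pl_smul_right, Orth.pl_self, h.qu]; ring
  have hfx : ∀ v ∈ ({w, u', w'} : Set _), polar ⇑(quadPlus (3 + 1) F) u v = 0 ∧
      polar ⇑(quadPlus (3 + 1) F) f v = 0 := by
    intro v hv
    have hu : polar ⇑(quadPlus (3 + 1) F) u v = 0 := by
      rcases hv with rfl | rfl | rfl
      · exact h.p
      · exact p1
      · exact p2
    refine ⟨hu, ?_⟩
    rw [hf, Orth.pl_sub_left, Orth.pl_smul_left, Orth.pl_comm (quadPlus (3 + 1) F) f₁ v,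
      hf₁ v (Submodule.subset_span hv), hu]
    ring
  obtain ⟨c, hc0, hcs⟩ := OrthAct.exists_char_eq hSp.good o
  set z := OrthAct.torusStab (quadPlus (3 + 1) F) u f c with hz
  have hzfix : ∀ v ∈ ({w, u', w'} : Set _), ap z v = v := by
    intro v hv
    obtain ⟨q1, q2⟩ := hfx v hv
    rw [hz, OrthAct.torusStab, Orth.ap_mul,
      Orth.refl_ap_of_orth _ (show polar ⇑(quadPlus (3 + 1) F) (u + c • f) v = 0 by
        rw [Orth.pl_add_left, Orth.pl_smul_left, q1, q2]; ring),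
      Orth.refl_ap_of_orth _ (show polar ⇑(quadPlus (3 + 1) F) (u + f) v = 0 by
        rw [Orth.pl_add_left, q1, q2]; ring)]
  have hzu : ap z u = c • u := by
    have h1 : quadPlus (3 + 1) F (u + f) = 1 := by simpa using OrthAct.Q_plane hpair 1
    rw [hz, OrthAct.torusStab, Orth.ap_mul, Orth.refl_ap, Orth.refl_ap, OrthAct.Q_plane hpair, h1,
      inv_one, one_mul]
    simp only [Orth.pl_add_left, Orth.pl_smul_left, Orth.pl_sub_right, Orth.pl_smul_right,
      Orth.pl_add_right, Orth.pl_self, h.qu, hpair.qf, Orth.pl_comm (quadPlus (3 + 1) F) f u, hpair.pf, mul_zero, mul_one,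
      zero_add, add_zero]
    rw [inv_mul_cancel₀ hc0]
    module
  have hΩ : o * z ∈ Omega F ⇑(quadPlus (3 + 1) F) := (Orth.mem_omega_iff hSp.good _).2 ⟨by
      rw [Orth.dick_mul hSp.good, hdo, OrthAct.dick_torusStab hSp.good hpair hc0, one_mul], by
      rw [Orth.spin_mul hSp.good, OrthAct.spin_torusStab hSp.good hpair hc0, hcs]
      rcases Orth.spin_eq_or hSp.good o with h' | h' <;> rw [h'] <;> norm_num⟩
  have hin : ∀ {v}, v ∈ ln u w ∨ v ∈ ln u' w' → v ∈ U := fun hv =>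
    hv.elim Submodule.mem_sup_left Submodule.mem_sup_right
  refine ⟨AutPOmega.om (o * z), ?_, ?_⟩
  · rw [AutPOmega.conj_E H hΩ, hE u w h.qu h.p]
    refine (AutPOmega.same_iff H (h.map _) (hS u w h).1).2 ?_
    rw [Orth.ap_mul, Orth.ap_mul, hzu, hzfix w (by simp), map_smul, ln_smul_left hc0,
      ln_smul_right hd, hmem (hin (.inl (AutPOmega.left_mem_ln _ _))),
      hmem (hin (.inl (AutPOmega.right_mem_ln _ _)))]
  · rw [AutPOmega.conj_E H hΩ, hE u' w' h'.qu h'.p]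
    refine (AutPOmega.same_iff H (h'.map _) (hS u' w' h').1).2 ?_
    rw [Orth.ap_mul, Orth.ap_mul, hzfix u' (by simp), hzfix w' (by simp), ln_smul_right hd,
      hmem (hin (.inr (AutPOmega.left_mem_ln _ _))), hmem (hin (.inr (AutPOmega.right_mem_ln _ _)))]

/-- Conjugates of inner-diagonal automorphisms of `PΩ⁺₈` are inner-diagonal. -/
theorem conj_mem_inndiag (α : MulAut (POmega F ⇑Q4))
    {g : GL (Fin (3 + 1) ⊕ Fin (3 + 1)) F} (hg : g ∈ plusS (3 + 1) F (show 3 ≤ 3 + 1 by omega)) :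
    α * cA ⇑Q4 ⟨g, hg.1⟩ * α⁻¹ ∈ inndiagPOmegaPlus (3 + 1) F := by
  classical
  have H := basePlus (F := F) (k := 3) le_rfl
  set β : MulAut (POmega F ⇑Q4) := cA ⇑Q4 ⟨g, hg.1⟩ with hβ
  set β' := α * β * α⁻¹ with hβ'
  have hα : ∀ (z x : POmega F ⇑Q4), α (MulAut.conj z x) = MulAut.conj (α z) (α x) := fun z x => by
    simp [MulAut.conj_apply]
  have hαi : ∀ x, α (α⁻¹ x) = x := fun x => α.apply_symm_apply x
  have hβ'x : ∀ x, β' x = α (β (α⁻¹ x)) := fun x => rfl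
  -- `β'` moves every pair as an inner automorphism does
  have horb : ∀ x y, AutPOmega.IsRoot x → AutPOmega.IsRoot y → Commute x y → ¬ SameL x y →
      ¬ Coplanar x y → ∃ z, SameL (MulAut.conj z x) (β' x) ∧ SameL (MulAut.conj z y) (β' y) := by
    intro x y hx hy hc hs hcp
    obtain ⟨z, z1, z2⟩ := orbit_fix hg (hx.map H α⁻¹) (hy.map H α⁻¹) (hc.map α⁻¹)
      (fun h => hs ((AutPOmega.sameL_map_iff H α⁻¹).1 h))
      (fun h => hcp ((AutPOmega.coplanar_map_iff H α⁻¹).1 h))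
    refine ⟨α z, ?_, ?_⟩
    · have := (AutPOmega.sameL_map_iff H α).2 z1
      rwa [hα, hαi] at this
    · have := (AutPOmega.sameL_map_iff H α).2 z2
      rwa [hα, hαi] at this
  have hpres : AutPOmega.Pres Q4 β' := AutPOmega.pres_of_nc H β' fun x y hm hs hcp => by
    obtain ⟨z, z1, z2⟩ := horb x y hm.root.1 hm.root.2 (hm.commute H) hs hcp
    exact (hm.conj H z).sameL H z1 z2
  obtain ⟨g', σ, hsσ, hsemi⟩ := AutPOmega.exists_semi_eq_of_pres H hpres
  have hσfix : CoeffFixed ⇑Q4 σ := coeffFixed_plus σ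
  have hg' := FieldAut.sim_of_semisimilarity hσfix hsσ
  obtain ⟨c, hc⟩ := id hsσ
  -- the field part is trivial
  obtain ⟨e, f, he⟩ := Orth.exists_hpair H.nd (by have := H.seven; omega)
  obtain ⟨e2, f2, h2, he2, hf2, -, -⟩ := AutPOmega.exists_two_hpairs H he
  have hse := AutPOmega.spair_perp he he2 h2.ne_zero h2.qe
  have hsf := AutPOmega.spair_perp he hf2 h2.swap.ne_zero h2.qf
  have hne2 : polar ⇑Q4 e2 f2 ≠ 0 := by rw [h2.pf]; exact one_ne_zero
  obtain ⟨z, hz, -⟩ := horb (E Q4 e e2) (E Q4 e f2) ⟨e, e2, hse, rfl⟩ ⟨e, f2, hsf, rfl⟩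
    ((AutPOmega.commute_iff H hse hsf).2 (.inl ⟨e, he.ne_zero, AutPOmega.left_mem_ln _ _,
      AutPOmega.left_mem_ln _ _⟩))
    (fun h => hne2 (hse.ts (AutPOmega.right_mem_ln _ _)
      (show f2 ∈ ln e e2 from (AutPOmega.same_iff H hse hsf).1 h ▸ AutPOmega.right_mem_ln _ _)).2)
    (fun h => hne2 (((AutPOmega.coplanar_iff H hse hsf).1 h).2.2 _ (AutPOmega.right_mem_ln _ _) _
      (AutPOmega.right_mem_ln _ _)))
  set γ := (MulAut.conj z)⁻¹ * β' with hγ
  have hγx : SameL (γ (E Q4 e e2)) (E Q4 e e2) := by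
    have h0 := (AutPOmega.sameL_map_iff H (MulAut.conj z)⁻¹).2 hz.symm
    rwa [show (MulAut.conj z)⁻¹ (MulAut.conj z (E Q4 e e2)) = E Q4 e e2 from
      (MulAut.conj z).symm_apply_apply _] at h0
  obtain ⟨s, hs0, hs⟩ := AutPOmega.exists_smul_of_sameL H hse hγx
  set β₂ := (MulAut.conj (α⁻¹ z))⁻¹ * β with hβ₂
  have hlin2 : Lin Q4 β₂ := by
    rw [hβ₂, ← map_inv]
    intro u w u' w' h h' e' t
    obtain ⟨u1, w1, h1, e1⟩ := AutPOmega.IsRoot.map H β (x := E Q4 u w) ⟨u, w, h, rfl⟩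
    rw [MulAut.mul_apply, e1] at e'
    rw [MulAut.mul_apply, lin_cA (k := 3) le_rfl hg.1 u w u1 w1 h h1 e1 t,
      AutPOmega.lin_inner H (α⁻¹ z)⁻¹ u1 w1 u' w' h1 h' e' t]
  have hγα : ∀ x, γ x = α (β₂ (α⁻¹ x)) := fun x => by
    show (MulAut.conj z)⁻¹ (β' x) = α ((MulAut.conj (α⁻¹ z))⁻¹ (β (α⁻¹ x)))
    rw [hβ'x, ← map_inv MulAut.conj, ← map_inv MulAut.conj, hα, map_inv α, hαi]
  have hσ1 : σ = 1 := by
    refine RingEquiv.ext fun t => ?_
    rcases eq_or_ne t 0 with rfl | ht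
    · simp
    obtain ⟨zt, hzt⟩ := AutPOmega.exists_scaling H he he2 h2.ne_zero h2.qe ht
    -- the inner scaling commutes with `γ` on this root group
    have hcomm : γ (MulAut.conj zt (E Q4 e e2)) = MulAut.conj zt (γ (E Q4 e e2)) := by
      have hfix : SameL (MulAut.conj (α⁻¹ zt) (α⁻¹ (E Q4 e e2))) (α⁻¹ (E Q4 e e2)) := by
        rw [← AutPOmega.sameL_map_iff H α, hα, hαi, hαi, hzt]
        exact AutPOmega.sameL_smul H hse ht
      have hfix2 : SameL (β₂ (α⁻¹ (E Q4 e e2))) (α⁻¹ (E Q4 e e2)) := by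
        rw [← AutPOmega.sameL_map_iff H α, ← hγα, hαi]
        exact hγx
      have key := congrArg α (AutPOmega.Lin.comm_on H hlin2 (AutPOmega.lin_inner H _) hfix2 hfix)
      rw [hα, hαi, ← hγα] at key
      rw [← key, hγα]
      congr 2
      simp [MulAut.conj_apply]
    rw [hs, hzt, AutPOmega.lin_inner H zt e e2 e _ hse (hse.smul_right ht) hzt s] at hcomm
    -- the semilinear value
    have hQ : ∀ v, Q4 (g'.1 *ᵥ (σ ∘ v)) = (c : F) * σ (Q4 v) := hc
    set B := (c : F)⁻¹ • (g'.1 *ᵥ (σ ∘ e2))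
    have hβe : ∀ r : F, β' (E Q4 e (r • e2)) = E Q4 (g'.1 *ᵥ (σ ∘ e)) (σ r • B) := fun r => by
      rw [hsemi, show AutPOmega.semiAut Q4 hsσ = AutPOmega.semiAut Q4 (AutPOmega.semisim_of c.ne_zero hQ) from rfl,
        AutPOmega.semi_E H c.ne_zero hQ he.qe (by rw [Orth.pl_smul_right, hse.p, mul_zero]),
        show σ ∘ (r • e2) = σ r • (σ ∘ e2) by funext i; simp, Matrix.mulVec_smul, smul_comm (σ r)]
    have hB : SPair Q4 (g'.1 *ᵥ (σ ∘ e)) B := by
      have h1 : AutPOmega.IsRoot (β' (E Q4 e ((1 : F) • e2))) :=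
        AutPOmega.IsRoot.map H β' ⟨e, e2, hse, by rw [one_smul]⟩
      rw [hβe, map_one, one_smul] at h1
      have hU : g'.1 *ᵥ (σ ∘ e) ≠ 0 := fun h0 => he.ne_zero (funext fun i => by
        have h4 := Matrix.mulVec_injective_of_isUnit g'.isUnit
          (h0.trans (Matrix.mulVec_zero g'.1).symm)
        simpa using congrFun h4 i)
      refine ⟨by rw [hQ, he.qe, map_zero, mul_zero], ?_, ?_, hU, fun hm => ?_⟩
      · rw [Orth.Q_smul (Q := Q4) (c : F)⁻¹ (g'.1 *ᵥ (σ ∘ e2)), hQ, h2.qe, map_zero, mul_zero,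
          mul_zero]
      · rw [Orth.pl_smul_right, AutPOmega.semi_polar hQ, hse.p, map_zero, mul_zero, mul_zero]
      · obtain ⟨r, hr⟩ := Submodule.mem_span_singleton.1 hm
        refine h1.ne_one H ?_
        rw [AutPOmega.E_eq_one_iff H, ← hr, ← zero_add (r • _),
          Orth.eich_add_smul_self (by rw [hQ, he.qe, map_zero, mul_zero]) (Orth.pl_zero_right Q4 _),
          Orth.eich_zero]
    have hzB : (MulAut.conj z)⁻¹ (E Q4 (g'.1 *ᵥ (σ ∘ e)) B) = E Q4 e (s • e2) := by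
      rw [← hs, hγ, MulAut.mul_apply]
      conv_rhs => rw [← one_smul F e2, hβe, map_one, one_smul]
    have hval : γ (E Q4 e (t • e2)) = E Q4 e (σ t • (s • e2)) := by
      rw [hγ, MulAut.mul_apply, hβe, ← map_inv]
      rw [← map_inv] at hzB
      exact AutPOmega.lin_inner H z⁻¹ _ _ _ _ hB (hse.smul_right hs0) hzB (σ t)
    rw [hval] at hcomm
    have hst := AutPOmega.E_inj_perp H he ((Orth.perp Q4 e f).smul_mem _ ((Orth.perp Q4 e f).smul_mem _ he2))
      ((Orth.perp Q4 e f).smul_mem _ ((Orth.perp Q4 e f).smul_mem _ he2)) hcomm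
    rw [smul_smul, smul_smul] at hst
    have := smul_left_injective F h2.ne_zero hst
    show σ t = t
    exact mul_right_cancel₀ hs0 (this.trans (mul_comm s t))
  subst hσ1
  have hcA : β' = cA ⇑Q4 ⟨g', hg'⟩ := by
    rw [hsemi, semiAut_eq hσfix hsσ hg', phiP_one, mul_one]
  -- the classes are preserved
  have hpar : par (baseU (3 + 1) F) g' = 1 := by
    let v : Fin (3 + 1) → (Fin (3 + 1) ⊕ Fin (3 + 1) → F) := fun i => Pi.single (.inl i) 1
    have hQv : ∀ i, Q4 (v i) = 0 := fun i => by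
      rw [Orth.coe_quadPlus, quadFormPlus]
      exact Finset.sum_eq_zero fun j _ => by simp [v]
    have hpv : ∀ i j, polar ⇑Q4 (v i) (v j) = 0 := fun i j => by
      rw [Orth.coe_quadPlus, Orth.polar_quadPlus]
      exact Finset.sum_eq_zero fun l _ => by simp [v]
    have hsp : ∀ i j, i ≠ j → SPair Q4 (v i) (v j) := fun i j hij =>
      ⟨hQv i, hQv j, hpv i j, fun h0 => by simpa [v] using congrFun h0 (.inl i), fun hm => by
        obtain ⟨r, hr⟩ := Submodule.mem_span_singleton.1 hm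
        simpa [v, hij, hij.symm] using congrFun hr (.inl j)⟩
    have h01 := hsp 0 1 (by decide)
    have h23 := hsp 2 3 (by decide)
    have hnm : ¬ AutPOmega.Meet (ln (v 0) (v 1)) (ln (v 2) (v 3)) := by
      rintro ⟨p, hp0, hp1, hp2⟩
      obtain ⟨a, b, rfl⟩ := AutPOmega.mem_ln.1 hp1
      obtain ⟨a', b', hab⟩ := AutPOmega.mem_ln.1 hp2
      have k0 := congrFun hab (.inl 0)
      have k1 := congrFun hab (.inl 1)
      simp [v] at k0 k1
      exact hp0 (by rw [← k0, ← k1, zero_smul, zero_smul, add_zero])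
    have hperp : AutPOmega.Perp Q4 (ln (v 0) (v 1)) (ln (v 2) (v 3)) :=
      AutPOmega.perp_ln_iff.2 ⟨⟨hpv 0 2, hpv 0 3⟩, hpv 1 2, hpv 1 3⟩
    obtain ⟨w, w1, w2⟩ := horb _ _ ⟨_, _, h01, rfl⟩ ⟨_, _, h23, rfl⟩
      ((AutPOmega.commute_iff H h01 h23).2 (.inr hperp))
      (fun h => hnm ⟨v 0, h01.nu, AutPOmega.left_mem_ln _ _,
        (AutPOmega.same_iff H h01 h23).1 h ▸ AutPOmega.left_mem_ln _ _⟩)
      (fun h => hnm ((AutPOmega.coplanar_iff H h01 h23).1 h).2.1)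
    obtain ⟨o, ho, rfl⟩ := AutPOmega.exists_om w
    obtain ⟨d', hd', hS', hE'⟩ := cA_root (k := 3) le_rfl hg'
    rw [hcA, hE' _ _ h01.qu h01.p, AutPOmega.conj_E H ho,
      AutPOmega.same_iff H (h01.map o) (hS' _ _ h01).1, (hS' _ _ h01).2, ← AutPOmega.map_ln] at w1
    rw [hcA, hE' _ _ h23.qu h23.p, AutPOmega.conj_E H ho,
      AutPOmega.same_iff H (h23.map o) (hS' _ _ h23).1, (hS' _ _ h23).2, ← AutPOmega.map_ln] at w2
    have hSp := splitPlus (F := F) (show 3 ≤ 3 + 1 by omega)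
    set U := ln (v 0) (v 1) ⊔ ln (v 2) (v 3)
    have hUeq : U.map (Matrix.toLin' g'.1) = U.map (ap o) := by
      rw [Submodule.map_sup, Submodule.map_sup, w1, w2]
    have h1 := hSp.cls_map hg' (finrank_sup h01 h23 hnm) (sing_sup h01 h23 hperp)
    rw [hUeq, hSp.cls_map_iso o (finrank_sup h01 h23 hnm) (sing_sup h01 h23 hperp),
      ((Orth.mem_omega_iff hSp.good o).1 ho).1, one_mul] at h1
    rcases cls_eq_or (U₀ := baseU (3 + 1) F) U with h2' | h2' <;> rw [h2'] at h1 <;> omega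
  show β' ∈ _
  rw [hcA]
  exact cA_mem_inndiag (by omega) (g := g') ⟨hg', hpar⟩

theorem inndiagPlus_normal_all (hk : 3 ≤ k) (α : MulAut (POmega F QPf)) :
    α ∈ Subgroup.normalizer (inndiagPOmegaPlus (k + 1) F : Set (MulAut (POmega F QPf))) := by
  rcases hk.eq_or_lt with h | h
  · subst h
    have key : ∀ (α : MulAut (POmega F (quadFormPlus (3 + 1) F))),
        ∀ x ∈ inndiagPOmegaPlus (3 + 1) F, α * x * α⁻¹ ∈ inndiagPOmegaPlus (3 + 1) F := by
      intro α x hx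
      obtain ⟨g, hg, rfl⟩ := exists_of_mem_inndiag (by omega) hx
      exact conj_mem_inndiag α hg
    exact Subgroup.mem_normalizer_iff.2 fun x => ⟨key α x, fun hx => by
      have := key α⁻¹ _ hx
      simpa [mul_assoc] using this⟩
  · exact inndiagPlus_normal h α

theorem setupPlusAll (hk : 3 ≤ k) (σ : F ≃+* F) {r : ℕ} (hσ : orderOf σ = r) (hr : r.Prime) :
    Setup (omMat QPf) (plusS (k + 1) F (by omega)) σ r :=
  ⟨rigid_of_base (basePlus (F := F) hk), ⟨.inl 0⟩, keep_plusS _, keep_gal_om (coeffFixed_plus σ),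
    fun _ => plusS_stable _ σ, hσ, hr.pos⟩

theorem plus_field_reduce_all (hk : 3 ≤ k) {x : MulAut (POmega F QPf)}
    (hx : IsFieldAutClassPOmega QPf x) {r : ℕ} (hr : r.Prime) (hxr : orderOf x = r) :
    ∃ (σ : F ≃+* F) (D : Setup (omMat QPf) (plusS (k + 1) F (show 3 ≤ k + 1 by omega)) σ r)
      (α : MulAut (POmega F QPf)),
      α ∈ Subgroup.normalizer (inndiagPOmegaPlus (k + 1) F : Set (MulAut (POmega F QPf))) ∧
        D.G = inndiagPOmegaPlus (k + 1) F ∧ α * x * α⁻¹ = D.phi := by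
  obtain ⟨α, φ, σ, hσ1, hφ, hαx⟩ := hx
  have hφ' := (isFieldAut_iff (coeffFixed_plus σ) φ).1 hφ
  have hord : orderOf σ = r := by
    refine orderOf_aut_eq_base (basePlus (F := F) hk) (coeffFixed_plus σ) (fun n => coeffFixed_plus _) hσ1
      hr ?_
    show phiP (coeffFixed_plus σ) ^ r = 1
    rw [← hφ', ← hαx, ← MulAut.conj_apply, ← map_pow, ← hxr, pow_orderOf_eq_one, map_one]
  exact ⟨σ, setupPlusAll hk σ hord hr, α, inndiagPlus_normal_all hk α,
    (inndiagPlus_range (by omega)).symm, hαx.trans hφ'⟩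

end Cfsg.Agent.OrthEven
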